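/-
`E₈(3)` has no maximal subgroup with socle `L₂(81)`: definitions.
-/
import Cfsg.Agent.KSG.E82.Defs
import Cfsg.Agent.KSG.E83.L2b

set_option autoImplicit false
set_option backward.isDefEq.respectTransparency false

namespace CL.E81
open Module Function Finset CL.SL2Wt CL.Chev CL.AltE Cfsg.Lie
open CL.E82 (R8 val ww)
open CL.E83 (K3 G3)
open Matrix hiding zpow_add zpow_mul zpow_sub one_zpow
open scoped MatrixGroups

/-! ### the group and its adjoint module -/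

/-- the algebraic group -/
abbrev Γ3 := chevE8.SteinbergGroup K3
/-- the adjoint module -/
abbrev V3 := chevE8.Idx → K3

theorem exA : ∃ p : (K3 →+* K3) × Monoid.End Γ3 × (G3 →* Γ3), (stS chevE8 K3).Alg p.1 3 p.2.1 ∧ Injective p.2.2 ∧
    (∀ y, y ∈ p.2.2.range ↔ p.2.1 y = y) ∧
    ∀ r t, p.2.2 ((stG chevE8 (ZMod 3)).x r t) = (stS chevE8 K3).x r (algebraMap (ZMod 3) K3 t) := by
  obtain ⟨φ, σ, ψ, A, h⟩ := exists_alg (F := ZMod 3) (D := chevE8) (by simp) card_ker_E8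
  rw [ZMod.card] at A
  exact ⟨(φ, σ, ψ), A, h⟩

/-- Frobenius of the field -/
noncomputable def phi : K3 →+* K3 := exA.choose.1
/-- Frobenius of the algebraic group -/
noncomputable def sig : Monoid.End Γ3 := exA.choose.2.1
/-- the finite group in the algebraic group -/
noncomputable def psi : G3 →* Γ3 := exA.choose.2.2
theorem alg : (stS chevE8 K3).Alg phi 3 sig := exA.choose_spec.1
theorem psi_inj : Injective psi := exA.choose_spec.2.1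
theorem psi_range (y : Γ3) : y ∈ psi.range ↔ sig y = y := exA.choose_spec.2.2.1 y
theorem psi_x (r : R8) (t : ZMod 3) :
    psi ((stG chevE8 (ZMod 3)).x r t) = (stS chevE8 K3).x r (algebraMap (ZMod 3) K3 t) := exA.choose_spec.2.2.2 r t
theorem phi_apply (x : K3) : phi x = x ^ 3 := alg.frob.apply x

/-- the adjoint representation of the algebraic group -/
noncomputable def rG : Γ3 →* End K3 V3 := (toEnd _ K3).comp ((adj chevE8 K3).comp (thetaS chevE8 K3))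
/-- the adjoint representation of the finite group -/
noncomputable def rho : G3 →* End K3 V3 := rG.comp psi
/-- root elements -/
noncomputable abbrev XG (r : R8) (c : K3) : Γ3 := (stS chevE8 K3).x r c
/-- the torus -/
noncomputable abbrev tor8 : (Fin 8 → K3ˣ) →* Γ3 := alg.r3.torHom
/-- root characters -/
noncomputable abbrev ch (t : Fin 8 → K3ˣ) (r : R8) : K3ˣ := uchr t ((rootSys chevE8).wt r)
/-- root vectors -/
noncomputable abbrev ee (r : R8) : V3 := bas chevE8 K3 r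
/-- coroot vectors -/
noncomputable abbrev hh (r : R8) : V3 := hv K3 r
/-- Frobenius of the module -/
noncomputable def Fr (v : V3) : V3 := fun i => v i ^ 3
/-- the value of the root `r` at the Cartan component of `v` -/
noncomputable def lam (r : R8) (v : V3) : K3 := ∑ i : Fin 8, v (Sum.inl i) * (A (sm (D := chevE8) i) r : K3)

theorem rG_x (r : R8) (c : K3) (v : V3) : rG (XG r c) v = xR chevE8 K3 r c *ᵥ v := by
  change adj chevE8 K3 (thetaS chevE8 K3 _) *ᵥ v = _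
  rw [thetaS_x]; rfl

theorem rho_apply (g : G3) : rho g = rG (psi g) := rfl

/-- coordinates -/
noncomputable def pr (i : chevE8.Idx) : V3 →ₗ[K3] K3 := LinearMap.proj i
theorem pr_apply (i : chevE8.Idx) (v : V3) : pr i v = v i := rfl
/-- `ad e_r` -/
noncomputable def adE (r : R8) : End K3 V3 := rG (XG r (-1)) - rG (XG r 1)
/-- `ad h_i` -/
noncomputable def adH (i : Fin 8) : End K3 V3 :=
  toEnd _ K3 (diagonal (Sum.elim (fun _ => 0) fun s => (A (sm (D := chevE8) i) s : K3)))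
/-- the Lie bracket -/
noncomputable def br : V3 →ₗ[K3] V3 →ₗ[K3] V3 :=
  ∑ r : R8, (pr (Sum.inr r)).smulRight (adE r) + ∑ i : Fin 8, (pr (Sum.inl i)).smulRight (adH i)
/-- roots as functionals -/
noncomputable def lamL (r : R8) : V3 →ₗ[K3] K3 := ∑ i : Fin 8, (A (sm (D := chevE8) i) r : K3) • pr (Sum.inl i)
/-- the invariant form -/
noncomputable def kap : V3 →ₗ[K3] V3 →ₗ[K3] K3 :=
  ∑ r : R8, (pr (Sum.inr r)).smulRight (pr (Sum.inr (ng r))) + ∑ i : Fin 8, (pr (Sum.inl i)).smulRight (lamL (sm i))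
/-- orthogonal complement -/
noncomputable def pp (N : Submodule K3 V3) : Submodule K3 V3 := N.dualAnnihilator.comap kap
theorem mem_pp {N : Submodule K3 V3} {v : V3} : v ∈ pp N ↔ ∀ u ∈ N, kap v u = 0 := by
  rw [pp, Submodule.mem_comap, Submodule.mem_dualAnnihilator]
/-- Frobenius twist of a subspace -/
noncomputable def frS (N : Submodule K3 V3) : Submodule K3 V3 := Submodule.span K3 (Fr '' N)

/-! ### semisimple classes -/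

/-- `g` is conjugate to the torus element with Kac coordinates `c` -/
def IsCls (z : K3ˣ) (c : Fin 8 → ℕ) (g : G3) : Prop :=
  ∃ y t, y * psi g * y⁻¹ = tor8 t ∧ ∀ r, ch t r = z ^ val c r
/-- eigenvalue multiplicities -/
def mu (n : ℕ) (c : Fin 8 → ℕ) (k : ℕ) : ℕ := #{r : R8 | val c r ≡ k [ZMOD n]} + if k ≡ 0 [MOD n] then 8 else 0
/-- Kac points of order 40 -/
def L40 : List (List ℕ) := [[0, 0, 0, 0, 0, 1, 2, 6], [0, 0, 1, 1, 0, 3, 0, 9], [0, 0, 1, 1, 2, 3, 0, 4], [0, 1, 1, 3, 0, 2, 0, 2], [0, 2, 1, 0, 0, 6, 1, 0], [0, 3, 0, 0, 1, 6, 0, 0], [0, 6, 1, 0, 0, 2, 1, 0], [1, 0, 1, 0, 2, 2, 1, 5], [1, 0, 3, 1, 1, 2, 1, 2], [1, 1, 0, 2, 2, 0, 2, 3], [1, 1, 1, 1, 1, 3, 1, 2], [1, 1, 3, 0, 0, 0, 4, 3], [1, 2, 0, 1, 0, 3, 1, 4], [1, 2, 0, 2, 1, 1, 1, 3], [1, 2, 2, 0, 1, 1, 3, 1], [1, 2, 2, 1, 1, 1, 1, 1], [1, 4, 0, 0, 0, 3, 2, 2], [2, 0, 0, 0, 0, 4, 1, 7],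 [2, 0, 0, 1, 4, 0, 3, 0], [2, 0, 6, 1, 0, 0, 0, 3], [2, 1, 0, 0, 0, 0, 6, 4], [2, 1, 2, 0, 3, 1, 1, 0], [2, 3, 1, 0, 1, 3, 0, 1], [2, 5, 0, 0, 0, 1, 2, 5], [3, 0, 0, 0, 0, 1, 1, 7], [3, 0, 0, 0, 0, 1, 6, 2], [3, 0, 0, 3, 1, 0, 1, 0], [3, 0, 1, 0, 4, 1, 2, 0], [3, 0, 1, 1, 1, 2, 0, 1], [3, 0, 1, 1, 2, 1, 3, 0], [3, 0, 1, 3, 0, 1, 0, 4], [3, 1, 0, 0, 1, 1, 3, 4], [3, 1, 1, 1, 1, 1, 1, 1], [3, 1, 2, 1, 0, 0, 0, 4], [3, 1, 4, 0, 0, 0, 3, 1], [4, 1, 0, 1, 0, 2, 1, 0], [4, 1, 0, 1, 2, 1, 0, 2], [4, 1, 3, 0, 1, 1, 0, 3], [4, 1, 6, 0, 0, 0, 0, 2], [4, 2, 0, 1, 0, 1, 1, 3], [4, 2, 3, 0, 0, 1, 1, 3], [4, 3, 1, 0, 0, 0, 1, 2], [5, 0, 0, 1, 0, 2, 0, 1], [5, 2, 0, 0, 1, 0, 0, 4], [5, 2, 1, 0, 0, 2, 3, 1], [6, 0, 2, 1, 0, 0, 0, 7], [6, 2, 0, 0, 1, 0, 0, 0], [7, 0, 0, 0, 0, 0, 4, 6], [7, 0, 0, 0, 0, 1, 2, 6], [7, 0, 0, 2, 0, 3, 0, 1], [7, 0, 1, 1, 0, 3, 0, 2]]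
/-- Kac points of order 41 -/
def L41 : List (List ℕ) := [[0, 1, 6, 0, 1, 0, 2, 0], [1, 0, 0, 0, 0, 2, 4, 7], [1, 1, 0, 1, 0, 3, 0, 9], [1, 1, 1, 1, 2, 2, 1, 2], [2, 1, 1, 1, 1, 1, 3, 1], [2, 1, 2, 1, 1, 1, 2, 2], [3, 0, 0, 0, 0, 1, 1, 7], [3, 0, 0, 3, 1, 0, 1, 0], [3, 1, 1, 1, 1, 1, 1, 1], [4, 1, 1, 1, 1, 2, 1, 1], [5, 0, 0, 1, 0, 2, 0, 2], [5, 0, 0, 2, 0, 3, 1, 0], [6, 0, 0, 0, 0, 2, 2, 1], [7, 0, 0, 0, 0, 1, 2, 6], [7, 0, 0, 0, 0, 4, 1, 3]]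
/-- the classes of the split torus element in the six cases -/
def CT : Fin 6 → Fin 8 → ℕ := ![![3, 0, 0, 0, 0, 1, 1, 7], ![7, 0, 0, 0, 0, 1, 2, 6], ![3, 0, 0, 3, 1, 0, 1, 0],
  ![3, 1, 1, 1, 1, 1, 1, 1], ![1, 1, 1, 1, 1, 3, 1, 2], ![5, 0, 0, 1, 0, 2, 0, 1]]
/-- the extra involutions -/
def BZ : Fin 6 → Fin 8 → ℕ := ![![1, 0, 0, 0, 0, 1, 0, 0], ![1, 0, 0, 0, 0, 0, 0, 0], ![0, 0, 0, 1, 0, 0, 1, 0],
  ![0, 1, 1, 0, 0, 1, 0, 1], ![0, 0, 1, 1, 0, 1, 0, 0], ![1, 0, 0, 1, 0, 0, 0, 1]]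
/-- the twisting words -/
def LW : Fin 6 → List (Fin 8) := ![[7, 5, 4, 3, 2, 1, 3, 4, 5, 6, 0, 2, 3, 4, 5, 1, 3, 4, 2, 3, 0, 2, 1, 3, 4, 5, 6, 7],
  [6, 7, 0, 2, 3, 4, 5, 1, 3, 4, 2, 3, 0, 2, 1, 3, 4, 5, 6, 5, 4, 3, 2, 1, 3, 4, 5, 0, 2, 3, 4, 1, 3, 2, 0],
  [4, 5, 3, 4, 2, 3, 0, 2, 1, 3, 4, 5, 6, 7, 2, 3, 0, 2, 1, 3, 4, 5, 6, 3, 2, 1, 3, 4, 5, 0, 2, 3, 4, 1, 3, 2, 0],
  [5, 4, 2, 3, 0, 2, 1, 3, 4, 5, 6, 7, 4, 2, 3, 0, 2, 1, 3, 4, 5, 6, 5, 4, 3, 2, 1, 3, 4, 5, 0, 2, 3, 4, 1, 3, 2, 0],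
  [2, 1, 3, 4, 5, 6, 7, 2, 1, 3, 4, 5, 6, 0, 2, 3, 4, 5, 1, 3, 4, 2, 3, 0, 2, 1, 3, 4, 5, 6, 7, 6, 2, 3, 4, 5, 1, 3, 4, 2, 3, 0, 2, 1, 3, 4, 5, 6],
  [3, 2, 1, 3, 4, 5, 6, 7, 3, 2, 1, 3, 4, 5, 6, 0, 2, 3, 4, 5, 1, 3, 4, 2, 3, 0, 2, 1, 3, 4, 5, 6, 7, 0, 2, 3, 4, 5, 1, 3, 4, 2, 3, 0, 2, 1, 3, 4, 5, 6, 5, 4, 3, 2, 1, 3, 4, 5, 0, 2, 3, 4, 1, 3, 2, 0]]
/-- the composition factors in the six cases -/
def RL : Fin 6 → List ℕ := ![[0, 0, 0, 0, 0, 0, 0, 0, 0, 0, 0, 0, 0, 0, 0, 0, 0, 0, 0, 0, 0, 0, 0, 0, 0, 0, 0, 0, 2, 4, 4, 4, 4, 4, 4, 4, 4, 6, 10, 10, 10, 10, 10, 10, 10, 10, 12, 12, 12, 12, 12, 12, 12, 12, 18, 28, 28, 28, 28, 28, 28, 28, 28, 30, 30, 30, 30, 30, 30, 30, 30, 36, 36, 36, 36, 36, 36, 36, 36, 40, 54],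
  [0, 0, 0, 0, 0, 0, 2, 2, 2, 2, 2, 6, 6, 6, 6, 6, 8, 18, 18, 18, 18, 18, 20, 24, 40, 40, 40, 40, 40, 40, 40, 40, 54, 54, 54, 54, 54, 56, 60, 72],
  [0, 0, 2, 2, 2, 6, 6, 6, 10, 10, 10, 10, 16, 16, 18, 18, 18, 20, 30, 30, 30, 30, 32, 32, 40, 40, 40, 40, 48, 48, 54, 54, 54, 60, 64, 64],
  [2, 2, 4, 4, 6, 6, 10, 10, 12, 12, 14, 16, 18, 18, 22, 28, 28, 30, 30, 32, 34, 36, 36, 38, 40, 40, 42, 46, 48, 54, 54, 58, 64, 66],
  [2, 4, 6, 12, 14, 18, 26, 28, 36, 40, 40, 40, 40, 42, 46, 54, 58, 62, 74, 78],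
  [0, 0, 0, 0, 2, 4, 6, 12, 18, 26, 26, 28, 36, 54, 62, 62, 74, 74, 78, 78]]

/-- a frame: the twisted torus containing `s` -/
structure Frm (s : G3) (y m : Γ3) (w : Equiv.Perm R8) (t : Fin 8 → K3ˣ) : Prop where
  acts : (stS chevE8 K3).Acts m w
  lang : m = y * (sig y)⁻¹
  conj : y * psi s * y⁻¹ = tor8 t
  me : ∀ r, ∃ ε : K3, (ε = 1 ∨ ε = -1) ∧ rG m (ee r) = ε • ee (w r)
  mh : ∀ r, rG m (hh r) = hh (w r)

/-- the twisting element -/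
noncomputable def wW (a : Fin 6) : Equiv.Perm R8 := ((LW a).map (rootSys chevE8).sp).prod

/-- the frame of case `a` with the extra involution `z` -/
structure Fz (ξ : K3ˣ) (a : Fin 6) (s z : G3) (y m : Γ3) (t t' : Fin 8 → K3ˣ) : Prop where
  ord : orderOf ξ = 40
  frm : Frm s y m (wW a) t
  ht : ∀ r, ch t r = ξ ^ val (CT a) r
  hz : y * psi z * y⁻¹ = tor8 t'
  ht' : ∀ r, ch t' r = (-1) ^ val (BZ a) r

/-- eigenspaces -/
noncomputable abbrev Es (s : G3) (ξ : K3ˣ) (k : ℕ) : Submodule K3 V3 := (rho s).eigenspace ((ξ : K3) ^ k)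
/-- the weights `±3^i` modulo 40 -/
def X8 : List ℕ := [1, 3, 9, 27, 39, 37, 31, 13]

/-! ### `SL₂(81)` -/

/-- the data of `SL₂(81)` -/
structure Dt (F : Type*) [Field F] [Fintype F] where
  f : F →+* K3
  c : Fˣ
  s : SL(2, F)
  η : K3ˣ
  card : Fintype.card F = 81
  hc : orderOf c = 80
  hη : orderOf η = 82
  ev : Ev f s η

/-- a normal subgroup `L₂(F)` with trivial centraliser -/
structure Emb {F G : Type*} [Field F] [Group G] (H : Subgroup G) (θ : SL(2, F) →* G) : Prop where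
  ker : ∀ g, θ g = 1 ↔ g = 1 ∨ g = -1
  le : ∀ g, θ g ∈ H
  norm : ∀ h ∈ H, ∀ g, ∃ g', h * θ g * h⁻¹ = θ g'
  cen : ∀ h ∈ H, (∀ g, Commute h (θ g)) → h = 1

variable {F : Type*} [Field F] [Fintype F] (D : Dt F)

/-- the split torus element `diag(c, c⁻¹)` -/
def Dt.t : SL(2, F) := dg D.c⁻¹
/-- its eigenvalue -/
noncomputable def Dt.ζ : K3ˣ := Units.map D.f.toMonoidHom D.c

/-- the indices of the weights `r - 2j` of the simple module `L(r)` -/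
def JJ (r : ℕ) : Finset ℕ :=
  (range 81).filter fun j => j % 3 ≤ r % 3 ∧ j / 3 % 3 ≤ r / 3 % 3 ∧ j / 9 % 3 ≤ r / 9 % 3 ∧ j / 27 ≤ r / 27
/-- multiplicity of the weight `k` modulo `n` in `L(r)` -/
def cw (n r k : ℕ) : ℕ := #((JJ r).filter fun j => (r + (n - 2) * j) % n = k % n)
/-- Frobenius twist of the highest weights -/
def tw (r : ℕ) : ℕ := 3 * (r % 27) + r / 27
/-- the types with even digits -/
def EV : List ℕ := [0, 2, 6, 8, 18, 20, 24, 26, 54, 56, 60, 62, 72, 74, 78, 80]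
/-- the number of factors with non-trivial first cohomology -/
def cL (R : Multiset ℕ) : ℕ := R.count 4 + R.count 12 + R.count 36 + R.count 28

variable {W : Type} [AddCommGroup W] [Module K3 W] (ρ : SL(2, F) →* End K3 W)

/-- `R` is the multiset of the highest weights of the composition factors -/
def Ty (R : Multiset ℕ) : Prop := (∀ r ∈ R, r < 81) ∧ IsEig (ρ D.t) (R.bind (wts · (D.ζ : K3))) ∧
  IsEig (ρ D.s) (R.bind (wts · (D.η : K3)))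

/-- invariant subspaces -/
def Inv (U : Submodule K3 W) : Prop := ∀ g, ∀ v ∈ U, ρ g v ∈ U
/-- simple submodules -/
def Sm (N : Submodule K3 W) : Prop := Inv ρ N ∧ N ≠ ⊥ ∧ ∀ U, Inv ρ U → U ≤ N → U = ⊥ ∨ U = N
/-- subrepresentation -/
noncomputable def subR (U : Submodule K3 W) (hU : Inv ρ U) : SL(2, F) →* End K3 U :=
  ⟨⟨fun g => (ρ g).restrict (hU g), by ext; simp⟩, fun g h => by ext; simp⟩
/-- quotient representation -/
noncomputable def quoR (U : Submodule K3 W) (hU : Inv ρ U) : SL(2, F) →* End K3 (W ⧸ U) :=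
  ⟨⟨fun g => U.mapQ U (ρ g) (hU g), by ext; simp⟩, fun g h => by ext; simp⟩
omit [Fintype F] in
theorem subR_val (U : Submodule K3 W) (hU : Inv ρ U) (g : SL(2, F)) (v : U) : (subR ρ U hU g v : W) = ρ g v := rfl
omit [Fintype F] in
theorem quoR_mk (U : Submodule K3 W) (hU : Inv ρ U) (g : SL(2, F)) (v : W) :
    quoR ρ U hU g (U.mkQ v) = U.mkQ (ρ g v) := rfl
/-- no fixed vectors -/
def NoFix : Prop := ∀ v, (∀ g, ρ g v = v) → v = 0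
/-- simple module of highest weight `r` with its polynomial model -/
structure Simp (r : ℕ) (φ : Dual K3 W) (z : W) : Prop where
  lt : r < 81
  ty : Ty D ρ {r}
  top : ∀ g, φ (ρ g z) = D.f (g 1 0) ^ r
  inj : ∀ x, (∀ g, φ (ρ g x) = 0) → x = 0
  span : Submodule.span K3 (Set.range fun h => ρ h z) = ⊤
/-- divided powers -/
noncomputable def XX (m : ℕ) : End K3 W := if m = 0 then 1 else -∑ a : F, D.f a ^ (80 - m) • ρ (up a)
/-- the four generators -/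
noncomputable abbrev EE (i : Fin 4) : End K3 W := XX D ρ (3 ^ (i : ℕ))
/-- weight spaces of the split torus -/
noncomputable abbrev Wt (k : ℕ) : Submodule K3 W := (ρ D.t).eigenspace ((D.ζ : K3) ^ k)
/-- weight spaces of the non-split torus -/
noncomputable abbrev Ws (k : ℕ) : Submodule K3 W := (ρ D.s).eigenspace ((D.η : K3) ^ k)
/-- cocycles of the Borel subgroup -/
noncomputable def ZZ : Submodule K3 (Fin 4 → W) :=
  (⨅ i : Fin 4, (Wt D ρ (2 * 3 ^ (i : ℕ))).comap (LinearMap.proj i)) ⊓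
  ((⨅ i : Fin 4, ⨅ j : Fin 4, LinearMap.ker (EE D ρ i ∘ₗ LinearMap.proj j - EE D ρ j ∘ₗ LinearMap.proj i)) ⊓
    ⨅ i : Fin 4, LinearMap.ker (EE D ρ i ∘ₗ EE D ρ i ∘ₗ LinearMap.proj i))
theorem mem_ZZ {y : Fin 4 → W} : y ∈ ZZ D ρ ↔ (∀ i : Fin 4, y i ∈ Wt D ρ (2 * 3 ^ (i : ℕ))) ∧
    (∀ i j, EE D ρ i (y j) = EE D ρ j (y i)) ∧ ∀ i, EE D ρ i (EE D ρ i (y i)) = 0 := by
  simp only [ZZ, Submodule.mem_inf, Submodule.mem_iInf, Submodule.mem_comap, LinearMap.mem_ker, LinearMap.sub_apply,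
    LinearMap.comp_apply, LinearMap.proj_apply, sub_eq_zero]
/-- the composition factors of a subspace, by dimensions -/
def TyN (N : Submodule K3 W) (R : Multiset ℕ) : Prop := (∀ r ∈ R, r < 81) ∧
  (∀ k, finrank K3 ↥(N ⊓ Wt D ρ k) = (R.map (cw 80 · k)).sum) ∧ ∀ k, finrank K3 ↥(N ⊓ Ws D ρ k) = (R.map (cw 82 · k)).sum
/-- the composition factors of a submodule -/
noncomputable def RR (N : Submodule K3 W) : Multiset ℕ := Classical.epsilon (TyN D ρ N)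

/-- the adjoint module restricted -/
noncomputable abbrev rh (θ : SL(2, F) →* G3) : SL(2, F) →* End K3 V3 := rho.comp θ

/-- the counterexample, case `a` -/
structure Su (H : Subgroup G3) (θ : SL(2, F) →* G3) (a : Fin 6) : Prop where
  emb : Emb H θ
  max : IsCoatom H
  cls : IsCls (D.ζ ^ 2) (CT a) (θ D.t)
  rr : RR D (rh θ) ⊤ = (RL a : Multiset ℕ)

end CL.E81
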