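/-
`E₈(3)`, `L₂(81)`: divided powers, basic facts.
-/
import Cfsg.Agent.KSG.E81.Defs
import Cfsg.Agent.KSG.E81.DivG

set_option autoImplicit false
set_option backward.isDefEq.respectTransparency false

namespace CL.E81.Div0
open Module Function Finset CL.SL2Wt
open CL.E82 (ww)
open CL.E83 (K3)
open scoped MatrixGroups

variable {F : Type*} [Field F] [Fintype F] (D : Dt F) {W : Type} [AddCommGroup W] [Module K3 W]
  (ρ : SL(2, F) →* End K3 W)

theorem XX_eq (m : ℕ) : XX D ρ m = DivG.X D.f ρ m := by rw [XX, DivG.X, D.card]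

theorem XX0 : XX D ρ 0 = 1 := if_pos rfl

theorem up_eq (b : F) : ρ (up b) = ∑ m ∈ range 81, D.f b ^ m • XX D ρ m := by
  simp only [XX_eq, DivG.up_eq D.f ρ b, D.card]

theorem up_ap (b : F) (v : W) : ρ (up b) v = ∑ m ∈ range 81, D.f b ^ m • XX D ρ m v := by
  simp only [up_eq D ρ b, LinearMap.coe_sum, Finset.sum_apply, LinearMap.smul_apply]

theorem coeff_zero {M : Type*} [AddCommGroup M] [Module K3 M] (x : ℕ → M)
    (h : ∀ b : F, ∑ m ∈ range 81, D.f b ^ m • x m = 0) : ∀ m < 81, x m = 0 :=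
  D.card ▸ DivG.coeff_zero D.f x (D.card ▸ h)

theorem XX_mul {m n : ℕ} (hm : m < 81) (hn : n < 81) : XX D ρ m * XX D ρ n =
    if m + n < 81 then (((m + n).choose m : ℕ) : K3) • XX D ρ (m + n) else 0 := by
  simp only [XX_eq]
  rw [DivG.X_mul D.f ρ (D.card ▸ hm) (D.card ▸ hn), D.card]

theorem XX_comm {m n : ℕ} (hm : m < 81) (hn : n < 81) : Commute (XX D ρ m) (XX D ρ n) := by
  simp only [XX_eq]
  exact DivG.X_comm D.f ρ (D.card ▸ hm) (D.card ▸ hn)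

theorem XX_wt {m : ℕ} (hm : m < 81) {k : ℕ} {v : W} (hv : v ∈ Wt D ρ k) : XX D ρ m v ∈ Wt D ρ (k + 2 * m) := by
  rw [End.mem_eigenspace_iff] at hv ⊢
  rw [XX_eq, pow_add]
  exact DivG.X_wt D.f ρ D.c (D.card ▸ hm) hv

theorem lt (i : Fin 4) : 3 ^ (i : ℕ) < 81 := by revert i; decide

theorem EE_wt (i : Fin 4) {k : ℕ} {v : W} (hv : v ∈ Wt D ρ k) : EE D ρ i v ∈ Wt D ρ (k + 2 * 3 ^ (i : ℕ)) :=
  XX_wt D ρ (lt i) hv

theorem EE_comm (i j : Fin 4) : Commute (EE D ρ i) (EE D ρ j) := XX_comm D ρ (lt i) (lt j)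

/-- one more factor -/
theorem EE_mul (i : Fin 4) {m : ℕ} (hm : m < 81) : EE D ρ i * XX D ρ m =
    if m / 3 ^ (i : ℕ) % 3 = 2 then 0 else ((m / 3 ^ (i : ℕ) % 3 + 1 : ℕ) : K3) • XX D ρ (3 ^ (i : ℕ) + m) := by
  have h : ∀ i : Fin 4, ∀ m < 81, (3 ^ (i : ℕ) + m).choose (3 ^ (i : ℕ)) % 3 = (m / 3 ^ (i : ℕ) % 3 + 1) % 3 ∧
      (m / 3 ^ (i : ℕ) % 3 ≠ 2 → 3 ^ (i : ℕ) + m < 81) := by
    simp only [Nat.choose_eq_fast_choose]
    decide +kernel
  obtain ⟨a, b⟩ := h i m hm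
  rw [XX_mul D ρ (lt i) hm, CharP.cast_eq_mod K3 3, a, ← CharP.cast_eq_mod K3 3]
  split_ifs with c d d
  · rw [d, CharP.cast_eq_zero K3 3, zero_smul]
  · rfl
  · rfl
  · exact absurd (b d) c

theorem EE_sq (i : Fin 4) : EE D ρ i * EE D ρ i = -XX D ρ (2 * 3 ^ (i : ℕ)) := by
  have h : 3 ^ (i : ℕ) / 3 ^ (i : ℕ) % 3 = 1 := by revert i; decide
  have e : ((1 + 1 : ℕ) : K3) = -1 := by
    have := CharP.cast_eq_zero K3 3
    push_cast at this ⊢
    linear_combination this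
  rw [EE_mul D ρ i (lt i), h, if_neg (by decide), e, two_mul, neg_one_smul]

theorem EE_cube (i : Fin 4) : EE D ρ i * (EE D ρ i * EE D ρ i) = 0 := by
  have h : 2 * 3 ^ (i : ℕ) < 81 ∧ 2 * 3 ^ (i : ℕ) / 3 ^ (i : ℕ) % 3 = 2 := by revert i; decide
  rw [EE_sq, mul_neg, EE_mul D ρ i h.1, if_pos h.2, neg_zero]

/-- every divided power of positive degree is a multiple of some generator -/
theorem XX_fac {m : ℕ} (h0 : 0 < m) (hm : m < 81) : ∃ (i : Fin 4) (n : ℕ) (c : K3), n + 3 ^ (i : ℕ) = m ∧ (c = 1 ∨ c = -1) ∧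
    XX D ρ m = c • (XX D ρ n * EE D ρ i) := by
  obtain ⟨i, h1, h2⟩ := (by decide +kernel : ∀ m < 81, 0 < m → ∃ i : Fin 4, 3 ^ (i : ℕ) ≤ m ∧
    (m - 3 ^ (i : ℕ)) / 3 ^ (i : ℕ) % 3 < 2) m hm h0
  have h3 : m - 3 ^ (i : ℕ) < 81 := (Nat.sub_le _ _).trans_lt hm
  have e := EE_mul D ρ i h3
  rw [if_neg h2.ne, Nat.add_sub_cancel' h1, (XX_comm D ρ (lt i) h3).eq] at e
  have e3 := CharP.cast_eq_zero K3 3
  rcases (by omega : (m - 3 ^ (i : ℕ)) / 3 ^ (i : ℕ) % 3 = 0 ∨ (m - 3 ^ (i : ℕ)) / 3 ^ (i : ℕ) % 3 = 1) with c | c <;>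
    rw [c] at e
  · exact ⟨i, _, 1, Nat.sub_add_cancel h1, .inl rfl, by rw [e]; simp⟩
  · refine ⟨i, _, -1, Nat.sub_add_cancel h1, .inr rfl, ?_⟩
    rw [e, smul_smul, show (-1 * ((1 + 1 : ℕ) : K3)) = 1 by push_cast at e3 ⊢; linear_combination -e3, one_smul]

/-- `U` fixes `v` iff the generators kill it -/
theorem fix_iff {v : W} : (∀ a, ρ (up a) v = v) ↔ ∀ i, EE D ρ i v = 0 := by
  refine ⟨fun h i => ?_, fun h a => ?_⟩
  · have := coeff_zero D (fun m => XX D ρ m v - if m = 0 then v else 0) (fun b => by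
      have e := (up_ap D ρ b v).symm.trans (h b)
      simp only [smul_sub, Finset.sum_sub_distrib, smul_ite, smul_zero]
      rw [Finset.sum_ite_eq', if_pos (mem_range.2 (by omega)), pow_zero, one_smul]
      exact sub_eq_zero.2 e) _ (lt i)
    rwa [if_neg (pow_ne_zero _ (by omega)), sub_zero] at this
  · rw [up_eq D ρ, LinearMap.sum_apply, Finset.sum_range_succ', Finset.sum_eq_zero fun m hm => ?_]
    · simp [XX0]
    · obtain ⟨i, n, c, -, -, e⟩ := XX_fac D ρ (Nat.succ_pos m) (by have := mem_range.1 hm; omega)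
      rw [LinearMap.smul_apply, e, LinearMap.smul_apply, End.mul_apply, h, map_zero, smul_zero, smul_zero]

theorem XX_map {W' : Type} [AddCommGroup W'] [Module K3 W'] (ρ' : SL(2, F) →* End K3 W') (f : W →ₗ[K3] W')
    (hf : ∀ g v, f (ρ g v) = ρ' g (f v)) (m : ℕ) (v : W) : f (XX D ρ m v) = XX D ρ' m (f v) := by
  unfold XX
  split_ifs
  · rfl
  · simp only [LinearMap.neg_apply, LinearMap.sum_apply, LinearMap.smul_apply, map_neg, map_sum, map_smul, hf]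

theorem XX_mem {U : Submodule K3 W} (hU : ∀ a, ∀ v ∈ U, ρ (up a) v ∈ U) (m : ℕ) {v : W} (hv : v ∈ U) : XX D ρ m v ∈ U := by
  unfold XX
  split_ifs
  · exact hv
  · rw [LinearMap.neg_apply, LinearMap.sum_apply]
    exact neg_mem (sum_mem fun a _ => U.smul_mem _ (hU a v hv))

theorem ww_wt {k k' : ℕ} (h : (D.ζ : K3) ^ (k + k') = 1) {v : W} (hv : v ∈ Wt D ρ k) : ρ ww v ∈ Wt D ρ k' := by
  rw [End.mem_eigenspace_iff] at hv ⊢
  rw [pow_add] at h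
  rw [eq_inv_of_mul_eq_one_right h]
  exact DivG.w_wt ρ _ hv

end CL.E81.Div0
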