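/-
`E₈(3)`, `L₂(81)`: group theory of `SL₂(81)`.
-/
import Cfsg.Agent.KSG.E81.Defs
import Cfsg.Agent.S1265

set_option autoImplicit false
set_option backward.isDefEq.respectTransparency false

namespace CL.E81
open Module Function Finset CL.SL2Wt CL.Chev CL.AltE Cfsg.Lie
open CL.E82 (R8 val ww)
open CL.E83 (K3 G3)
open Matrix hiding zpow_add zpow_mul zpow_sub one_zpow
open scoped MatrixGroups

variable {F : Type*} [Field F] [Fintype F]

/-- PROOF: port of KSG/E82/Grp (`CL.E83.exists_ev`, `ev_pow`, `ev_one`, `ev_center`, `ev_neg`, `ev_comp`). -/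
theorem exists_dt (hF : Fintype.card F = 81) : Nonempty (Dt F) := by
  have : Fact (Nat.Prime 3) := ⟨Nat.prime_three⟩
  have : CharP F 3 := charP_of_card_eq_prime_pow (p := 3) (f := 4) hF
  let _ := ZMod.algebra F 3
  let f : F →+* K3 := (IsAlgClosed.lift (R := ZMod 3) (S := F) (M := K3)).toRingHom
  obtain ⟨-, ν, hν⟩ := exists_root 3 (n := 82) (by norm_num)
  obtain ⟨s, hs⟩ := E83.exists_ev (f := f) (ν := ν) (by rw [hF]; exact hν)
  obtain ⟨c, hc⟩ := IsCyclic.exists_ofOrder_eq_natCard (α := Fˣ)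
  rw [Nat.card_units, Nat.card_eq_fintype_card, hF] at hc
  have h0 := hν.ne_zero (by norm_num)
  refine ⟨⟨f, c, s, Units.mk0 ν h0, hF, hc, ?_, hs⟩⟩
  rw [← orderOf_units]
  exact hν.eq_orderOf.symm

theorem Dt.three (D : Dt F) : (3 : F) = 0 := by
  have : Fact (Nat.Prime 3) := ⟨Nat.prime_three⟩
  have : CharP F 3 := charP_of_card_eq_prime_pow (p := 3) (f := 4) D.card
  exact CharP.cast_eq_zero F 3

theorem Dt.hζ (D : Dt F) : orderOf D.ζ = 80 := by
  rw [← D.hc]
  exact orderOf_injective (Units.map D.f.toMonoidHom) (Units.map_injective D.f.injective) D.c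

theorem Dt.hξ (D : Dt F) : orderOf (D.ζ ^ 2) = 40 := by
  rw [orderOf_pow' _ two_ne_zero, D.hζ]
  norm_num

theorem Dt.evt (D : Dt F) : Ev D.f D.t D.ζ := by
  refine ⟨![1, 0], ![0, 1], by simp, Fin.forall_fin_two.2 ⟨?_, ?_⟩, Fin.forall_fin_two.2 ⟨?_, ?_⟩⟩ <;>
    simp [Dt.t, Dt.ζ, dg]

omit [Fintype F] in
theorem Grp.mem_center {g : SL(2, F)} : g ∈ Subgroup.center SL(2, F) ↔ g = 1 ∨ g = -1 := by
  refine ⟨fun hg => ?_, ?_⟩
  · obtain ⟨r, hr, e⟩ := Matrix.SpecialLinearGroup.mem_center_iff.1 hg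
    have h2 : r * r = 1 := by simpa [sq] using hr
    rcases mul_self_eq_one_iff.1 h2 with rfl | rfl
    · exact .inl (Subtype.ext (by rw [← e]; simp))
    · exact .inr (Subtype.ext (by rw [← e, map_neg, map_one]; simp))
  · rintro (rfl | rfl)
    · exact one_mem _
    · exact Subgroup.mem_center_iff.2 fun g => by simp

omit [Fintype F] in
theorem Grp.ev_neg {f : F →+* K3} {g : SL(2, F)} {μ : K3} (h : Ev f g μ) : Ev f (-g) (-μ) := by
  obtain ⟨c, d, h0, h1, h2⟩ := h
  refine ⟨c, d, h0, fun i => ?_, fun i => ?_⟩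
  · have := h1 i
    simp only [Matrix.SpecialLinearGroup.coe_neg, Matrix.neg_apply, map_neg]
    linear_combination -this
  · have := h2 i
    simp only [Matrix.SpecialLinearGroup.coe_neg, Matrix.neg_apply, map_neg, inv_neg]
    linear_combination -this

omit [Fintype F] in
theorem Grp.ev_neg_one {f : F →+* K3} {g : SL(2, F)} (h : Ev f g (-1)) : g = -1 :=
  neg_eq_iff_eq_neg.1 (E83.ev_one (by simpa using Grp.ev_neg h))

omit [Fintype F] in
theorem Grp.ev_self {f : F →+* K3} {μ : K3} (h : Ev f 1 μ) : μ = 1 := by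
  obtain ⟨c, d, h0, h1, -⟩ := h
  have a0 := h1 0
  have a1 := h1 1
  simp at a0 a1
  apply mul_right_cancel₀ h0
  linear_combination -(d 1) * a0 + d 0 * a1

omit [Fintype F] in
theorem Grp.ord {f : F →+* K3} {g : SL(2, F)} {μ : K3ˣ} (h : Ev f g (μ : K3)) : orderOf g = orderOf μ := by
  refine orderOf_eq_orderOf_iff.2 fun k => ?_
  have h1 := E83.ev_pow h k
  rw [← Units.val_pow_eq_pow_val] at h1
  exact ⟨fun e => Units.val_eq_one.1 (Grp.ev_self (e ▸ h1)), fun e => E83.ev_one (by rwa [e] at h1)⟩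

omit [Fintype F] in
theorem Grp.half {f : F →+* K3} {g : SL(2, F)} {μ : K3ˣ} (h : Ev f g (μ : K3)) {n : ℕ} (hn : n ≠ 0)
    (ho : orderOf μ = n + n) : g ^ n = -1 := by
  have h1 := E83.ev_pow h n
  have e : (μ : K3) ^ n * μ ^ n = 1 := by
    rw [← pow_add, ← ho, ← Units.val_pow_eq_pow_val, pow_orderOf_eq_one, Units.val_one]
  rcases mul_self_eq_one_iff.1 e with e | e
  · rw [← Units.val_pow_eq_pow_val, Units.val_eq_one] at e
    have := Nat.le_of_dvd (Nat.pos_of_ne_zero hn) (orderOf_dvd_of_pow_eq_one e)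
    omega
  · exact Grp.ev_neg_one (e ▸ h1)

omit [Fintype F] in
theorem Grp.ord_theta {G : Type*} [Group G] {H : Subgroup G} {θ : SL(2, F) →* G} (E : Emb H θ) {f : F →+* K3}
    {g : SL(2, F)} {μ : K3ˣ} (h : Ev f g (μ : K3)) : orderOf (θ g) = orderOf (μ ^ 2) := by
  refine orderOf_eq_orderOf_iff.2 fun k => ?_
  rw [← map_pow, E.ker, ← Grp.mem_center]
  refine ⟨fun e => ?_, fun e => ?_⟩
  · have h1 := E83.ev_center (E83.ev_pow h k) e
    rw [← pow_mul, mul_comm, pow_mul, ← Units.val_pow_eq_pow_val, ← Units.val_pow_eq_pow_val, Units.val_eq_one] at h1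
    exact h1
  · have h1 := E83.ev_pow h k
    rw [← pow_mul, mul_comm, pow_mul, Units.ext_iff, Units.val_pow_eq_pow_val, Units.val_pow_eq_pow_val,
      Units.val_one, sq] at e
    rcases mul_self_eq_one_iff.1 e with e | e <;> rw [e] at h1
    · exact E83.ev_one h1 ▸ one_mem _
    · exact Grp.mem_center.2 (.inr (Grp.ev_neg_one h1))

theorem Dt.ord_s (D : Dt F) : orderOf D.s = 82 := by
  rw [Grp.ord D.ev, D.hη]

theorem Dt.ord_t (D : Dt F) : orderOf D.t = 80 := by
  rw [Grp.ord D.evt, D.hζ]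

theorem Dt.s41 (D : Dt F) : D.s ^ 41 = -1 := by
  exact Grp.half D.ev (by norm_num) D.hη

theorem Dt.t40 (D : Dt F) : D.t ^ 40 = -1 := by
  exact Grp.half D.evt (by norm_num) D.hζ

omit [Fintype F] in
theorem ww_sq : (ww : SL(2, F)) * ww = -1 := by
  exact ext4 (by simp [mul_ap, ww])

theorem Dt.w_t (D : Dt F) : ww * D.t * ww⁻¹ = D.t⁻¹ := by
  rw [mul_inv_eq_iff_eq_mul, eq_inv_mul_iff_mul_eq]
  exact ext4 (by simp [mul_ap, ww, Dt.t, dg])

/-- Bruhat decomposition -/
theorem Dt.bruhat (D : Dt F) (g : SL(2, F)) :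
    (∃ a k, g = up a * D.t ^ (k : ℕ)) ∨ ∃ a b k, g = up a * ww * (up b * D.t ^ (k : ℕ)) := by
  have hk : ∀ (x : F) (hx : x ≠ 0), ∃ k : ℕ, D.t ^ k = SL2Wt.mk (x⁻¹ : F) 0 0 x (by simp [hx]) := fun x hx => by
    have ht : Subgroup.zpowers D.c⁻¹ = ⊤ := by
      apply Subgroup.eq_top_of_card_eq
      rw [Nat.card_zpowers, orderOf_inv, D.hc, Nat.card_units, Nat.card_eq_fintype_card, D.card]
    obtain ⟨k, hk⟩ := mem_powers_iff_mem_zpowers.2 (ht ▸ Subgroup.mem_top (Units.mk0 x hx))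
    refine ⟨k, ?_⟩
    rw [Dt.t, dg_pow, show D.c⁻¹ ^ k = Units.mk0 x hx from hk]
    rfl
  have hd : g 0 0 * g 1 1 - g 0 1 * g 1 0 = 1 := by rw [← det_fin_two]; exact g.2
  by_cases h : g 1 0 = 0
  · rw [h, mul_zero, sub_zero] at hd
    have h1 := right_ne_zero_of_mul_eq_one hd
    obtain ⟨k, e⟩ := hk _ h1
    refine .inl ⟨g 0 1 * g 0 0, k, ?_⟩
    rw [e]
    refine ext4 ?_
    simp only [mul_ap, up, mk00, mk01, mk10, mk11]
    refine ⟨?_, ?_, by simp [h], by simp⟩
    · field_simp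
      linear_combination hd
    · linear_combination -(g 0 1) * hd
  · obtain ⟨k, e⟩ := hk _ (inv_ne_zero h)
    refine .inr ⟨g 0 0 / g 1 0, g 1 1 * g 1 0, k, ?_⟩
    rw [e]
    refine ext4 ?_
    simp only [mul_ap, up, ww, mk00, mk01, mk10, mk11]
    refine ⟨?_, ?_, by simp, ?_⟩ <;> field_simp
    · ring
    · linear_combination -(g 1 0) * hd
    · ring

theorem Emb.ord_t (D : Dt F) {G : Type*} [Group G] {H : Subgroup G} {θ : SL(2, F) →* G} (E : Emb H θ) :
    orderOf (θ D.t) = 40 := by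
  rw [Grp.ord_theta E D.evt, D.hξ]

theorem Emb.ord_s (D : Dt F) {G : Type*} [Group G] {H : Subgroup G} {θ : SL(2, F) →* G} (E : Emb H θ) :
    orderOf (θ D.s) = 41 := by
  rw [Grp.ord_theta E D.ev, orderOf_pow' _ two_ne_zero, D.hη]
  norm_num

/-- PROOF: as `CL.E82.exists_emb` (S1265); a central element of the simple (centre-free) image is trivial. -/
theorem exists_emb (D : Dt F) {G : Type*} [Group G] [Finite G] (H : Subgroup G)
    (hH : Nonempty (Cfsg.generalizedFittingSubgroup H ≃* Matrix.ProjectiveSpecialLinearGroup (Fin 2) F)) :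
    ∃ θ : SL(2, F) →* G, Emb H θ := by
  obtain ⟨e⟩ := hH
  let π : SL(2, F) →* Cfsg.generalizedFittingSubgroup H := e.symm.toMonoidHom.comp (QuotientGroup.mk' _)
  have hs : Surjective π := e.symm.surjective.comp (QuotientGroup.mk'_surjective _)
  have hi : ∀ g, π g = 1 ↔ g ∈ Subgroup.center SL(2, F) := fun g => by simp [π]
  refine ⟨H.subtype.comp ((Cfsg.generalizedFittingSubgroup H).subtype.comp π), fun g => ?_, fun g => (π g : H).2,
    fun h hh g => ?_, fun h hh hc => ?_⟩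
  · rw [← Grp.mem_center, ← hi]
    simp
  · obtain ⟨g', hg'⟩ := hs ⟨(⟨h, hh⟩ : H) * π g * (⟨h, hh⟩ : H)⁻¹, Subgroup.Normal.conj_mem inferInstance _ (π g).2 _⟩
    exact ⟨g', (congrArg (fun y : Cfsg.generalizedFittingSubgroup H => ((y : H) : G)) hg').symm⟩
  · have h3 := Cfsg.Agent.S1265.result (G := H) (x := ⟨h, hh⟩) fun y hy => by
      obtain ⟨g, hg⟩ := hs ⟨y, hy⟩
      have := (hc g).eq
      apply Subtype.ext
      rw [show y = (π g : H) by rw [hg]]
      exact this.symm
    obtain ⟨g, hg⟩ := hs ⟨⟨h, hh⟩, h3⟩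
    have hg' : ((π g : H) : G) = h := by rw [hg]
    have hc' : ∀ g', g * g' = g' * g ∨ g * g' = -(g' * g) := fun g' => by
      have : π (g * g' * (g' * g)⁻¹) = 1 := by
        apply Subtype.ext
        apply Subtype.ext
        have := (hc g').eq
        rw [← hg'] at this
        simp only [map_mul, map_inv, Subgroup.coe_mul, Subgroup.coe_inv, OneMemClass.coe_one]
        rw [mul_inv_eq_one]
        exact this
      rcases Grp.mem_center.1 ((hi _).1 this) with e | e
      · exact .inl (mul_inv_eq_one.1 e)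
      · exact .inr (by rw [mul_inv_eq_iff_eq_mul] at e; rw [e]; simp)
    have h3 := D.three
    have hd : g 0 0 * g 1 1 - g 0 1 * g 1 0 = 1 := by rw [← det_fin_two]; exact g.2
    have k1 : g 1 0 = 0 ∧ g 0 0 = g 1 1 := by
      rcases hc' (up 1) with e | e
      · have a := congrArg (fun x : SL(2, F) => x 0 0) e
        have b := congrArg (fun x : SL(2, F) => x 0 1) e
        simp only [mul_ap, up, mk00, mk01, mk10, mk11] at a b
        exact ⟨by linear_combination -a, by linear_combination b⟩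
      · have a := congrArg (fun x : SL(2, F) => x 0 0) e
        have b := congrArg (fun x : SL(2, F) => x 1 0) e
        simp only [Matrix.SpecialLinearGroup.coe_neg, Matrix.neg_apply, mul_ap, up, mk00, mk01, mk10, mk11] at a b
        have c : g 1 0 = 0 := by linear_combination -b + g 1 0 * h3
        have d : g 0 0 = 0 := by linear_combination -a + c + g 0 0 * h3
        rw [c, d] at hd
        simp at hd
    have k2 : g 0 1 = 0 := by
      rcases hc' ww with e | e <;> have a := congrArg (fun x : SL(2, F) => x 0 0) e <;>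
        simp only [Matrix.SpecialLinearGroup.coe_neg, Matrix.neg_apply, mul_ap, ww, mk00, mk01, mk10, mk11] at a
      · linear_combination a - k1.1
      · linear_combination a + k1.1
    have : π g = 1 := (hi g).2 (Subgroup.mem_center_iff.2 fun x => ext4 (by
      simp only [mul_ap, k1.1, k1.2, k2]
      refine ⟨?_, ?_, ?_, ?_⟩ <;> ring))
    rw [← hg', this]
    rfl

end CL.E81
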