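/-
`E₈(3)`, `L₂(81)`: divided powers.
-/
import Cfsg.Agent.KSG.E81.Grp
import Cfsg.Agent.KSG.E81.Div0

set_option autoImplicit false
set_option backward.isDefEq.respectTransparency false

namespace CL.E81
open Module Function Finset CL.SL2Wt CL.Chev CL.AltE Cfsg.Lie
open CL.E82 (R8 val ww)
open CL.E83 (K3 G3)
open Matrix hiding zpow_add zpow_mul zpow_sub one_zpow
open scoped MatrixGroups

variable {F : Type*} [Field F] [Fintype F] (D : Dt F) {W : Type} [AddCommGroup W] [Module K3 W]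
  (ρ : SL(2, F) →* End K3 W)

/-- PROOF: port of KSG/E82/DivA (signs: Σ_a a^k = -1 iff 80 ∣ k, k > 0). -/
theorem wt_congr {k k' : ℕ} (h : k % 80 = k' % 80) : Wt D ρ k = Wt D ρ k' := by
  unfold Wt
  rw [← pow_mod_orderOf _ k, ← pow_mod_orderOf _ k', orderOf_units, D.hζ, h]

theorem XX0 : XX D ρ 0 = 1 := by
  exact Div0.XX0 D ρ

theorem up_eq (b : F) : ρ (up b) = ∑ m ∈ range 81, D.f b ^ m • XX D ρ m := by
  exact Div0.up_eq D ρ b

theorem coeff_zero {M : Type*} [AddCommGroup M] [Module K3 M] (x : ℕ → M)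
    (h : ∀ b : F, ∑ m ∈ range 81, D.f b ^ m • x m = 0) : ∀ m < 81, x m = 0 := by
  exact Div0.coeff_zero D x h

/-- PROOF: compare the coefficients of a^m b^n in ρ(up (a+b)) = ρ(up a) ρ(up b) (`coeff_zero` twice). -/
theorem XX_mul {m n : ℕ} (hm : m < 81) (hn : n < 81) :
    XX D ρ m * XX D ρ n = if m + n < 81 then ((m + n).choose m : K3) • XX D ρ (m + n) else 0 := by
  exact Div0.XX_mul D ρ hm hn

theorem XX_comm (m n : ℕ) : Commute (XX D ρ m) (XX D ρ n) := by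
  unfold XX
  split_ifs
  · exact Commute.refl _
  · exact Commute.one_left _
  · exact Commute.one_right _
  · refine (Commute.sum_left _ _ _ fun a _ => Commute.sum_right _ _ _ fun b _ =>
      (Commute.smul_left (Commute.map ?_ ρ) _).smul_right _).neg_left.neg_right
    rw [Commute, SemiconjBy, ← up_add, ← up_add, add_comm]

theorem EE_cube (i : Fin 4) : EE D ρ i * EE D ρ i * EE D ρ i = 0 := by
  rw [mul_assoc, Div0.EE_cube]

/-- PROOF: for m ≠ 0 with a non-zero digit at i, XX (m - 3^i) * XX (3^i) = (digit) • XX m. -/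
theorem XX_dig {m : ℕ} (hm : m < 81) {i : Fin 4} (h : m / 3 ^ (i : ℕ) % 3 ≠ 0) :
    ∃ c : K3, XX D ρ m = c • (XX D ρ (m - 3 ^ (i : ℕ)) * EE D ρ i) := by
  obtain ⟨h1, h2⟩ := (by decide +kernel : ∀ m < 81, ∀ i : Fin 4, m / 3 ^ (i : ℕ) % 3 ≠ 0 → 3 ^ (i : ℕ) ≤ m ∧
    (m - 3 ^ (i : ℕ)) / 3 ^ (i : ℕ) % 3 < 2) m hm i h
  have e := Div0.EE_mul D ρ i ((Nat.sub_le m (3 ^ (i : ℕ))).trans_lt hm)
  rw [if_neg h2.ne, Nat.add_sub_cancel' h1, (XX_comm D ρ _ _).eq] at e
  refine ⟨_, ((eq_inv_smul_iff₀ ?_).2 e.symm)⟩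
  rw [Ne, CharP.cast_eq_zero_iff K3 3]
  omega

theorem fix_of_EE {v : W} (h : ∀ i, EE D ρ i v = 0) (a : F) : ρ (up a) v = v := by
  exact (Div0.fix_iff D ρ).2 h a

theorem XX_of_fix {v : W} (h : ∀ a : F, ρ (up a) v = v) {m : ℕ} (m0 : 0 < m) (hm : m < 81) : XX D ρ m v = 0 := by
  obtain ⟨i, n, c, -, -, e⟩ := Div0.XX_fac D ρ m0 hm
  rw [e, LinearMap.smul_apply, End.mul_apply, (Div0.fix_iff D ρ).1 h, map_zero, smul_zero]

theorem XX_wt {m : ℕ} (hm : m < 81) {k : ℕ} {v : W} (hv : v ∈ Wt D ρ k) : XX D ρ m v ∈ Wt D ρ (k + 2 * m) := by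
  exact Div0.XX_wt D ρ hm hv

theorem ww_wt {k : ℕ} {v : W} (hv : v ∈ Wt D ρ k) : ρ ww v ∈ Wt D ρ (79 * k) := by
  refine Div0.ww_wt D ρ ?_ hv
  rw [show k + 79 * k = 80 * k by ring, pow_mul, ← Units.val_pow_eq_pow_val, ← D.hζ, pow_orderOf_eq_one, Units.val_one,
    one_pow]

theorem XX_inv {U : Submodule K3 W} (hU : Inv ρ U) (m : ℕ) {v : W} (hv : v ∈ U) : XX D ρ m v ∈ U := by
  exact Div0.XX_mem D ρ (fun _ => hU _) m hv

theorem XX_sub {U : Submodule K3 W} (hU : Inv ρ U) (m : ℕ) (v : U) : (XX D (subR ρ U hU) m v : W) = XX D ρ m v := by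
  exact Div0.XX_map D (subR ρ U hU) ρ U.subtype (fun _ _ => rfl) m v

theorem XX_quo {U : Submodule K3 W} (hU : Inv ρ U) (m : ℕ) (v : W) :
    XX D (quoR ρ U hU) m (U.mkQ v) = U.mkQ (XX D ρ m v) := by
  exact (Div0.XX_map D ρ _ U.mkQ (fun g v => (quoR_mk ρ U hU g v).symm) m v).symm

/-- the submodule generated by a highest weight vector (`Dt.bruhat`) -/
theorem gen_inv {k : ℕ} {v : W} (hv : v ∈ Wt D ρ k) (h : ∀ a : F, ρ (up a) v = v) :
    Inv ρ (Submodule.span K3 (insert v (Set.range fun m : Fin 81 => XX D ρ m (ρ ww v)))) := by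
  have hT : Inv ρ (Submodule.span K3 (Set.range fun g => ρ g v)) := fun g x hx => by
    refine (Submodule.span_le (p := (Submodule.span K3 (Set.range fun g => ρ g v)).comap (ρ g))).2 ?_ hx
    rintro _ ⟨g', rfl⟩
    exact Submodule.subset_span ⟨g * g', by simp only [map_mul, End.mul_apply]⟩
  have ht : ∀ (a : F) (n : ℕ), ρ (up a * D.t ^ n) v = ((D.ζ : K3) ^ k) ^ n • v := fun a n => by
    rw [map_mul, map_pow, End.mul_apply]
    have : (ρ D.t ^ n) v = ((D.ζ : K3) ^ k) ^ n • v := by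
      induction n with
      | zero => simp
      | succ n ih => rw [pow_succ, End.mul_apply, End.mem_eigenspace_iff.1 hv, map_smul, ih, smul_smul, pow_succ']
    rw [this, map_smul, h]
  convert hT using 1
  refine le_antisymm (Submodule.span_le.2 ?_) (Submodule.span_le.2 ?_)
  · rintro _ (rfl | ⟨m, rfl⟩)
    · exact Submodule.subset_span ⟨1, by simp⟩
    · exact XX_inv D ρ hT _ (Submodule.subset_span ⟨ww, rfl⟩)
  · rintro _ ⟨g, rfl⟩
    rcases D.bruhat g with ⟨a, n, rfl⟩ | ⟨a, b, n, rfl⟩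
    · simp only [ht]
      exact Submodule.smul_mem _ _ (Submodule.subset_span (.inl rfl))
    · simp only [map_mul ρ (up a * ww), End.mul_apply, ht, map_smul]
      refine Submodule.smul_mem _ _ ?_
      rw [map_mul, End.mul_apply, Div0.up_ap D]
      exact sum_mem fun m hm => Submodule.smul_mem _ _ (Submodule.subset_span (.inr ⟨⟨m, mem_range.1 hm⟩, rfl⟩))

end CL.E81
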