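/-
`E₈(3)`, `L₂(81)`: types of modules.
-/
import Cfsg.Agent.KSG.E81.Defs
import Cfsg.Agent.KSG.E82.Ty

set_option autoImplicit false
set_option backward.isDefEq.respectTransparency false

namespace CL.E81
open Module Function Finset CL.SL2Wt CL.Chev CL.AltE Cfsg.Lie
open CL.E82 (R8 val ww)
open CL.E83 (K3 G3)
open Matrix hiding zpow_add zpow_mul zpow_sub one_zpow
open scoped MatrixGroups

variable {F : Type*} [Field F] [Fintype F] (D : Dt F) {W : Type} [AddCommGroup W] [Module K3 W]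
  [FiniteDimensional K3 W] (ρ : SL(2, F) →* End K3 W)

namespace TyA

/-- the functional: `Σ_{b ∈ weights of L(J)} m(-b)` -/
def fn (n J : ℕ) (m : ℕ → ℕ) : ℕ := ∑ j ∈ JJ J, m ((n - (J + (n - 2) * j) % n) % n)

theorem fn_congr {n : ℕ} (hn : 0 < n) (J : ℕ) {m m' : ℕ → ℕ} (h : ∀ k < n, m k = m' k) : fn n J m = fn n J m' :=
  Finset.sum_congr rfl fun _ _ => h _ (Nat.mod_lt _ hn)

/-- packed histogram of the weights -/
def hist (n r : ℕ) : ℕ := ∑ j ∈ JJ r, 256 ^ ((r + (n - 2) * j) % n)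

theorem cw80 : ∀ r < 81, ∀ k < 80, cw 80 r k = hist 80 r >>> (8 * k) % 256 := by decide +kernel

theorem cw82 : ∀ r < 81, ∀ k < 82, cw 82 r k = hist 82 r >>> (8 * k) % 256 := by decide +kernel

/-- digit sum -/
def ds (r : ℕ) : ℕ := r % 3 + r / 3 % 3 + r / 9 % 3 + r / 27

/-- twice the multiplicity of the Steinberg module in `L(80 - r) ⊗ L(s)` -/
def gg (r s : ℕ) : ℕ := fn 80 (80 - r) (cw 80 s) - fn 82 (80 - r) (cw 82 s)

theorem fn_simple : ∀ s < 81, ∀ r < 81, fn 82 (80 - r) (cw 82 s) ≤ fn 80 (80 - r) (cw 80 s) ∧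
    (ds s ≤ ds r → fn 80 (80 - r) (cw 80 s) = fn 82 (80 - r) (cw 82 s) + if s = r then 2 else 0) := by
  have : ∀ s < 81, ∀ r < 81,
      fn 82 (80 - r) (fun k => hist 82 s >>> (8 * k) % 256) ≤ fn 80 (80 - r) (fun k => hist 80 s >>> (8 * k) % 256) ∧
      (ds s ≤ ds r → fn 80 (80 - r) (fun k => hist 80 s >>> (8 * k) % 256) =
        fn 82 (80 - r) (fun k => hist 82 s >>> (8 * k) % 256) + if s = r then 2 else 0) := by decide +kernel
  intro s hs r hr
  rw [fn_congr (by norm_num) _ (cw80 s hs), fn_congr (by norm_num) _ (cw82 s hs)]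
  exact this s hs r hr

theorem fn_count {R : Multiset ℕ} (hR : ∀ r ∈ R, r < 81) {r : ℕ} (hr : r < 81) :
    fn 80 (80 - r) (fun k => (R.map (cw 80 · k)).sum) =
      fn 82 (80 - r) (fun k => (R.map (cw 82 · k)).sum) + ∑ s ∈ range 81, R.count s * gg r s := by
  induction R using Multiset.induction with
  | empty => simp [fn]
  | cons s R ih =>
    have h1 := ih fun x hx => hR x (Multiset.mem_cons_of_mem hx)
    have hs := hR s (Multiset.mem_cons_self s R)
    have h2 := (fn_simple s hs r hr).1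
    have h3 : ∑ x ∈ range 81, (if x = s then 1 else 0) * gg r x = gg r s := by
      simp only [ite_mul, one_mul, zero_mul, sum_ite_eq', mem_range, hs, if_true]
    simp only [Multiset.count_cons, add_mul, sum_add_distrib, h3]
    simp only [fn, gg, Multiset.map_cons, Multiset.sum_cons, Finset.sum_add_distrib] at h1 h2 ⊢
    omega

theorem eq_of_cw {R R' : Multiset ℕ} (hR : ∀ r ∈ R, r < 81) (hR' : ∀ r ∈ R', r < 81)
    (h80 : ∀ k < 80, (R.map (cw 80 · k)).sum = (R'.map (cw 80 · k)).sum)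
    (h82 : ∀ k < 82, (R.map (cw 82 · k)).sum = (R'.map (cw 82 · k)).sum) : R = R' := by
  have key : ∀ n, ∀ r < 81, 8 - ds r = n → R.count r = R'.count r := fun n => by
    induction n using Nat.strong_induction_on with | _ n ih => ?_
    intro r hr e
    have h1 := fn_count hR hr
    rw [fn_congr (by norm_num) _ h80, fn_congr (by norm_num) _ h82, fn_count hR' hr, add_right_inj,
      ← add_sum_erase _ _ (mem_range.2 hr), ← add_sum_erase _ _ (mem_range.2 hr)] at h1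
    have h2 : ∑ s ∈ (range 81).erase r, R'.count s * gg r s = ∑ s ∈ (range 81).erase r, R.count s * gg r s :=
      sum_congr rfl fun s hs => by
        obtain ⟨h3, h4⟩ := mem_erase.1 hs
        rw [mem_range] at h4
        by_cases h : ds s ≤ ds r
        · rw [gg, (fn_simple s h4 r hr).2 h, if_neg h3, add_zero, Nat.sub_self, mul_zero, mul_zero]
        · rw [ih _ (by have : ds s ≤ 8 := by unfold ds; omega
                       omega) s h4 rfl]
    rw [h2, add_left_inj, gg, (fn_simple r hr r hr).2 le_rfl, if_pos rfl, Nat.add_sub_cancel_left] at h1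
    omega
  refine Multiset.ext.2 fun r => ?_
  by_cases h : r < 81
  · exact key _ r h rfl
  · rw [Multiset.count_eq_zero.2 (mt (hR r) h), Multiset.count_eq_zero.2 (mt (hR' r) h)]


theorem dim_eig {A : End K3 W} {n : ℕ} (h0 : (n : K3) ≠ 0) (hn : A ^ n = 1) {E : Multiset K3} (h : IsEig A E)
    [DecidableEq K3] (μ : K3) : finrank K3 (A.eigenspace μ) = E.count μ := by
  obtain ⟨I, _, v, d, h1, h2, h3⟩ := exists_eb_top (J := Unit) (fun _ => A) (fun _ _ => Commute.refl _) h0 fun _ => hn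
  have := isEig_of_basis (Basis.mk h1 h2.ge) (A := A) (d ()) fun i => by rw [Basis.mk_apply]; exact h3 () i
  rw [h.unique this, Multiset.count_map, ← top_inf_eq (A.eigenspace μ), ← h2,
    finrank_inf₁ h1 (h3 ()) μ (fun i => μ = d () i) fun i => eq_comm]
  rfl

theorem luc : ∀ r < 81, ∀ j < 81, (r.descFactorial j / j.factorial % 3 ≠ 0 ↔
    j % 3 ≤ r % 3 ∧ j / 3 % 3 ≤ r / 3 % 3 ∧ j / 9 % 3 ≤ r / 9 % 3 ∧ j / 27 ≤ r / 27) := by decide +kernel

theorem luc' {r j : ℕ} (hr : r < 81) (hj : j < 81) : (r.choose j : K3) ≠ 0 ↔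
    j % 3 ≤ r % 3 ∧ j / 3 % 3 ≤ r / 3 % 3 ∧ j / 9 % 3 ≤ r / 9 % 3 ∧ j / 27 ≤ r / 27 := by
  rw [Ne, CharP.cast_eq_zero_iff K3 3, ← luc r hr j hj, Nat.choose_eq_descFactorial_div_factorial]
  omega

theorem cnt {μ : K3ˣ} {n : ℕ} (h2 : 2 ≤ n) (hμ : orderOf μ = n) {r : ℕ} (hr : r < 81) (k : ℕ) [DecidableEq K3] :
    (wts r (μ : K3)).count ((μ : K3) ^ k) = cw n r k := by
  classical
  rw [wts, Multiset.count_map, cw]
  rw [← filter_val, ← card_def]
  have e : ∀ j : Fin (r + 1), (μ : K3) ^ k = (μ : K3)⁻¹ ^ j.1 * (μ : K3) ^ j.rev.1 ↔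
      (r + (n - 2) * j) % n = k % n := fun j => by
    have h1 : (μ : K3)⁻¹ ^ j.1 * (μ : K3) ^ j.rev.1 = ((μ ^ (r + (n - 2) * j) : K3ˣ) : K3) := by
      have h3 : (μ : K3) ^ n = 1 := by rw [← Units.val_pow_eq_pow_val, ← hμ, pow_orderOf_eq_one, Units.val_one]
      have h4 : (μ : K3) ^ j.1 ≠ 0 := pow_ne_zero _ μ.ne_zero
      have h5 : j.1 + (r + (n - 2) * j) = j.rev.1 + n * j := by
        obtain ⟨m, rfl⟩ := Nat.exists_eq_add_of_le h2
        have := j.2
        rw [Fin.val_rev, Nat.add_sub_cancel_left, add_mul]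
        omega
      rw [inv_pow, inv_mul_eq_iff_eq_mul₀ h4, Units.val_pow_eq_pow_val, ← pow_add, h5, pow_add, pow_mul, h3, one_pow,
        mul_one]
    rw [h1, ← Units.val_pow_eq_pow_val, Units.val_inj, pow_eq_pow_iff_modEq, hμ, eq_comm]
    rfl
  refine card_bij (fun j _ => j.1) (fun j hj => ?_) (fun _ _ _ _ h => Fin.ext h) fun j hj => ?_
  · simp only [mem_filter, mem_univ, true_and] at hj
    have := j.2
    exact mem_filter.2 ⟨mem_filter.2 ⟨mem_range.2 (by omega), (luc' hr (by omega)).1 hj.1⟩, (e j).1 hj.2⟩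
  · obtain ⟨h3, h4⟩ := mem_filter.1 hj
    obtain ⟨h5, h6⟩ := mem_filter.1 h3
    have h7 : j < r + 1 := by omega
    refine ⟨⟨j, h7⟩, ?_, rfl⟩
    simp only [mem_filter, mem_univ, true_and]
    exact ⟨(luc' hr (mem_range.1 h5)).2 h6, (e ⟨j, h7⟩).2 h4⟩

omit [Fintype F] in
theorem dim {g : SL(2, F)} {μ : K3ˣ} {n : ℕ} (h2 : 2 ≤ n) (ho : ¬ 3 ∣ n) (hμ : orderOf μ = n) (hg : g ^ n = 1)
    {R : Multiset ℕ} (hR : ∀ r ∈ R, r < 81) (h : IsEig (ρ g) (R.bind (wts · (μ : K3)))) (k : ℕ) :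
    finrank K3 ((ρ g).eigenspace ((μ : K3) ^ k)) = (R.map (cw n · k)).sum := by
  classical
  rw [dim_eig (n := n) (by rwa [Ne, CharP.cast_eq_zero_iff K3 3]) (by rw [← map_pow, hg, map_one]) h,
    Multiset.count_bind]
  exact congrArg _ (Multiset.map_congr rfl fun r hr => cnt h2 hμ (hR r hr) k)

theorem hζ : orderOf D.ζ = 80 := by
  rw [← D.hc]
  exact orderOf_injective (Units.map D.f.toMonoidHom) (Units.map_injective D.f.injective) D.c

theorem evt : Ev D.f D.t D.ζ := by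
  refine ⟨![1, 0], ![0, 1], by simp, Fin.forall_fin_two.2 ⟨?_, ?_⟩, Fin.forall_fin_two.2 ⟨?_, ?_⟩⟩ <;>
    simp [Dt.t, Dt.ζ, dg]

omit [Fintype F] in
theorem pw {f : F →+* K3} {g : SL(2, F)} {μ : K3ˣ} (h : Ev f g (μ : K3)) {n : ℕ} (hn : orderOf μ = n) : g ^ n = 1 := by
  have h1 := E83.ev_pow h n
  rw [← Units.val_pow_eq_pow_val, ← hn, pow_orderOf_eq_one, Units.val_one, hn] at h1
  exact E83.ev_one h1


/-- `SL2Wt.exists_wts`, `Dt.evt` -/
theorem exists_ty : ∃ R, Ty D ρ R := by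
  obtain ⟨R, h1, h2⟩ := SL2Wt.exists_wts D.f ρ
  exact ⟨R, fun r hr => D.card ▸ h1 r hr, h2 _ _ (evt D), h2 _ _ D.ev⟩

/-- PROOF: general lemma: A ^ n = 1, (n : K3) ≠ 0, IsEig A E gives finrank (eigenspace A μ) = count μ E (`exists_eb_top`,
`isEig_of_basis`, `IsEig.unique`, `finrank_inf₁`).  (r.choose j : K3) ≠ 0 iff j &&& r = j (Lucas; or decide for r < 81);
μ⁻¹ ^ j * μ ^ (r - j) = μ ^ (r + (n-2) j) (compare `E83.sum_eq`). -/
theorem dim_t {R : Multiset ℕ} (h : Ty D ρ R) (k : ℕ) : finrank K3 (Wt D ρ k) = (R.map (cw 80 · k)).sum := by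
  exact dim ρ (by omega) (by omega) (hζ D) (pw (evt D) (hζ D)) h.1 h.2.1 k

theorem dim_s {R : Multiset ℕ} (h : Ty D ρ R) (k : ℕ) :
    finrank K3 (Ws D ρ k) = (R.map (cw 82 · k)).sum := by
  exact dim ρ (by omega) (by omega) D.hη (pw D.ev D.hη) h.1 h.2.2 k

/-- `IsEig.add` -/
theorem add {U : Submodule K3 W} (hU : Inv ρ U) {R R' : Multiset ℕ} (h : Ty D (subR ρ U hU) R)
    (h' : Ty D (quoR ρ U hU) R') : Ty D ρ (R + R') := by
  refine ⟨fun r hr => (Multiset.mem_add.1 hr).elim (h.1 r) (h'.1 r), ?_, ?_⟩ <;> rw [Multiset.add_bind]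
  exacts [IsEig.add U (hU _) h.2.1 h'.2.1, IsEig.add U (hU _) h.2.2 h'.2.2]

/-- `eq_of_cw` -/
theorem unique {R R' : Multiset ℕ} (h : Ty D ρ R) (h' : Ty D ρ R') : R = R' := by
  exact eq_of_cw h.1 h'.1 (fun k _ => (dim_t D ρ h k).symm.trans (dim_t D ρ h' k))
    fun k _ => (dim_s D ρ h k).symm.trans (dim_s D ρ h' k)

/-- a nonzero module has a nonempty type (the degree of the characteristic polynomial, or the sum of `dim_t`) -/
theorem ne_zero [Nontrivial W] {R : Multiset ℕ} (h : Ty D ρ R) : R ≠ 0 := by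
  rintro rfl
  obtain ⟨c, hc⟩ := End.exists_eigenvalue (ρ D.t)
  obtain ⟨v, hv⟩ := hc.exists_hasEigenvector
  have h1 := h.2.1 c
  rw [Multiset.zero_bind, Multiset.map_zero, Multiset.prod_zero] at h1
  have h2 := (LinearMap.isUnit_iff_isUnit_det _).2 (h1 ▸ isUnit_one)
  exact hv.2 (LinearMap.ker_eq_bot'.1 ((LinearMap.isUnit_iff_ker_eq_bot _).1 h2) v (by
    rw [LinearMap.sub_apply, hv.apply_eq_smul, LinearMap.smul_apply, End.one_apply, sub_self]))

/-- PROOF: copy the proof of `SL2Wt.of_simple`, keeping φ, z, `inj`, `sp` -/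
theorem exists_simp [Nontrivial W] (hs : ∀ U, Inv ρ U → U = ⊥ ∨ U = ⊤) : ∃ r φ z, Simp D ρ r φ z := by
  obtain ⟨φ, φ0, s, s0, s1, h⟩ := exists_functional D.f ρ
  have mul : ∀ g g' x, ρ g (ρ g' x) = ρ (g * g') x := fun g g' x => by rw [map_mul]; rfl
  have inj : ∀ x, (∀ g, φ (ρ g x) = 0) → x = 0 := fun x hx => by
    rcases hs (⨅ g, LinearMap.ker (φ ∘ₗ ρ g)) (fun g x hx => by
      simp only [Submodule.mem_iInf, LinearMap.mem_ker, LinearMap.comp_apply, mul] at hx ⊢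
      exact fun _ => hx _) with e | e
    · exact (Submodule.eq_bot_iff _).1 e x (by simpa [Submodule.mem_iInf] using hx)
    · refine (φ0 (LinearMap.ext fun x => ?_)).elim
      simpa using (Submodule.mem_iInf _).1 (e.ge (Submodule.mem_top (x := x))) 1
  obtain ⟨y, y0, hy⟩ := exists_fix D.f (fun t => ρ (up t)) (by rw [up_zero, map_one]) fun s t => by
    rw [up_add, map_mul]
  obtain ⟨r, hr, z, hz⟩ := exists_top D.f ρ s0 s1 h hy (by by_contra! hc; exact y0 (inj y hc))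
  have sp : Submodule.span K3 (Set.range fun h => ρ h z) = ⊤ := by
    refine (hs _ fun g x hx => ?_).resolve_left fun e => ?_
    · refine Submodule.mem_comap.1 (Submodule.span_le.2 ?_ hx)
      rintro _ ⟨h, rfl⟩
      exact Submodule.subset_span ⟨g * h, (mul _ _ _).symm⟩
    · have := hz (mk 0 (-1) 1 0 (by simp))
      rw [(Submodule.eq_bot_iff _).1 e (ρ _ z) (Submodule.subset_span ⟨_, rfl⟩)] at this
      simp at this
  have H := E82.TyX.of_top D.f ρ hr inj hz sp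
  rw [D.card] at hr
  exact ⟨r, φ, z, hr, ⟨by simpa using hr, by simpa using H _ _ (evt D), by simpa using H _ _ D.ev⟩, hz, inj, sp⟩

/-- induction along a composition series (as `SL2Wt.exists_wts`; `Ty.add`, `Ty.unique` pass `p` to the parts) -/
theorem ind (p : ℕ → Prop)
    (P : ∀ (W : Type) [AddCommGroup W] [Module K3 W] [FiniteDimensional K3 W], (SL(2, F) →* End K3 W) → Prop)
    (h0 : ∀ (W : Type) [AddCommGroup W] [Module K3 W] [FiniteDimensional K3 W] (ρ : SL(2, F) →* End K3 W),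
      Subsingleton W → P W ρ)
    (h1 : ∀ (W : Type) [AddCommGroup W] [Module K3 W] [FiniteDimensional K3 W] (ρ : SL(2, F) →* End K3 W) r φ z,
      p r → Simp D ρ r φ z → P W ρ)
    (h2 : ∀ (W : Type) [AddCommGroup W] [Module K3 W] [FiniteDimensional K3 W] (ρ : SL(2, F) →* End K3 W)
      (U : Submodule K3 W) (hU : Inv ρ U), P U (subR ρ U hU) → P (W ⧸ U) (quoR ρ U hU) → P W ρ)
    {R : Multiset ℕ} (h : Ty D ρ R) (hp : ∀ r ∈ R, p r) : P W ρ := by
  induction hn : finrank K3 W using Nat.strong_induction_on generalizing W R with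
  | _ n ih =>
  rcases subsingleton_or_nontrivial W with h3 | h3
  · exact h0 W ρ h3
  by_cases hs : ∀ U, Inv ρ U → U = ⊥ ∨ U = ⊤
  · obtain ⟨r, φ, z, H⟩ := exists_simp D ρ hs
    exact h1 W ρ r φ z (hp r (by rw [unique D ρ h H.ty]; exact Multiset.mem_singleton_self r)) H
  push Not at hs
  obtain ⟨U, hU, h4, h5⟩ := hs
  obtain ⟨R1, a1⟩ := exists_ty D (subR ρ U hU)
  obtain ⟨R2, a2⟩ := exists_ty D (quoR ρ U hU)
  obtain rfl := unique D ρ h (add D ρ hU a1 a2)
  refine h2 W ρ U hU (ih _ (hn ▸ Submodule.finrank_lt h5) _ a1 (fun r hr => hp r (Multiset.mem_add.2 (.inl hr))) rfl)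
    (ih _ ?_ _ a2 (fun r hr => hp r (Multiset.mem_add.2 (.inr hr))) rfl)
  have := U.finrank_quotient_add_finrank
  have := Submodule.finrank_eq_zero.not.2 h4
  omega

end TyA

end CL.E81
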