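/-
`E₈(3)`, `L₂(81)`: composition factors of `SL₂(81)`-modules.
-/
import Cfsg.Agent.KSG.E81.Grp
import Cfsg.Agent.KSG.E81.TyA

set_option autoImplicit false
set_option backward.isDefEq.respectTransparency false

namespace CL.E81
open Module Function Finset CL.SL2Wt CL.Chev CL.AltE Cfsg.Lie
open CL.E82 (R8 val ww)
open CL.E83 (K3 G3)
open Matrix hiding zpow_add zpow_mul zpow_sub one_zpow
open scoped MatrixGroups

variable {F : Type*} [Field F] [Fintype F] (D : Dt F) {W : Type} [AddCommGroup W] [Module K3 W]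
  [FiniteDimensional K3 W] (ρ : SL(2, F) →* End K3 W)

/-- PROOF: port of KSG/E82/Ty (63 → 80, 65 → 82, 64 → 81; Lucas: `CL.E83.mem_J'` or `decide`). -/
theorem exists_ty : ∃ R, Ty D ρ R := by
  exact TyA.exists_ty D ρ

theorem Ty.dim_t {R : Multiset ℕ} (h : Ty D ρ R) (k : ℕ) : finrank K3 (Wt D ρ k) = (R.map (cw 80 · k)).sum := by
  exact TyA.dim_t D ρ h k

theorem Ty.dim_s {R : Multiset ℕ} (h : Ty D ρ R) (k : ℕ) : finrank K3 (Ws D ρ k) = (R.map (cw 82 · k)).sum := by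
  exact TyA.dim_s D ρ h k

theorem Ty.add {U : Submodule K3 W} (hU : Inv ρ U) {R R' : Multiset ℕ} (h : Ty D (subR ρ U hU) R)
    (h' : Ty D (quoR ρ U hU) R') : Ty D ρ (R + R') := by
  exact TyA.add D ρ hU h h'

/-- PROOF: as `Ty.unique` of E82 (the integral weight multiplicities p j, 0 ≤ j ≤ 80, are determined: d82 0 = p 0,
d80 0 = p 0 + 2 p 80, d82 k = p k + p (82-k), d80 k = p k + p (80-k), d82 1 = p 1, ..; then triangularity). -/
theorem cw_unique {R R' : Multiset ℕ} (hR : ∀ r ∈ R, r < 81) (hR' : ∀ r ∈ R', r < 81)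
    (h1 : ∀ k < 80, (R.map (cw 80 · k)).sum = (R'.map (cw 80 · k)).sum)
    (h2 : ∀ k < 82, (R.map (cw 82 · k)).sum = (R'.map (cw 82 · k)).sum) : R = R' := by
  exact TyA.eq_of_cw hR hR' h1 h2

theorem Ty.unique {R R' : Multiset ℕ} (h : Ty D ρ R) (h' : Ty D ρ R') : R = R' := by
  exact TyA.unique D ρ h h'

theorem Ty.ne_zero [Nontrivial W] {R : Multiset ℕ} (h : Ty D ρ R) : R ≠ 0 := by
  exact TyA.ne_zero D ρ h

theorem Ty.dim {R : Multiset ℕ} (h : Ty D ρ R) : finrank K3 W = (R.map fun r => #(JJ r)).sum := by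
  obtain ⟨I, _, v, d, h1, h2, h3⟩ := exists_eb_top (J := Unit) (fun _ => ρ D.t) (fun _ _ => Commute.refl _)
    (n := 80) (by rw [Ne, CharP.cast_eq_zero_iff K3 3]; omega)
    fun _ => by rw [← map_pow, TyA.pw (TyA.evt D) (TyA.hζ D), map_one]
  have := isEig_of_basis (Basis.mk h1 h2.ge) (A := ρ D.t) (d ()) fun i => by rw [Basis.mk_apply]; exact h3 () i
  have e := congrArg Multiset.card (h.2.1.unique this)
  rw [Multiset.card_map, ← card_def, card_univ, ← finrank_eq_card_basis (Basis.mk h1 h2.ge), Multiset.card_bind] at e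
  rw [← e]
  refine congrArg _ (Multiset.map_congr rfl fun r hr => ?_)
  have hr' := h.1 r hr
  rw [Function.comp, wts, Multiset.card_map, ← card_def]
  refine card_bij (fun j _ => j.1) (fun j hj => ?_) (fun _ _ _ _ h => Fin.ext h) fun j hj => ?_
  · simp only [mem_filter, mem_univ, true_and] at hj
    have := j.2
    exact mem_filter.2 ⟨mem_range.2 (by omega), (TyA.luc' hr' (by omega)).1 hj⟩
  · obtain ⟨h5, h6⟩ := mem_filter.1 hj
    have h7 : j < r + 1 := by omega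
    refine ⟨⟨j, h7⟩, ?_, rfl⟩
    simp only [mem_filter, mem_univ, true_and]
    exact (TyA.luc' hr' (mem_range.1 h5)).2 h6

theorem exists_simp [Nontrivial W] (hs : ∀ U, Inv ρ U → U = ⊥ ∨ U = ⊤) : ∃ r φ z, Simp D ρ r φ z := by
  exact TyA.exists_simp D ρ hs

theorem ind (p : ℕ → Prop)
    (P : ∀ (W : Type) [AddCommGroup W] [Module K3 W] [FiniteDimensional K3 W], (SL(2, F) →* End K3 W) → Prop)
    (h0 : ∀ (W : Type) [AddCommGroup W] [Module K3 W] [FiniteDimensional K3 W] (ρ : SL(2, F) →* End K3 W),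
      Subsingleton W → P W ρ)
    (h1 : ∀ (W : Type) [AddCommGroup W] [Module K3 W] [FiniteDimensional K3 W] (ρ : SL(2, F) →* End K3 W) r φ z,
      p r → Simp D ρ r φ z → P W ρ)
    (h2 : ∀ (W : Type) [AddCommGroup W] [Module K3 W] [FiniteDimensional K3 W] (ρ : SL(2, F) →* End K3 W)
      (U : Submodule K3 W) (hU : Inv ρ U), P U (subR ρ U hU) → P (W ⧸ U) (quoR ρ U hU) → P W ρ)
    {R : Multiset ℕ} (h : Ty D ρ R) (hp : ∀ r ∈ R, p r) : P W ρ := by
  exact TyA.ind D ρ p P h0 h1 h2 h hp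

end CL.E81
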