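/-
`E₈(3)`, `L₂(81)`: the monomial basis of a simple module.
-/
import Cfsg.Agent.KSG.E81.Div
import Cfsg.Agent.KSG.E81.Ty
import Cfsg.Agent.KSG.E81.TyA

set_option autoImplicit false
set_option backward.isDefEq.respectTransparency false

namespace CL.E81
open Module Function Finset CL.SL2Wt CL.Chev CL.AltE Cfsg.Lie
open CL.E82 (R8 val ww)
open CL.E83 (K3 G3)
open Matrix hiding zpow_add zpow_mul zpow_sub one_zpow
open scoped MatrixGroups

variable {F : Type*} [Field F] [Fintype F] (D : Dt F) {W : Type} [AddCommGroup W] [Module K3 W]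
  [FiniteDimensional K3 W] (ρ : SL(2, F) →* End K3 W)

namespace BasX

theorem mem_JJ {r m : ℕ} (hr : r < 81) (hm : m < 81) : m ∈ JJ r ↔ (r.choose m : K3) ≠ 0 := by
  rw [TyA.luc' hr hm, JJ, mem_filter, mem_range, and_iff_right hm]

theorem lt {r m : ℕ} (h : m ∈ JJ r) : m < 81 := mem_range.1 (mem_filter.1 h).1

omit [FiniteDimensional K3 W] in
theorem val {r : ℕ} {φ : Dual K3 W} {z : W} (h : Simp D ρ r φ z) {m : ℕ} (hm : m < 81) (g : SL(2, F)) :
    φ (ρ g (XX D ρ m (ρ ww z))) = D.f (g 1 0) ^ m * D.f (g 1 1) ^ (r - m) * (r.choose m : K3) := by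
  refine sub_eq_zero.1 (coeff_zero D (M := K3) (fun m => φ (ρ g (XX D ρ m (ρ ww z))) -
    D.f (g 1 0) ^ m * D.f (g 1 1) ^ (r - m) * (r.choose m : K3)) (fun b => ?_) m hm)
  have e1 : φ (ρ g (ρ (up b) (ρ ww z))) = (D.f b * D.f (g 1 0) + D.f (g 1 1)) ^ r := by
    rw [← End.mul_apply, ← End.mul_apply, ← map_mul, ← map_mul, h.top]
    congr 1
    simp [mul_ap, up, ww, mul_comm]
  rw [up_eq D, add_pow, Finset.sum_subset (range_subset_range.2 (Nat.succ_le_of_lt h.lt)) fun m _ hm => by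
    rw [Nat.choose_eq_zero_of_lt (by simpa using hm), Nat.cast_zero, mul_zero]] at e1
  simp only [LinearMap.sum_apply, map_sum, LinearMap.smul_apply, map_smul, smul_eq_mul, mul_pow, mul_assoc] at e1
  simp only [smul_eq_mul, mul_sub, Finset.sum_sub_distrib, mul_assoc]
  rw [e1, sub_self]

omit [FiniteDimensional K3 W] in
theorem wt {r : ℕ} {φ : Dual K3 W} {z : W} (h : Simp D ρ r φ z) : z ∈ Wt D ρ r := by
  refine End.mem_eigenspace_iff.2 (sub_eq_zero.1 (h.inj _ fun g => ?_))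
  rw [map_sub, map_sub, map_smul, map_smul, ← End.mul_apply, ← map_mul, h.top, h.top]
  simp [mul_ap, Dt.t, Dt.ζ, dg, mul_pow, mul_comm]

end BasX

/-- PROOF: φ (ρ g (ρ (up a) (ρ ww z))) = (g10 a + g11)^r, so φ (ρ g (XX m (ρ ww z))) = choose r m · g10^m g11^(r-m) (`up_eq`,
`coeff_zero`); it vanishes iff m ∉ JJ r (Lucas); the vectors b m, m ∈ JJ r, are independent (put g11 = 1), their number is
`finrank` (`Ty.dim`).  z has weight r, so ρ ww z has weight 79 r. -/
theorem Simp.basis {r : ℕ} {φ : Dual K3 W} {z : W} (h : Simp D ρ r φ z) : ∃ b : Basis (JJ r) K3 W,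
    (∀ m : JJ r, b m = XX D ρ m (ρ ww z)) ∧ (∀ m < 81, m ∉ JJ r → XX D ρ m (ρ ww z) = 0) ∧
      ∀ m : JJ r, b m ∈ Wt D ρ (79 * r + 2 * m) := by
  have z0 : ∀ m < 81, m ∉ JJ r → XX D ρ m (ρ ww z) = 0 := fun m hm hn => h.inj _ fun g => by
    rw [BasX.val D ρ h hm, not_not.1 (mt (BasX.mem_JJ h.lt hm).2 hn), mul_zero]
  have li : LinearIndependent K3 fun m : JJ r => XX D ρ m (ρ ww z) := by
    refine Fintype.linearIndependent_iff.2 fun c hc m => ?_
    have := coeff_zero D (M := K3) (fun m => if hm : m ∈ JJ r then c ⟨m, hm⟩ * (r.choose m : K3) else 0)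
      (fun b => by
        have e := congrArg (fun v => φ (ρ (SL2Wt.mk 1 0 b 1 (by simp)) v)) hc
        simp only [map_sum, map_smul, map_zero, BasX.val D ρ h (BasX.lt (Subtype.prop _)), mk10, mk11, map_one, one_pow,
          mul_one] at e
        rw [← Finset.sum_subset (s₁ := JJ r) (filter_subset _ _) fun m _ hm => by rw [dif_neg hm, smul_zero],
          ← Finset.sum_coe_sort]
        refine Eq.trans ?_ e
        exact Finset.sum_congr rfl fun m _ => by rw [dif_pos m.2, smul_eq_mul, smul_eq_mul]; ring) m (BasX.lt m.2)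
    rw [dif_pos m.2] at this
    exact (mul_eq_zero.1 this).resolve_right ((BasX.mem_JJ h.lt (BasX.lt m.2)).1 m.2)
  refine ⟨basisOfLinearIndependentOfCardEqFinrank' _ li (by rw [h.ty.dim D ρ]; simp), fun m => by simp, z0, fun m => ?_⟩
  rw [coe_basisOfLinearIndependentOfCardEqFinrank']
  exact XX_wt D ρ (BasX.lt m.2) (ww_wt D ρ (BasX.wt D ρ h))

theorem Simp.top80 {r : ℕ} {φ : Dual K3 W} {z : W} (h : Simp D ρ r φ z) (hr : r ≠ 80) : XX D ρ 80 = 0 := by
  obtain ⟨b, h1, h2, -⟩ := h.basis D ρ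
  refine b.ext fun m => ?_
  rw [h1, ← End.mul_apply, XX_mul D ρ (by norm_num) (BasX.lt m.2)]
  split_ifs with c
  · rw [show 80 + (m : ℕ) = 80 by omega, LinearMap.smul_apply, h2 80 (by norm_num) fun e => ?_, smul_zero,
      LinearMap.zero_apply]
    have := h.lt
    have := (mem_filter.1 e).2
    omega
  · rfl

theorem Simp.inj2 {r : ℕ} {φ : Dual K3 W} {z : W} (h : Simp D ρ r φ z) (hr : r = 2 ∨ r = 40) {v : W}
    (hv : v ∈ Wt D ρ 78) (h0 : XX D ρ 2 v = 0) : v = 0 := by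
  have d := h.ty.dim_t D ρ 78
  rw [Multiset.map_singleton, Multiset.sum_singleton] at d
  rcases hr with rfl | rfl
  · obtain ⟨b, h1, -, h3⟩ := h.basis D ρ
    have m0 : 0 ∈ JJ 2 := by decide
    have m2 : 2 ∈ JJ 2 := by decide
    have w0 : b ⟨0, m0⟩ ∈ Wt D ρ 78 := wt_congr D ρ (k := 79 * 2 + 2 * 0) (k' := 78) rfl ▸ h3 ⟨0, m0⟩
    rw [show cw 80 2 78 = 1 by decide +kernel] at d
    obtain ⟨c, hc⟩ := (finrank_eq_one_iff_of_nonzero' (⟨_, w0⟩ : Wt D ρ 78)
      fun e => b.ne_zero _ (congrArg Subtype.val e)).1 d ⟨v, hv⟩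
    have hc' : v = c • b ⟨0, m0⟩ := (congrArg Subtype.val hc).symm
    have e : XX D ρ 2 (b ⟨0, m0⟩) = b ⟨2, m2⟩ := by
      rw [h1, h1]
      change XX D ρ 2 (XX D ρ 0 _) = _
      rw [XX0]; rfl
    rw [hc', map_smul, e] at h0
    rw [hc', (smul_eq_zero.1 h0).resolve_right (b.ne_zero _), zero_smul]
  · rw [show cw 80 40 78 = 0 by decide +kernel, Submodule.finrank_eq_zero] at d
    rwa [d] at hv

end CL.E81
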