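/-
`E₈(3)`, `L₂(81)`: the centraliser of the split torus in the normaliser.
-/
import Cfsg.Agent.KSG.E81.Defs
import Cfsg.Agent.CLAS.AutPSL

set_option autoImplicit false
set_option backward.isDefEq.respectTransparency false
set_option linter.unusedSectionVars false

namespace CL.E81.Cen0
open Module Function Finset CL.SL2Wt CL.Chev CL.AltE Cfsg.Lie
open CL.E83 (K3 G3)
open Matrix hiding zpow_add zpow_mul zpow_sub one_zpow
open scoped MatrixGroups

variable {F : Type*} [Field F] [Fintype F] {G : Type*} [Group G] {H : Subgroup G} {θ : SL(2, F) →* G}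

omit [Fintype F] in
theorem ker_eq (E : Emb H θ) : θ.ker = Subgroup.center SL(2, F) := by
  ext g
  rw [MonoidHom.mem_ker, E.ker, Matrix.SpecialLinearGroup.mem_center_iff]
  constructor
  · rintro (rfl | rfl)
    · exact ⟨1, by simp, by simp⟩
    · exact ⟨-1, by simp, by rw [map_neg, map_one]; rfl⟩
  · rintro ⟨r, h, e⟩
    rw [Fintype.card_fin, sq_eq_one_iff] at h
    rcases h with rfl | rfl
    · exact .inl (Subtype.ext (by rw [← e]; simp))
    · exact .inr (Subtype.ext (by rw [← e, map_neg, map_one]; rfl))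

omit [Fintype F] in
theorem eq_pm (E : Emb H θ) {a b : SL(2, F)} (h : θ a = θ b) : a = b ∨ a = -b := by
  rcases (E.ker (a * b⁻¹)).1 (by rw [map_mul, map_inv, h, mul_inv_cancel]) with e | e
  · exact .inl (mul_inv_eq_one.1 e)
  · exact .inr (by rw [mul_inv_eq_iff_eq_mul.1 e, neg_one_mul])

/-- elements of `H` act as semilinear maps -/
theorem aut (E : Emb H θ) {h : G} (hh : h ∈ H) : ∃ (A : GL (Fin 2) F) (σ : F ≃+* F), ∀ g, ∃ g' : SL(2, F),
    g'.1 * A.1 = A.1 * g.1.map σ ∧ h * θ g * h⁻¹ = θ g' := by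
  have hn : h ∈ Subgroup.normalizer (θ.range : Set G) := Subgroup.mem_normalizer_iff.2 fun x => ⟨by
    rintro ⟨g, rfl⟩
    obtain ⟨g', e⟩ := E.norm h hh g
    exact ⟨g', e.symm⟩, by
    rintro ⟨g, e⟩
    obtain ⟨g', e'⟩ := E.norm h⁻¹ (inv_mem hh) g
    exact ⟨g', by rw [← e', e]; group⟩⟩
  let e : ProjectiveSpecialLinearGroup (Fin 2) F ≃* θ.range :=
    (QuotientGroup.quotientMulEquivOfEq (ker_eq E).symm).trans (QuotientGroup.quotientKerEquivRange θ)
  have he : ∀ g : SL(2, F), (e (QuotientGroup.mk g) : G) = θ g := fun _ => rfl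
  obtain ⟨γ, hγ⟩ : (e.trans ((θ.range.normalizerMonoidHom ⟨h, hn⟩).trans e.symm) :
      MulAut (ProjectiveSpecialLinearGroup (Fin 2) F)) ∈ (AutPSL.gam (Fin 2) F).range := by
    rw [AutPSL.range_gam_eq_top (by simp)]; trivial
  refine ⟨γ.left, γ.right, fun g => ?_⟩
  obtain ⟨s', e1⟩ := AutPSL.exists_toGL_eq ((AutSL.conjAut_mem_SL_iff γ _).1 (AutPSL.toGL_mem_SL g))
  have h1 := AutPSL.gam_mk e1
  rw [hγ] at h1
  refine ⟨s', ?_, ?_⟩
  · have := congrArg Units.val e1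
    rw [AutInd.coe_conjAut] at this
    change s'.1 = _ at this
    rw [this, Matrix.mul_assoc, ← Units.val_mul, inv_mul_cancel, Units.val_one, Matrix.mul_one]; rfl
  · have := congrArg (fun x => (e x : G)) h1
    simp only [MulEquiv.trans_apply, MulEquiv.apply_symm_apply] at this
    rw [← he s', ← this]; rfl

variable (D : Dt F)

include D in
theorem three : (3 : F) = 0 := by
  have := FiniteField.cast_card_eq_zero F
  rw [D.card] at this
  exact pow_eq_zero_iff (n := 4) (by norm_num) |>.1 (by push_cast at this; linear_combination this)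

theorem cpow {k : ℕ} (h : (D.c : F) ^ k = 1) : 80 ∣ k := by
  rw [← D.hc, orderOf_dvd_iff_pow_eq_one]; exact Units.ext (by simpa using h)

include D in
theorem gen' {u : Fˣ} (hu : orderOf u = 80) {y : F} (hy : y ≠ 0) : ∃ k : ℕ, y = (u : F) ^ k := by
  classical
  have : Subgroup.zpowers u = ⊤ := Subgroup.eq_top_of_card_eq _ (by
    rw [Nat.card_zpowers, hu, Nat.card_eq_fintype_card, Fintype.card_units, D.card])
  obtain ⟨k, hk⟩ := mem_powers_iff_mem_zpowers.2 (this ▸ Subgroup.mem_top (Units.mk0 y hy))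
  exact ⟨k, by simpa using (congrArg Units.val hk).symm⟩

theorem gen {y : F} (hy : y ≠ 0) : ∃ k : ℕ, y = (D.c : F) ^ k := gen' D D.hc hy

theorem fix {σ : F ≃+* F} (h : σ D.c ^ 2 = D.c ^ 2) (x : F) : σ x = x := by
  have sq : ∀ y : F, σ (y ^ 2) = y ^ 2 := fun y => by
    by_cases hy : y = 0
    · simp [hy]
    obtain ⟨k, rfl⟩ := gen D hy
    rw [← pow_mul, mul_comm, pow_mul, map_pow, map_pow, h]
  have a := sq (x + 1)
  have b := sq (x - 1)
  simp only [map_pow, map_add, map_sub, map_one] at a b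
  linear_combination a - b - (σ x - x) * three D

theorem not_inv {σ : F ≃+* F} (h : (σ D.c * D.c) ^ 2 = 1) : False := by
  have t := three D
  have sq : ∀ y : F, y ≠ 0 → (σ y * y) ^ 2 = 1 := fun y hy => by
    obtain ⟨k, rfl⟩ := gen D hy
    rw [map_pow, ← mul_pow, ← pow_mul, mul_comm k, pow_mul, h, one_pow]
  have n1 : (D.c : F) + 1 ≠ 0 := fun e => by
    have := cpow D (k := 2) (by linear_combination ((D.c : F) - 1) * e)
    omega
  have a := sq _ n1
  rw [map_add, map_one] at a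
  have : 80 ∣ 24 := cpow D (by
    generalize (D.c : F) = c at *
    generalize σ c = s at *
    rcases sq_eq_one_iff.1 h with h | h <;> rcases sq_eq_one_iff.1 a with a | a
    · have e : c ^ 3 = 1 := by
        have : c ^ 2 + c + 1 = 0 := by linear_combination c * a - (c + 1) * h
        linear_combination (c - 1) * this
      rw [show 24 = 3 * 8 from rfl, pow_mul, e, one_pow]
    · have e : c ^ 4 = 1 := by
        have : c ^ 2 + 1 = 0 := by linear_combination c * a - (c + 1) * h - c * t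
        linear_combination (c ^ 2 - 1) * this
      rw [show 24 = 4 * 6 from rfl, pow_mul, e, one_pow]
    · have e : c ^ 4 = -1 := by
        have : c ^ 2 - c - 1 = 0 := by linear_combination c * a - (c + 1) * h
        linear_combination (c ^ 2 + c + 2) * this + (c + 1) * t
      rw [show 24 = 4 * 6 from rfl, pow_mul, e]; norm_num
    · have e : c ^ 4 = -1 := by
        have : c ^ 2 + c - 1 = 0 := by linear_combination c * a - (c + 1) * h
        linear_combination (c ^ 2 - c + 2) * this + (1 - c) * t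
      rw [show 24 = 4 * 6 from rfl, pow_mul, e]; norm_num)
  omega

/-- elements centralising the split torus act as diagonal matrices -/
theorem diag (E : Emb H θ) {h : G} (hh : h ∈ H) (hc : Commute h (θ D.t)) : ∃ a : F, a ≠ 0 ∧ ∀ g, ∃ g' : SL(2, F),
    (g' 0 0 = g 0 0 ∧ g' 0 1 = a * g 0 1 ∧ a * g' 1 0 = g 1 0 ∧ g' 1 1 = g 1 1) ∧ h * θ g * h⁻¹ = θ g' := by
  obtain ⟨A, σ, hA⟩ := aut E hh
  have ent : ∀ {g g' : SL(2, F)}, g'.1 * A.1 = A.1 * g.1.map σ → ∀ i j,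
      g' i 0 * A.1 0 j + g' i 1 * A.1 1 j = A.1 i 0 * σ (g 0 j) + A.1 i 1 * σ (g 1 j) := fun e i j => by
    have := congrFun (congrFun e i) j
    simpa only [Matrix.mul_apply, Fin.sum_univ_two, Matrix.map_apply] using this
  have dA : A.1 0 0 * A.1 1 1 - A.1 0 1 * A.1 1 0 ≠ 0 := by
    rw [← det_fin_two]; exact A.det_ne_zero
  obtain ⟨t', e, e'⟩ := hA D.t
  rw [hc.eq, mul_inv_cancel_right] at e'
  obtain ⟨ε, hε, ht⟩ : ∃ ε : F, ε ^ 2 = 1 ∧ t' 0 0 = ε * D.c ∧ t' 0 1 = 0 ∧ t' 1 0 = 0 ∧ t' 1 1 * D.c = ε := by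
    rcases eq_pm E e'.symm with rfl | rfl
    · exact ⟨1, by simp, by simp [Dt.t, dg]⟩
    · exact ⟨-1, by simp, by simp [Dt.t, dg]⟩
  have t0 : D.t 0 0 = D.c ∧ D.t 0 1 = 0 ∧ D.t 1 0 = 0 ∧ D.t 1 1 * D.c = 1 := by simp [Dt.t, dg]
  have t1 : σ (D.t 1 1) * σ D.c = 1 := by rw [← map_mul, t0.2.2.2, map_one]
  have a00 := ent e 0 0
  have a01 := ent e 0 1
  have a10 := ent e 1 0
  simp only [ht.1, ht.2.1, ht.2.2.1, t0.1, t0.2.1, t0.2.2.1, map_zero, mul_zero, zero_mul, add_zero, zero_add] at a00 a01 a10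
  have z01 : A.1 0 1 = 0 := by_contra fun n => not_inv D (σ := σ) (by
    have : ε * D.c = σ (D.t 1 1) := mul_left_cancel₀ n (by linear_combination a01)
    have e2 : ε * (σ D.c * D.c) = 1 := by linear_combination t1 + σ D.c * this
    linear_combination (ε * (σ D.c * D.c) + 1) * e2 - (σ D.c * D.c) ^ 2 * hε)
  have z10 : A.1 1 0 = 0 := by_contra fun n => not_inv D (σ := σ) (by
    have : t' 1 1 = σ D.c := mul_left_cancel₀ n (by linear_combination a10)
    rw [← this, ht.2.2.2, hε])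
  rw [z01, zero_mul, sub_zero] at dA
  have n0 := left_ne_zero_of_mul dA
  have n1 := right_ne_zero_of_mul dA
  have hσ := fix D (σ := σ) (by
    have : ε * D.c = σ D.c := mul_left_cancel₀ n0 (by linear_combination a00)
    rw [← this, mul_pow, hε, one_mul])
  refine ⟨A.1 0 0 / A.1 1 1, div_ne_zero n0 n1, fun g => ?_⟩
  obtain ⟨g', f, f'⟩ := hA g
  have b00 := ent f 0 0
  have b01 := ent f 0 1
  have b10 := ent f 1 0
  have b11 := ent f 1 1
  simp only [z01, z10, hσ, mul_zero, zero_mul, add_zero, zero_add] at b00 b01 b10 b11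
  refine ⟨g', ⟨mul_left_cancel₀ n0 (by linear_combination b00), ?_, ?_,
    mul_left_cancel₀ n1 (by linear_combination b11)⟩, f'⟩
  · field_simp; linear_combination b01
  · field_simp; linear_combination b10

theorem cjd (b : Fˣ) (g : SL(2, F)) : (dg b⁻¹ * g * (dg b⁻¹)⁻¹) 0 0 = g 0 0 ∧
    (dg b⁻¹ * g * (dg b⁻¹)⁻¹) 0 1 = (b : F) ^ 2 * g 0 1 ∧ (b : F) ^ 2 * (dg b⁻¹ * g * (dg b⁻¹)⁻¹) 1 0 = g 1 0 ∧
    (dg b⁻¹ * g * (dg b⁻¹)⁻¹) 1 1 = g 1 1 := by
  have : (dg b⁻¹)⁻¹ = dg b := inv_eq_of_mul_eq_one_right (ext4 (by simp [dg, mul_ap]))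
  rw [this]
  have := b.ne_zero
  simp only [dg, mul_ap, mk00, mk01, mk10, mk11, Units.val_inv_eq_inv_val, inv_inv]
  refine ⟨?_, ?_, ?_, ?_⟩ <;> field_simp <;> ring

/-- an element acting as the diagonal matrix with square parameter lies in the torus -/
theorem eq_dg (E : Emb H θ) {h : G} (hh : h ∈ H) (b : Fˣ) (ha : ∀ g, ∃ g' : SL(2, F),
    (g' 0 0 = g 0 0 ∧ g' 0 1 = (b : F) ^ 2 * g 0 1 ∧ (b : F) ^ 2 * g' 1 0 = g 1 0 ∧ g' 1 1 = g 1 1) ∧
      h * θ g * h⁻¹ = θ g') : h = θ (dg b⁻¹) := by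
  refine (inv_mul_eq_one.1 (E.cen _ (mul_mem (inv_mem (E.le _)) hh) fun g => ?_)).symm
  obtain ⟨g', ⟨a1, a2, a3, a4⟩, e⟩ := ha g
  obtain ⟨b1, b2, b3, b4⟩ := cjd b g
  have : g' = dg b⁻¹ * g * (dg b⁻¹)⁻¹ := ext4 ⟨a1.trans b1.symm, a2.trans b2.symm,
    mul_left_cancel₀ (pow_ne_zero 2 b.ne_zero) (a3.trans b3.symm), a4.trans b4.symm⟩
  rw [this, map_mul, map_mul, map_inv] at e
  rw [Commute, SemiconjBy, mul_assoc, mul_inv_eq_iff_eq_mul.1 e]
  group

theorem t_pow (k : ℕ) : D.t ^ k = dg (D.c ^ k)⁻¹ := by rw [Dt.t, dg_pow, inv_pow]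

theorem sq_act {h : G} {a : F} (ha : ∀ g, ∃ g' : SL(2, F),
    (g' 0 0 = g 0 0 ∧ g' 0 1 = a * g 0 1 ∧ a * g' 1 0 = g 1 0 ∧ g' 1 1 = g 1 1) ∧ h * θ g * h⁻¹ = θ g') (g : SL(2, F)) :
    ∃ g' : SL(2, F), (g' 0 0 = g 0 0 ∧ g' 0 1 = a ^ 2 * g 0 1 ∧ a ^ 2 * g' 1 0 = g 1 0 ∧ g' 1 1 = g 1 1) ∧
      h * h * θ g * (h * h)⁻¹ = θ g' := by
  obtain ⟨g1, ⟨a1, a2, a3, a4⟩, e⟩ := ha g
  obtain ⟨g2, ⟨b1, b2, b3, b4⟩, e'⟩ := ha g1
  exact ⟨g2, ⟨b1.trans a1, by rw [b2, a2]; ring, by rw [← a3, ← b3]; ring, b4.trans a4⟩, by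
    rw [← e', ← e]; group⟩

/-- squares of elements centralising the split torus -/
theorem sq_mem (E : Emb H θ) {h : G} (hh : h ∈ H) (hc : Commute h (θ D.t)) : ∃ k : ℕ, h * h = θ D.t ^ k := by
  obtain ⟨a, a0, ha⟩ := diag D E hh hc
  obtain ⟨k, rfl⟩ := gen D a0
  exact ⟨k, by rw [← map_pow, t_pow]; exact eq_dg E (mul_mem hh hh) (D.c ^ k) (by simpa using sq_act ha)⟩

/-- involutions centralising the split torus -/
theorem invol (E : Emb H θ) {h : G} (hh : h ∈ H) (hc : Commute h (θ D.t)) (h2 : h * h = 1) :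
    h = 1 ∨ h = θ D.t ^ 20 := by
  obtain ⟨a, a0, ha⟩ := diag D E hh hc
  obtain ⟨g', ⟨b1, b2, -, -⟩, e⟩ := sq_act ha (up 1)
  rw [h2, one_mul, inv_one, mul_one] at e
  have t := three D
  have a2 : a ^ 2 = 1 := by
    rcases eq_pm E e.symm with rfl | rfl
    · simpa [up] using b2.symm
    · have : (-1 : F) = 1 := by simpa [up] using b1
      exact absurd (by linear_combination t + this : (1 : F) = 0) one_ne_zero
  rcases sq_eq_one_iff.1 a2 with rfl | rfl
  · left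
    rw [eq_dg E hh 1 (by simpa using ha), show dg (1 : Fˣ)⁻¹ = 1 from ext4 (by simp [dg]), map_one]
  · right
    have c40 : ((D.c ^ 20 : Fˣ) : F) ^ 2 = -1 := by
      have h80 : (((D.c ^ 20 : Fˣ) : F) ^ 2) ^ 2 = 1 := by
        rw [Units.val_pow_eq_pow_val, ← pow_mul, ← pow_mul, ← Units.val_pow_eq_pow_val, show 20 * (2 * 2) = 80 from rfl,
          ← D.hc, pow_orderOf_eq_one, Units.val_one]
      refine (sq_eq_one_iff.1 h80).resolve_left fun e => ?_
      have := cpow D (k := 20 * 2) (by rw [pow_mul, ← e, Units.val_pow_eq_pow_val])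
      omega
    rw [← map_pow, t_pow]
    exact eq_dg E hh _ (by rw [c40]; exact ha)

/-- `h` acts as the diagonal matrix with parameter `a` -/
def Act (θ : SL(2, F) →* G) (h : G) (a : F) : Prop := ∀ g, ∃ g' : SL(2, F),
  (g' 0 0 = g 0 0 ∧ g' 0 1 = a * g 0 1 ∧ a * g' 1 0 = g 1 0 ∧ g' 1 1 = g 1 1) ∧ h * θ g * h⁻¹ = θ g'

theorem act_one : Act θ 1 1 := fun g => ⟨g, by simp, by simp⟩

theorem act_mul {h h' : G} {a a' : F} (ha : Act θ h a) (ha' : Act θ h' a') : Act θ (h * h') (a * a') := fun g => by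
  obtain ⟨g1, ⟨a1, a2, a3, a4⟩, e⟩ := ha' g
  obtain ⟨g2, ⟨b1, b2, b3, b4⟩, e'⟩ := ha g1
  exact ⟨g2, ⟨b1.trans a1, by rw [b2, a2]; ring, by rw [← a3, ← b3]; ring, b4.trans a4⟩, by
    rw [← e', ← e]; group⟩

theorem act_pow {h : G} {a : F} (ha : Act θ h a) (k : ℕ) : Act θ (h ^ k) (a ^ k) := by
  induction k with
  | zero => rw [pow_zero, pow_zero]; exact act_one
  | succ k ih => rw [pow_succ, pow_succ]; exact act_mul ih ha

theorem act_uniq (E : Emb H θ) {h h' : G} (hh : h ∈ H) (hh' : h' ∈ H) {a : F} (a0 : a ≠ 0) (ha : Act θ h a)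
    (ha' : Act θ h' a) : h = h' := by
  refine inv_mul_eq_one.1 (E.cen _ (mul_mem (inv_mem hh) hh') fun g => ?_)
  obtain ⟨g1, ⟨a1, a2, a3, a4⟩, e⟩ := ha g
  obtain ⟨g2, ⟨b1, b2, b3, b4⟩, e'⟩ := ha' g
  obtain rfl : g1 = g2 := ext4 ⟨a1.trans b1.symm, a2.trans b2.symm, mul_left_cancel₀ a0 (a3.trans b3.symm),
    a4.trans b4.symm⟩
  rw [Commute, SemiconjBy, mul_assoc, mul_inv_eq_iff_eq_mul.1 e', ← e]
  group

theorem cyc (E : Emb H θ) {h h' : G} (hh : h ∈ H) (hh' : h' ∈ H) (hc : Commute h (θ D.t)) (hc' : Commute h' (θ D.t))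
    (ho : orderOf h' = 80) : h ∈ Subgroup.zpowers h' := by
  classical
  obtain ⟨a, a0, ha⟩ := diag D E hh hc
  obtain ⟨a', a0', ha'⟩ := diag D E hh' hc'
  have hu : orderOf (Units.mk0 a' a0') = 80 := by
    refine Nat.dvd_antisymm ?_ ?_
    · have := orderOf_dvd_card (x := Units.mk0 a' a0')
      rwa [Fintype.card_units, D.card] at this
    · have e := act_pow ha' (orderOf (Units.mk0 a' a0'))
      have : a' ^ orderOf (Units.mk0 a' a0') = 1 := by
        have := congrArg Units.val (pow_orderOf_eq_one (Units.mk0 a' a0'))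
        rwa [Units.val_pow_eq_pow_val] at this
      rw [this] at e
      rw [← ho, orderOf_dvd_iff_pow_eq_one]
      exact act_uniq E (pow_mem hh' _) (one_mem _) one_ne_zero e act_one
  obtain ⟨k, rfl⟩ := gen' D hu a0
  rw [act_uniq E hh (pow_mem hh' k) a0 ha (act_pow ha' k)]
  exact pow_mem (Subgroup.mem_zpowers _) k

end CL.E81.Cen0
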