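/-
`E₈(3)`, `L₂(81)`: the centraliser of the split torus in `H`.
-/
import Cfsg.Agent.KSG.E81.Grp
import Cfsg.Agent.KSG.E81.Cen0

set_option autoImplicit false
set_option backward.isDefEq.respectTransparency false

namespace CL.E81
open Module Function Finset CL.SL2Wt CL.Chev CL.AltE Cfsg.Lie
open CL.E82 (R8 val ww)
open CL.E83 (K3 G3)
open Matrix hiding zpow_add zpow_mul zpow_sub one_zpow
open scoped MatrixGroups

/-- PROOF: h normalises S = θ(SL₂) and permutes its elements of order 3 (θ is injective on 3-elements; lift the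
conjugation to κ : unipotents → unipotents).  The Sylow 3-subgroups normalised by t are U = up F and U⁻; h cannot swap them
(U ≅ U⁻ as ⟨t⟩-modules would give c⁻² = c^(2·3^i), or: look at h·θ(ww), which inverts t and normalises U; the additive map
κ : F → F with κ(c² a) = c⁻² κ(a) forces the minimal polynomial of c² to vanish at c⁻²).  So h acts on U by an additive map
commuting with multiplication by c² (c² generates F as a ring: every element is a sum of two squares), i.e. by a scalar
λ(h) ∈ Fˣ.  λ is a homomorphism on C_H(θ t), injective: if h centralises U and t and normalises U⁻ it fixes all 82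
Sylow 3-subgroups, so [h, x] ∈ S fixes them all, so [h,x] = 1 and h = 1 by `cen`.  Fˣ is cyclic of order 80, λ(θ t^20) = -1. -/
theorem cen_t {F : Type*} [Field F] [Fintype F] (D : Dt F) {G : Type*} [Group G] [Finite G] {H : Subgroup G}
    {θ : SL(2, F) →* G} (E : Emb H θ) :
    (∀ h ∈ H, Commute h (θ D.t) → h ^ 2 = 1 → h = 1 ∨ h = θ D.t ^ 20) ∧
      ∀ h ∈ H, ∀ h' ∈ H, Commute h (θ D.t) → Commute h' (θ D.t) → orderOf h' = 80 → h ∈ Subgroup.zpowers h' :=
  ⟨fun _ hh hc h2 => Cen0.invol D E hh hc (by rw [← sq, h2]), fun _ hh _ hh' hc hc' ho => Cen0.cyc D E hh hh' hc hc' ho⟩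

end CL.E81
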