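/-
`E₈(3)`, `L₂(81)`: the checker for the Kac points conjugate to their `e`-th powers.
-/
import Cfsg.Agent.KSG.E82.EnC

set_option autoImplicit false
set_option maxRecDepth 100000
set_option maxHeartbeats 200000
set_option exponentiation.threshold 4096
set_option backward.isDefEq.respectTransparency false

namespace CL.E81.En
open Finset CL.Chev CL.AltE Cfsg.Lie
open CL.E82 (val R8)
open CL.E82.En hiding tst l8 l7 l2 rng sound PW tst_of dvd_nm main rng_spec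

/-- the multiplicities of `k` and `e k` agree -/
def tst (e n S k : ℕ) : Bool := frc (Nat.mod (Nat.mul e k) n) fun l =>
  Nat.beq (ge4 S k (Nat.sub n k) (Nat.succ l) (Nat.succ (Nat.sub n l)))
    (ge4 S (Nat.succ k) (Nat.succ (Nat.sub n k)) l (Nat.sub n l))
/-- the innermost coordinate -/
def l8 (e n m : ℕ) (P : ℕ → ℕ → ℕ → ℕ → ℕ → ℕ → ℕ → ℕ → Bool) (c0 c1 c2 c3 c4 c5 c6 u D : ℕ) : Bool :=
  allLt (Nat.succ (Nat.div (Nat.sub n u) 2)) fun c7 =>
    !Nat.beq (Nat.mod (Nat.add (Nat.mul (Nat.add (Nat.mul 2 c7) u) (Nat.add (Nat.mul 2 c7) u)) D) m) 0 ||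
      frc (Nat.add (Nat.add (Nat.add (Nat.add (Nat.add (Nat.add (Nat.add (Nat.mul c0 R0) (Nat.mul c1 R1)) (Nat.mul c2 R2)) (Nat.mul c3 R3)) (Nat.mul c4 R4)) (Nat.mul c5 R5)) (Nat.mul c6 R6)) (Nat.mul c7 R7)) fun S =>
        !allLt (Nat.pred n) (fun k => tst e n S (Nat.succ k)) || P c0 c1 c2 c3 c4 c5 c6 c7
/-- the seventh coordinate -/
def l7 (e n m T : ℕ) (P : ℕ → ℕ → ℕ → ℕ → ℕ → ℕ → ℕ → ℕ → Bool) (c1 c2 c3 c4 c5 c6 u a b g : ℕ) : Bool :=
  allLt (Nat.succ (Nat.div (Nat.sub n u) 2)) fun c0 =>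
    frc (Nat.mod (Nat.add a (Nat.mul c0 (Nat.add b (Nat.mul c0 g)))) m) fun D =>
      Nat.beq (Nat.land (Nat.shiftRight T (Nat.add (Nat.mul D 128) (Nat.add u (Nat.mul 2 c0)))) 1) 1 ||
        l8 e n m P c0 c1 c2 c3 c4 c5 c6 (Nat.add u (Nat.mul 2 c0)) D
/-- four loops -/
def l2 (e n m T : ℕ) (P : ℕ → ℕ → ℕ → ℕ → ℕ → ℕ → ℕ → ℕ → Bool) (c3 c4 : ℕ) : Bool :=
  frc (Nat.add (Nat.mul 6 c3) (Nat.mul 5 c4)) fun u2 => Nat.blt n u2 ||
  allLt (Nat.succ (Nat.div (Nat.sub n u2) 4)) fun c2 => frc (Nat.add u2 (Nat.mul 4 c2)) fun u3 =>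
  allLt (Nat.succ (Nat.div (Nat.sub n u3) 4)) fun c5 => frc (Nat.add u3 (Nat.mul 4 c5)) fun u4 =>
  allLt (Nat.succ (Nat.div (Nat.sub n u4) 3)) fun c1 => frc (Nat.add u4 (Nat.mul 3 c1)) fun u5 =>
  allLt (Nat.succ (Nat.div (Nat.sub n u5) 3)) fun c6 => frc (Nat.add u5 (Nat.mul 3 c6)) fun u =>
  frc (Nat.add (q6 c1 c2 c3 c4 c5 c6) (Nat.mul (Nat.pred m) (Nat.mul u u))) fun a =>
  frc (Nat.add (p6 c1 c2 c3 c4 c5 c6) (Nat.mul (Nat.mul 4 (Nat.pred m)) u)) fun b =>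
  l7 e n m T P c1 c2 c3 c4 c5 c6 u a b (Nat.add 8 (Nat.mul 4 (Nat.pred m)))
/-- a range of values of the two outer coordinates -/
def rng (e n m T : ℕ) (P : ℕ → ℕ → ℕ → ℕ → ℕ → ℕ → ℕ → ℕ → Bool) (a l : ℕ) : Bool :=
  allLt l fun i => l2 e n m T P (Nat.div (Nat.add a i) 16) (Nat.mod (Nat.add a i) 16)

theorem sound {e n m T : ℕ} {P : ℕ → ℕ → ℕ → ℕ → ℕ → ℕ → ℕ → ℕ → Bool} (m0 : 0 < m) (hT : tabOK n m T = true)
    {c0 c1 c2 c3 c4 c5 c6 c7 : ℕ} (hl : l2 e n m T P c3 c4 = true)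
    (hc : 6 * c3 + 5 * c4 + 4 * c2 + 4 * c5 + 3 * c1 + 3 * c6 + 2 * c0 + 2 * c7 ≤ n)
    (hq : ∀ u, u = 6 * c3 + 5 * c4 + 4 * c2 + 4 * c5 + 3 * c1 + 3 * c6 →
      ((2 * c7 + (u + 2 * c0)) * (2 * c7 + (u + 2 * c0)) + ((q6 c1 c2 c3 c4 c5 c6 + (m - 1) * (u * u)) +
        c0 * ((p6 c1 c2 c3 c4 c5 c6 + 4 * (m - 1) * u) + c0 * (8 + 4 * (m - 1))))) % m = 0)
    (ht : ∀ k, 0 < k → k < n → tst e n (c0 * R0 + c1 * R1 + c2 * R2 + c3 * R3 + c4 * R4 + c5 * R5 + c6 * R6 + c7 * R7) k = true) :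
    P c0 c1 c2 c3 c4 c5 c6 c7 = true := by
  simp only [l2, frc_eq, Bool.or_eq_true, allLt_iff, Nat.blt_eq] at hl
  have h1 := (hl.resolve_left (by show ¬ n < 6 * c3 + 5 * c4; omega)) c2
    (bd (by norm_num) (by show 6 * c3 + 5 * c4 + 4 * c2 ≤ n; omega)) c5
    (bd (by norm_num) (by show 6 * c3 + 5 * c4 + 4 * c2 + 4 * c5 ≤ n; omega)) c1
    (bd (by norm_num) (by show 6 * c3 + 5 * c4 + 4 * c2 + 4 * c5 + 3 * c1 ≤ n; omega)) c6
    (bd (by norm_num) (by show 6 * c3 + 5 * c4 + 4 * c2 + 4 * c5 + 3 * c1 + 3 * c6 ≤ n; omega))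
  have hq' := hq _ rfl
  change l7 e n m T P c1 c2 c3 c4 c5 c6 (6 * c3 + 5 * c4 + 4 * c2 + 4 * c5 + 3 * c1 + 3 * c6) _ _ _ = true at h1
  generalize hu : 6 * c3 + 5 * c4 + 4 * c2 + 4 * c5 + 3 * c1 + 3 * c6 = u at hq' hc h1
  simp only [l7, frc_eq, Bool.or_eq_true, allLt_iff] at h1
  have h2 := h1 c0 (bd (by norm_num) (by omega))
  rw [← Nat.add_mod_mod] at hq'
  have hx : c7 < Nat.succ (Nat.div (Nat.sub n (u + 2 * c0)) 2) := bd (by norm_num) hc
  subst hu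
  rcases h2 with h2 | h2
  · simp only [tabOK, Bool.or_eq_true, allLt_iff, Bool.not_eq_true'] at hT
    have h3 := (hT _ (Nat.mod_lt _ m0) _ (Nat.lt_succ_of_le (le_trans (Nat.le_add_right _ _) hc))).resolve_left
      (fun e1 => Bool.false_ne_true (e1.symm.trans h2)) c7 hx
    exact (nb h3 hq').elim
  · simp only [l8, frc_eq, Bool.or_eq_true, allLt_iff, Bool.not_eq_true'] at h2
    rcases h2 c7 hx with h3 | h3 | h3
    · exact (nb h3 hq').elim
    · refine absurd ((allLt_iff _ _).2 fun k hk => ht _ (Nat.succ_pos k) ?_) (Bool.eq_false_iff.1 h3)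
      exact Nat.succ_lt_of_lt_pred hk
    · exact h3

/-- the pointwise identity -/
def PW (e n : ℕ) : Prop := ∀ k < n, 0 < k → ∀ v < n + 1,
  I k v + I (n - k) v + (I (e * k % n + 1) v + I (n - e * k % n + 1) v) + (J n (e * k % n) v + J n (e * k % n) (-v)) =
  I (k + 1) v + I (n - k + 1) v + (I (e * k % n) v + I (n - e * k % n) v) +
    (J n (e * k % n) (e * v) + J n (e * k % n) (e * -v))

theorem tst_of {e n : ℕ} (hn : n < 128) (pw : PW e n) {v : ℕ → ℕ} (hv : ∀ j < 120, v j ≤ n)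
    (key : ∀ l, ∑ j ∈ range 120, (J n l (v j) + J n l (-v j)) = ∑ j ∈ range 120, (J n l (e * v j) + J n l (e * -v j)))
    {k : ℕ} (k0 : 0 < k) (hk : k < n) : tst e n (∑ j ∈ range 120, v j * 256 ^ j) k = true := by
  have hv' : ∀ j < 120, v j < 128 := fun j hj => (hv j hj).trans_lt hn
  have hl : e * k % n < n := Nat.mod_lt _ (by omega)
  have e1 := sum_congr (s₁ := range 120) rfl fun j hj => pw k hk k0 (v j) (Nat.lt_succ_of_le (hv j (mem_range.1 hj)))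
  rw [sum_add_distrib, sum_add_distrib (g := fun j => J n _ (e * v j) + J n _ (e * -v j)), key, add_left_inj] at e1
  simp only [sum_add_distrib] at e1
  unfold tst
  rw [frc_eq, Nat.beq_eq]
  refine (ZMod.natCast_eq_natCast_iff' _ _ 255).1 ?_
  show (((ge _ k + ge _ (n - k)) + (ge _ (e * k % n + 1) + ge _ (n - e * k % n + 1)) : ℕ) : ZMod 255) =
    ((ge _ (k + 1) + ge _ (n - k + 1)) + (ge _ (e * k % n) + ge _ (n - e * k % n)) : ℕ)
  simp only [Nat.cast_add]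
  rw [ge_eq hv' (by omega), ge_eq hv' (by omega), ge_eq hv' (by omega), ge_eq hv' (by omega), ge_eq hv' (by omega),
    ge_eq hv' (by omega), ge_eq hv' (by omega), ge_eq hv' (by omega)]
  simp only [← mul_add, ← Nat.cast_add, e1]

theorem dvd_nm {e n : ℕ} (c : Fin 8 → ℕ) (w : Equiv.Perm R8) (hw : w ∈ (rootSys chevE8).W)
    (h : ∀ r, e * val c (w r) ≡ val c r [ZMOD n]) : (n : ℤ) ∣ (e * e - 1) * Nm fun i => c i := by
  let u : Fin 8 → ℤ := fun i => val c (w (sm (D := chevE8) i))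
  have lin : ∀ r, val c (w r) = ∑ i : Fin 8, co r i * u i := fun r => by
    have e0 := RootSys.rt_W_eq_sum hw r
    simp only [rootSys_rt, rootSys_simple] at e0
    simp only [u, E82.val, e0, Finset.sum_apply, Pi.smul_apply, smul_eq_mul, sum_mul, mul_sum, mul_assoc]
    exact sum_comm
  have e1 : Nm u = Nm fun i => c i := by
    have := sum_sq u
    simp only [← lin] at this
    rw [Equiv.sum_comp w fun r => val c r ^ 2] at this
    have e2 := sum_sq fun i => (c i : ℤ)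
    change ∑ r, val c r ^ 2 = _ at e2
    omega
  have e3 : ∀ i, ((c i : ℤ) : ZMod n) = e * (u i : ZMod n) := fun i => by
    have := (ZMod.intCast_eq_intCast_iff _ _ _).2 (h (sm (D := chevE8) i))
    have e4 : val c (sm (D := chevE8) i) = c i := by
      simp only [E82.val, co_sm, Pi.single_apply, ite_mul, one_mul, zero_mul]
      exact (sum_ite_eq' univ i fun j => (c j : ℤ)).trans (if_pos (mem_univ _))
    rw [e4] at this
    rw [← this]; push_cast; rfl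
  have e5 : ((Nm fun i => c i : ℤ) : ZMod n) = e * e * (Nm u : ℤ) := by
    simp only [Nm, Int.cast_sum, Int.cast_mul, e3, mul_sum]
    exact sum_congr rfl fun i _ => sum_congr rfl fun k _ => by ring
  rw [← ZMod.intCast_zmod_eq_zero_iff_dvd, Int.cast_mul]
  rw [e1] at e5
  push_cast
  linear_combination -e5

theorem main {e n m T : ℕ} {P : ℕ → ℕ → ℕ → ℕ → ℕ → ℕ → ℕ → ℕ → Bool} (hn : n < 80) (m0 : 0 < m)
    (hm : ∀ x : ℤ, (n : ℤ) ∣ (e * e - 1) * x → (m : ℤ) ∣ x) (pw : PW e n) (hT : tabOK n m T = true)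
    (hl : ∀ p < 176, 16 * (n / 6 + 1) ≤ p ∨ l2 e n m T P (p / 16) (p % 16) = true) (c : Fin 8 → ℕ)
    (hn6 : n / 6 < 11) (hc : ∑ j, th8 j * c j ≤ n)
    (w : Equiv.Perm R8) (hw : w ∈ (rootSys chevE8).W) (h : ∀ r, e * val c (w r) ≡ val c r [ZMOD n]) :
    P (c 0) (c 1) (c 2) (c 3) (c 4) (c 5) (c 6) (c 7) = true := by
  have hc' : 6 * c 3 + 5 * c 4 + 4 * c 2 + 4 * c 5 + 3 * c 1 + 3 * c 6 + 2 * c 0 + 2 * c 7 ≤ n := by
    simp only [Fin.sum_univ_eight] at hc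
    change 2 * c 0 + 3 * c 1 + 4 * c 2 + 6 * c 3 + 5 * c 4 + 4 * c 5 + 3 * c 6 + 2 * c 7 ≤ n at hc
    omega
  have h2 := (hl (16 * c 3 + c 4) (by omega)).resolve_left (by omega)
  rw [show (16 * c 3 + c 4) / 16 = c 3 by omega, show (16 * c 3 + c 4) % 16 = c 4 by omega] at h2
  refine sound m0 hT h2 hc' (fun u hu => ?_) fun k k0 hk => ?_
  · obtain ⟨d, hd⟩ := hm _ (dvd_nm c w hw h)
    obtain ⟨m, rfl⟩ := Nat.exists_eq_succ_of_ne_zero m0.ne'
    refine Nat.mod_eq_zero_of_dvd (Int.natCast_dvd_natCast.1 ⟨2 * d + (u + 2 * c 0) ^ 2, ?_⟩)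
    simp only [Nm, Fin.sum_univ_eight, B] at hd
    simp only [q6, p6, Nat.add_eq, Nat.mul_eq, Nat.succ_sub_one, hu]
    simp at hd
    push_cast
    linear_combination 2 * hd
  · let v : ℕ → ℕ := fun j => ∑ i : Fin 8, lk (Rr i) 8 255 j * c i
    have hS : c 0 * R0 + c 1 * R1 + c 2 * R2 + c 3 * R3 + c 4 * R4 + c 5 * R5 + c 6 * R6 + c 7 * R7 =
        ∑ j ∈ range 120, v j * 256 ^ j := by
      have : ∑ i : Fin 8, c i * Rr i = ∑ j ∈ range 120, v j * 256 ^ j := by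
        rw [sum_congr rfl fun i _ => congrArg (c i * ·) (Rr_eq i)]
        simp only [v, mul_sum, sum_mul]
        rw [sum_comm]
        exact sum_congr rfl fun j _ => sum_congr rfl fun i _ => by ring
      rw [← this, Fin.sum_univ_eight]; rfl
    have hv : ∀ j : Fin 120, val c (pos j) = v j := fun j => by
      simp only [E82.val, v, (co_pos j _).1]; push_cast; rfl
    have hv' : ∀ j : Fin 120, val c (ng (pos j)) = -v j := fun j => by
      rw [← hv]; simp only [E82.val, co_ng, Pi.neg_apply, neg_mul, sum_neg_distrib]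
    rw [hS]
    refine tst_of (by omega) pw (fun j hj => le_trans (sum_le_sum fun i _ =>
      Nat.mul_le_mul_right _ (co_pos ⟨j, hj⟩ i).2) hc) (fun l => ?_) k0 hk
    have e1 := split fun r => J n l (val c r)
    have e2 := split fun r => J n l (e * val c r)
    simp only [hv, hv'] at e1 e2
    rw [← Fin.sum_univ_eq_sum_range (fun j => J n l (v j) + J n l (-v j)),
      ← Fin.sum_univ_eq_sum_range (fun j => J n l (e * v j) + J n l (e * -v j)), ← e1, ← e2,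
      ← Equiv.sum_comp w fun r => J n l (e * val c r)]
    exact sum_congr rfl fun r _ => by unfold J; rw [h r]

theorem rng_spec {e n m T : ℕ} {P : ℕ → ℕ → ℕ → ℕ → ℕ → ℕ → ℕ → ℕ → Bool} {a l : ℕ} (h : rng e n m T P a l = true)
    {p : ℕ} (h1 : a ≤ p) (h2 : p < a + l) : l2 e n m T P (p / 16) (p % 16) = true := by
  obtain ⟨i, rfl⟩ := Nat.exists_eq_add_of_le h1
  exact (allLt_iff _ _).1 h i (by omega)

end CL.E81.En
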