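/-
`E₈(3)`, `L₂(81)`: enumeration of the Kac points of order 40 conjugate to their cubes.
-/
import Cfsg.Agent.KSG.E81.EnC

set_option autoImplicit false
set_option maxRecDepth 100000
set_option exponentiation.threshold 4096
set_option backward.isDefEq.respectTransparency false

namespace CL.E81.X40
open Finset CL.Chev CL.AltE Cfsg.Lie
open CL.E82 (val R8)
open CL.E82.En (tabOK fin fin_spec)
open CL.E81.En

/-- the pairs (residue, budget) without a solution -/
def T : ℕ := 0x140000000000000000000000000000001ffffffffff0000000000000000000001ffffffffff000000000000000000000180000000000000000000000000000000a000000000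
/-- the codes of the surviving points -/
def L : List ℕ := [26526791761920, 39585640091648, 17595441090560, 8798241296448, 75161931904, 6459228352, 70866964864, 22061133074433, 8866977034241, 13331612565569, 8868050767937, 13469017452609, 17664127008897, 13263950053505, 4605295468673, 4467856777345, 8936753201409, 30859340021762, 206225801218, 13194139820034, 18004502904898, 69843558466, 4401284518082, 22128745251138, 30856118796291, 9209483624451, 68737040387, 138579808259, 4400211038211, 207265992707, 17593260576771, 17799434993731, 4467856773187, 17592186314819, 4604204957763, 70867222596, 8797200580676, 13195230064708, 8796093046852, 13263933014148, 13263932764292, 8864812503236, 4400194256901, 17592202821765, 4606352429189, 30786325848070, 16777350, 26663156973575, 26526791761927, 4401268260871, 8799314513927]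
/-- the final test -/
def P := fin 2 5 L

theorem tab : tabOK 40 5 T = true := by decide +kernel
theorem pw : PW 3 40 := by unfold PW; decide +kernel
theorem r0 : rng 3 40 5 T P 0 1 = true := by decide +kernel
theorem r1 : rng 3 40 5 T P 1 1 = true := by decide +kernel
theorem r2 : rng 3 40 5 T P 2 15 = true := by decide +kernel
theorem r3 : rng 3 40 5 T P 17 16 = true := by decide +kernel
theorem r4 : rng 3 40 5 T P 33 143 = true := by decide +kernel

theorem all (p : ℕ) (hp : p < 176) : l2 3 40 5 T P (p / 16) (p % 16) = true := by
  by_cases h0 : p < 1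
  · exact rng_spec r0 (by omega) (by omega)
  by_cases h1 : p < 2
  · exact rng_spec r1 (by omega) (by omega)
  by_cases h2 : p < 17
  · exact rng_spec r2 (by omega) (by omega)
  by_cases h3 : p < 33
  · exact rng_spec r3 (by omega) (by omega)
  exact rng_spec r4 (by omega) (by omega)

theorem raw (c : Fin 8 → ℕ) (hc : ∑ j, th8 j * c j ≤ 40) (w : Equiv.Perm R8) (hw : w ∈ (rootSys chevE8).W)
    (h : ∀ r, 3 * val c (w r) ≡ val c r [ZMOD 40]) (hp : ¬ ∀ i, 2 ∣ c i) (hq : ¬ ∀ i, 5 ∣ c i) :
    c 0 + 64 * (c 1 + 64 * (c 2 + 64 * (c 3 + 64 * (c 4 + 64 * (c 5 + 64 * (c 6 + 64 * c 7)))))) ∈ L :=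
  fin_spec (main (e := 3) (P := P) (by norm_num) (by norm_num) (fun x hx => by push_cast at hx ⊢; omega) pw tab
    (fun p hp => Or.inr (all p hp)) c (by norm_num) hc w hw h) hp hq

end CL.E81.X40
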