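/-
`E₈(3)`, `L₂(81)`: enumeration of the Kac points of order 41 conjugate to their cubes.
-/
import Cfsg.Agent.KSG.E81.EnC

set_option autoImplicit false
set_option maxRecDepth 100000
set_option exponentiation.threshold 4096
set_option backward.isDefEq.respectTransparency false

namespace CL.E81.X41
open Finset CL.Chev CL.AltE Cfsg.Lie
open CL.E82 (val R8)
open CL.E82.En (tabOK fin fin_spec)
open CL.E81.En

/-- the pairs (residue, budget) without a solution -/
def T : ℕ := 0x2aaaaaaaaa80000000000000000000003fffea800000000000000000000000003ffffffffff000000000000000000000355555555500000000000000000000003ffeaaa80000000000000000000000003ffffffffff0000000000000000000003ffffffffff0000000000000000000003faaaaaaa000000000000000000000003aaaaaaaaa00000000000000000000003fffd5400000000000000000000000003ffffffffff0000000000000000000003ffffffffff0000000000000000000003ffffffffff0000000000000000000003ffffffffff0000000000000000000003ffffffffff0000000000000000000003d5555555400000000000000000000003ffffffffff0000000000000000000003ff555550000000000000000000000003ffffffffff0000000000000000000003fffaaa00000000000000000000000003ffd55540000000000000000000000003ffffffffff000000000000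0000000003fd555554000000000000000000000003ffffffffff0000000000000000000003eaaaaaaa800000000000000000000003ffffffffff0000000000000000000003ffffffffff0000000000000000000003ffffffffff0000000000000000000003ffffffffff0000000000000000000003ffffffffff0000000000000000000003ffffc000000000000000000000000003fff55500000000000000000000000003ffffa000000000000000000000000003ffffffffff0000000000000000000003ffffffffff0000000000000000000003f5555555000000000000000000000003ffff5000000000000000000000000003ffffffffff0000000000000000000003ffaaaaa0000000000000000000000003feaaaaa80000000000000000000000015555555554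
/-- the codes of the surviving points -/
def L : List ℕ := [137455755328, 31063350968321, 39585640087617, 8866993803329, 17730715783234, 4605295726658, 8934622765122, 30856118796291, 68737040387, 4467856773187, 4467856773251, 4468930515012, 8798240768005, 71941226501, 4537632948230, 26526791761927, 13267153977351]
/-- the final test -/
def P := fin 41 41 L

theorem tab : tabOK 41 41 T = true := by decide +kernel
theorem pw : PW 3 41 := by unfold PW; decide +kernel
theorem r0 : rng 3 41 41 T P 0 2 = true := by decide +kernel
theorem r1 : rng 3 41 41 T P 2 16 = true := by decide +kernel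
theorem r2 : rng 3 41 41 T P 18 158 = true := by decide +kernel

theorem all (p : ℕ) (hp : p < 176) : l2 3 41 41 T P (p / 16) (p % 16) = true := by
  by_cases h0 : p < 2
  · exact rng_spec r0 (by omega) (by omega)
  by_cases h1 : p < 18
  · exact rng_spec r1 (by omega) (by omega)
  exact rng_spec r2 (by omega) (by omega)

theorem raw (c : Fin 8 → ℕ) (hc : ∑ j, th8 j * c j ≤ 41) (w : Equiv.Perm R8) (hw : w ∈ (rootSys chevE8).W)
    (h : ∀ r, 3 * val c (w r) ≡ val c r [ZMOD 41]) (hp : ¬ ∀ i, 41 ∣ c i) (hq : ¬ ∀ i, 41 ∣ c i) :
    c 0 + 64 * (c 1 + 64 * (c 2 + 64 * (c 3 + 64 * (c 4 + 64 * (c 5 + 64 * (c 6 + 64 * c 7)))))) ∈ L :=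
  fin_spec (main (e := 3) (P := P) (by norm_num) (by norm_num) (fun x hx => by push_cast at hx ⊢; omega) pw tab
    (fun p hp => Or.inr (all p hp)) c (by norm_num) hc w hw h) hp hq

end CL.E81.X41
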