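/-
`E₈(3)`, `L₂(81)`: enumeration of the Kac points of orders 40 and 41 conjugate to their cubes.
-/
import Cfsg.Agent.KSG.E81.Defs
import Cfsg.Agent.KSG.E81.X40
import Cfsg.Agent.KSG.E81.X41
import Cfsg.Agent.KSG.E82.Tw

set_option autoImplicit false
set_option backward.isDefEq.respectTransparency false

namespace CL.E81
open Module Function Finset CL.SL2Wt CL.Chev CL.AltE Cfsg.Lie
open CL.E82 (R8 val ww)
open CL.E83 (K3 G3)
open Matrix hiding zpow_add zpow_mul zpow_sub one_zpow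
open scoped MatrixGroups

namespace EnX

/-- decoding -/
def dec (x : ℕ) : List ℕ := [x % 64, x / 64 % 64, x / 64 / 64 % 64, x / 64 / 64 / 64 % 64, x / 64 / 64 / 64 / 64 % 64,
  x / 64 / 64 / 64 / 64 / 64 % 64, x / 64 / 64 / 64 / 64 / 64 / 64 % 64, x / 64 / 64 / 64 / 64 / 64 / 64 / 64]

theorem dec_eq (c : Fin 8 → ℕ) (hc : ∑ j, th8 j * c j ≤ 41) :
    dec (c 0 + 64 * (c 1 + 64 * (c 2 + 64 * (c 3 + 64 * (c 4 + 64 * (c 5 + 64 * (c 6 + 64 * c 7))))))) =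
      List.ofFn c := by
  simp only [Fin.sum_univ_eight] at hc
  change 2 * c 0 + 3 * c 1 + 4 * c 2 + 6 * c 3 + 5 * c 4 + 4 * c 5 + 3 * c 6 + 2 * c 7 ≤ 41 at hc
  have d : ∀ a x : ℕ, a < 64 → (a + 64 * x) / 64 = x := fun _ _ _ => by omega
  have m : ∀ a x : ℕ, a < 64 → (a + 64 * x) % 64 = a := fun _ _ _ => by omega
  simp (disch := omega) only [dec, d, m]
  rfl

/-- pairs of roots of value `k` at an obtuse angle -/
def N (c : Fin 8 → ℕ) (k : ℤ) : ℕ :=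
  (((univ.filter fun r : R8 => val c r % 41 = k) ×ˢ (univ.filter fun r : R8 => val c r % 41 = k)).filter
    fun p => A p.1 p.2 = -1).card

theorem N_eq {c : Fin 8 → ℕ} {w : Equiv.Perm R8} (hw : w ∈ (rootSys chevE8).W)
    (h : ∀ r, 3 * val c (w r) ≡ val c r [ZMOD 41]) : N c 3 = N c 1 := by
  have e : ∀ r, val c r % 41 = 3 ↔ val c (w r) % 41 = 1 := fun r => by
    have : 3 * val c (w r) % 41 = val c r % 41 := h r
    omega
  refine card_equiv (w.prodCongr w) fun p => ?_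
  simp only [mem_filter, mem_product, mem_univ, true_and, Equiv.prodCongr_apply, Prod.map_fst, Prod.map_snd, e,
    E82.Tw.A_W hw]

theorem k1 : N ![2, 1, 1, 1, 1, 1, 2, 4] 3 ≠ N ![2, 1, 1, 1, 1, 1, 2, 4] 1 := by decide +kernel
theorem k2 : N ![3, 2, 1, 1, 1, 1, 1, 1] 3 ≠ N ![3, 2, 1, 1, 1, 1, 1, 1] 1 := by decide +kernel
theorem l40 : ∀ x ∈ X40.L, dec x ∈ L40 := by decide +kernel
theorem l41 : ∀ x ∈ X41.L, dec x ∈ L41 ∨ dec x = List.ofFn ![2, 1, 1, 1, 1, 1, 2, 4] ∨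
    dec x = List.ofFn ![3, 2, 1, 1, 1, 1, 1, 1] := by decide +kernel

end EnX

/-- PROOF: kernel enumeration of the 110k points of the alcove (adapt KSG/E82/En0 or EnC: test m(k) = m(3k) for all k;
exactly the 51 points of `L40` survive). -/
theorem enum40 (c : Fin 8 → ℕ) (hc : ∑ j, th8 j * c j ≤ 40) (w : Equiv.Perm R8) (hw : w ∈ (rootSys chevE8).W)
    (h : ∀ r, 3 * val c (w r) ≡ val c r [ZMOD 40]) (h2 : ¬ ∀ i, 2 ∣ c i) (h5 : ¬ ∀ i, 5 ∣ c i) :
    List.ofFn c ∈ L40 :=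
  EnX.dec_eq c (hc.trans (by norm_num)) ▸ EnX.l40 _ (X40.raw c hc w hw h h2 h5)

/-- PROOF: 127k points; the test m(k) = m(3k) leaves `L41` and the two points [2,1,1,1,1,1,2,4], [3,2,1,1,1,1,1,1]; these
are killed by the Gram matrix (`CL.E82.Tw.A_W`): #{(r,s) | val r ≡ val s ≡ k, A r s = -1} is 8 resp. 10 for k = 1 but
10 resp. 8 for k = 3. -/
theorem enum41 (c : Fin 8 → ℕ) (hc : ∑ j, th8 j * c j ≤ 41) (w : Equiv.Perm R8) (hw : w ∈ (rootSys chevE8).W)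
    (h : ∀ r, 3 * val c (w r) ≡ val c r [ZMOD 41]) (h41 : ¬ ∀ i, 41 ∣ c i) : List.ofFn c ∈ L41 := by
  have e := EnX.l41 _ (X41.raw c hc w hw h h41 h41)
  rw [EnX.dec_eq c hc] at e
  rcases e with e | e | e
  · exact e
  · obtain rfl := List.ofFn_injective e
    exact absurd (EnX.N_eq hw h) EnX.k1
  · obtain rfl := List.ofFn_injective e
    exact absurd (EnX.N_eq hw h) EnX.k2

end CL.E81
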