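/-
`E₈(3)`, `L₂(81)`: tables of eigenvalue multiplicities.
-/
import Cfsg.Agent.KSG.E81.Defs

set_option autoImplicit false
set_option backward.isDefEq.respectTransparency false

namespace CL.E81.FeasM
open Module Function Finset CL.SL2Wt CL.Chev CL.AltE Cfsg.Lie
open CL.E82 (R8 val ww)
open CL.E83 (K3 G3)
open Matrix hiding zpow_add zpow_mul zpow_sub one_zpow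
open scoped MatrixGroups

/-- the vectors `mu 40 c`, `c ∈ L40` -/
def T40 : List (List ℕ) := [[48, 16, 1, 16, 10, 0, 1, 0, 1, 16, 10, 0, 10, 16, 1, 0, 1, 0, 1, 0, 0, 0, 1, 0, 1, 0, 1, 16, 10, 0, 10, 16, 1, 0, 1, 0, 10, 16, 1, 16], [18, 6, 8, 6, 5, 8, 8, 4, 4, 6, 1, 4, 5, 6, 8, 8, 4, 4, 8, 4, 16, 4, 8, 4, 4, 8, 8, 6, 5, 4, 1, 6, 4, 4, 8, 8, 5, 6, 8, 6], [16, 4, 5, 4, 8, 4, 5, 10, 4, 4, 8, 10, 8, 4, 5, 4, 4, 10, 5, 10, 0, 10, 5, 10, 4, 4, 5, 4, 8, 10, 8, 4, 4, 10, 5, 4, 8, 4, 5, 4], [14, 3, 6, 3, 8, 8, 6, 7, 5, 3, 9, 7, 8, 3, 6, 8, 5, 7, 6, 7, 4, 7, 6, 7, 5, 8, 6, 3, 8, 7, 9, 3, 5, 7, 6, 8, 8, 3, 6, 3], [18, 8, 3, 8, 2, 0, 3, 8, 5, 8, 18, 8, 2, 8, 3, 0, 5, 8, 3, 8,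 14, 8, 3, 8, 5, 0, 3, 8, 2, 8, 18, 8, 5, 8, 3, 0, 2, 8, 3, 8], [26, 4, 3, 4, 6, 0, 3, 12, 1, 4, 18, 12, 6, 4, 3, 0, 1, 12, 3, 12, 6, 12, 3, 12, 1, 0, 3, 4, 6, 12, 18, 4, 1, 12, 3, 0, 6, 4, 3, 4], [18, 8, 3, 8, 4, 0, 3, 8, 3, 8, 18, 8, 4, 8, 3, 0, 3, 8, 3, 8, 14, 8, 3, 8, 3, 0, 3, 8, 4, 8, 18, 8, 3, 8, 3, 0, 4, 8, 3, 8], [14, 5, 7, 5, 6, 8, 7, 5, 5, 5, 7, 5, 6, 5, 7, 8, 5, 5, 7, 5, 8, 5, 7, 5, 5, 8, 7, 5, 6, 5, 7, 5, 5, 5, 7, 8, 6, 5, 7, 5], [12, 5, 5, 5, 6, 8, 5, 7, 5, 5, 8, 7, 6, 5, 5, 8, 5, 7, 5, 7, 8, 7, 5, 7, 5, 8, 5, 5, 6, 7, 8, 5, 5, 7, 5, 8, 6, 5, 5, 5], [12, 4, 6, 4, 7, 8, 6, 6, 6, 4, 9, 6, 7, 4, 6, 8, 6, 6, 6, 6, 6, 6, 6, 6, 6, 8, 6, 4, 7, 6, 9, 4, 6, 6,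 6, 8, 7, 4, 6, 4], [8, 7, 5, 7, 6, 4, 5, 7, 6, 7, 8, 7, 6, 7, 5, 4, 6, 7, 5, 7, 8, 7, 5, 7, 6, 4, 5, 7, 6, 7, 8, 7, 6, 7, 5, 4, 6, 7, 5, 7], [20, 5, 0, 5, 14, 8, 0, 5, 11, 5, 1, 5, 14, 5, 0, 8, 11, 5, 0, 5, 14, 5, 0, 5, 11, 8, 0, 5, 14, 5, 1, 5, 11, 5, 0, 8, 14, 5, 0, 5], [12, 7, 3, 7, 8, 6, 3, 6, 10, 7, 2, 6, 8, 7, 3, 6, 10, 6, 3, 6, 8, 6, 3, 6, 10, 6, 3, 7, 8, 6, 2, 7, 10, 6, 3, 6, 8, 7, 3, 7], [10, 5, 6, 5, 6, 8, 6, 5, 7, 5, 9, 5, 6, 5, 6, 8, 7, 5, 6, 5, 8, 5, 6, 5, 7, 8, 6, 5, 6, 5, 9, 5, 7, 5, 6, 8, 6, 5, 6, 5], [10, 5, 6, 5, 7, 8, 6, 5, 6, 5, 9, 5, 7, 5, 6, 8, 6, 5, 6, 5, 8, 5, 6, 5, 6, 8, 6, 5, 7, 5, 9, 5, 6, 5, 6, 8, 7, 5, 6, 5], [8, 6, 6, 6, 6, 6, 6, 7,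 6, 6, 6, 7, 6, 6, 6, 6, 6, 7, 6, 7, 4, 7, 6, 7, 6, 6, 6, 6, 6, 7, 6, 6, 6, 7, 6, 6, 6, 6, 6, 6], [20, 4, 2, 4, 9, 8, 2, 8, 8, 4, 6, 8, 9, 4, 2, 8, 8, 8, 2, 8, 4, 8, 2, 8, 8, 8, 2, 4, 9, 8, 6, 4, 8, 8, 2, 8, 9, 4, 2, 4], [32, 1, 8, 1, 8, 8, 8, 9, 1, 1, 1, 9, 8, 1, 8, 8, 1, 9, 8, 9, 2, 9, 8, 9, 1, 8, 8, 1, 8, 9, 1, 1, 1, 9, 8, 8, 8, 1, 8, 1], [16, 6, 2, 6, 4, 8, 2, 6, 13, 6, 6, 6, 4, 6, 2, 8, 13, 6, 2, 6, 8, 6, 2, 6, 13, 8, 2, 6, 4, 6, 6, 6, 13, 6, 2, 8, 4, 6, 2, 6], [24, 8, 1, 8, 4, 0, 1, 8, 7, 8, 10, 8, 4, 8, 1, 0, 7, 8, 1, 8, 24, 8, 1, 8, 7, 0, 1, 8, 4, 8, 10, 8, 7, 8, 1, 0, 4, 8, 1, 8], [28, 10, 5, 10, 2, 0, 5, 6, 1, 10, 10, 6, 2, 10, 5, 0, 1, 6, 5, 6, 20, 6,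 5, 6, 1, 0, 5, 10, 2, 6, 10, 10, 1, 6, 5, 0, 2, 10, 5, 10], [12, 5, 5, 5, 6, 8, 5, 5, 9, 5, 7, 5, 6, 5, 5, 8, 9, 5, 5, 5, 10, 5, 5, 5, 9, 8, 5, 5, 6, 5, 7, 5, 9, 5, 5, 8, 6, 5, 5, 5], [12, 6, 2, 6, 9, 8, 2, 6, 8, 6, 6, 6, 9, 6, 2, 8, 8, 6, 2, 6, 12, 6, 2, 6, 8, 8, 2, 6, 9, 6, 6, 6, 8, 6, 2, 8, 9, 6, 2, 6], [20, 5, 5, 5, 0, 8, 5, 5, 15, 5, 7, 5, 0, 5, 5, 8, 15, 5, 5, 5, 2, 5, 5, 5, 15, 8, 5, 5, 0, 5, 7, 5, 15, 5, 5, 8, 0, 5, 5, 5], [32, 9, 8, 9, 8, 8, 8, 1, 1, 9, 1, 1, 8, 9, 8, 8, 1, 1, 8, 1, 2, 1, 8, 1, 1, 8, 8, 9, 8, 1, 1, 9, 1, 1, 8, 8, 8, 9, 8, 9], [32, 8, 1, 8, 8, 0, 1, 8, 3, 8, 10, 8, 8, 8, 1, 0, 3, 8, 1, 8, 16, 8, 1, 8, 3, 0, 1, 8, 8, 8, 10, 8, 3, 8, 1, 0,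 8, 8, 1, 8], [16, 6, 2, 6, 8, 8, 2, 6, 9, 6, 6, 6, 8, 6, 2, 8, 9, 6, 2, 6, 8, 6, 2, 6, 9, 8, 2, 6, 8, 6, 6, 6, 9, 6, 2, 8, 8, 6, 2, 6], [20, 4, 3, 4, 6, 6, 3, 9, 12, 4, 2, 9, 6, 4, 3, 6, 12, 9, 3, 9, 0, 9, 3, 9, 12, 6, 3, 4, 6, 9, 2, 4, 12, 9, 3, 6, 6, 4, 3, 4], [12, 6, 6, 6, 7, 8, 6, 4, 6, 6, 9, 4, 7, 6, 6, 8, 6, 4, 6, 4, 6, 4, 6, 4, 6, 8, 6, 6, 7, 4, 9, 6, 6, 4, 6, 8, 7, 6, 6, 6], [12, 6, 3, 6, 8, 6, 3, 7, 10, 6, 2, 7, 8, 6, 3, 6, 10, 7, 3, 7, 8, 7, 3, 7, 10, 6, 3, 6, 8, 7, 2, 6, 10, 7, 3, 6, 8, 6, 3, 6], [16, 5, 0, 5, 13, 8, 0, 5, 12, 5, 1, 5, 13, 5, 0, 8, 12, 5, 0, 5, 18, 5, 0, 5, 12, 8, 0, 5, 13, 5, 1, 5, 12, 5, 0, 8, 13, 5, 0, 5], [14, 7, 6, 7, 5, 8, 6, 5,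 4, 7, 6, 5, 5, 7, 6, 8, 4, 5, 6, 5, 10, 5, 6, 5, 4, 8, 6, 7, 5, 5, 6, 7, 4, 5, 6, 8, 5, 7, 6, 7], [8, 7, 6, 7, 6, 6, 6, 6, 6, 7, 6, 6, 6, 7, 6, 6, 6, 6, 6, 6, 4, 6, 6, 6, 6, 6, 6, 7, 6, 6, 6, 7, 6, 6, 6, 6, 6, 7, 6, 7], [20, 5, 5, 5, 8, 8, 5, 5, 7, 5, 7, 5, 8, 5, 5, 8, 7, 5, 5, 5, 2, 5, 5, 5, 7, 8, 5, 5, 8, 5, 7, 5, 7, 5, 5, 8, 8, 5, 5, 5], [20, 5, 0, 5, 10, 8, 0, 5, 15, 5, 1, 5, 10, 5, 0, 8, 15, 5, 0, 5, 14, 5, 0, 5, 15, 8, 0, 5, 10, 5, 1, 5, 15, 5, 0, 8, 10, 5, 0, 5], [14, 7, 6, 7, 8, 8, 6, 3, 5, 7, 9, 3, 8, 7, 6, 8, 5, 3, 6, 3, 4, 3, 6, 3, 5, 8, 6, 7, 8, 3, 9, 7, 5, 3, 6, 8, 8, 7, 6, 7], [12, 5, 5, 5, 8, 8, 5, 5, 7, 5, 7, 5, 8, 5, 5, 8, 7, 5, 5, 5, 10, 5, 5,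 5, 7, 8, 5, 5, 8, 5, 7, 5, 7, 5, 5, 8, 8, 5, 5, 5], [12, 6, 6, 6, 4, 8, 6, 6, 5, 6, 6, 6, 4, 6, 6, 8, 5, 6, 6, 6, 12, 6, 6, 6, 5, 8, 6, 6, 4, 6, 6, 6, 5, 6, 6, 8, 4, 6, 6, 6], [28, 6, 5, 6, 2, 0, 5, 10, 1, 6, 10, 10, 2, 6, 5, 0, 1, 10, 5, 10, 20, 10, 5, 10, 1, 0, 5, 6, 2, 10, 10, 6, 1, 10, 5, 0, 2, 6, 5, 6], [12, 7, 5, 7, 6, 8, 5, 5, 5, 7, 8, 5, 6, 7, 5, 8, 5, 5, 5, 5, 8, 5, 5, 5, 5, 8, 5, 7, 6, 5, 8, 7, 5, 5, 5, 8, 6, 7, 5, 7], [14, 5, 6, 5, 5, 8, 6, 7, 4, 5, 6, 7, 5, 5, 6, 8, 4, 7, 6, 7, 10, 7, 6, 7, 4, 8, 6, 5, 5, 7, 6, 5, 4, 7, 6, 8, 5, 5, 6, 5], [20, 8, 2, 8, 9, 8, 2, 4, 8, 8, 6, 4, 9, 8, 2, 8, 8, 4, 2, 4, 4, 4, 2, 4, 8, 8, 2, 8, 9, 4, 6, 8, 8, 4, 2, 8, 9,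 8, 2, 8], [16, 10, 5, 10, 8, 4, 5, 4, 4, 10, 8, 4, 8, 10, 5, 4, 4, 4, 5, 4, 0, 4, 5, 4, 4, 4, 5, 10, 8, 4, 8, 10, 4, 4, 5, 4, 8, 10, 5, 10], [20, 9, 3, 9, 6, 6, 3, 4, 12, 9, 2, 4, 6, 9, 3, 6, 12, 4, 3, 4, 0, 4, 3, 4, 12, 6, 3, 9, 6, 4, 2, 9, 12, 4, 3, 6, 6, 9, 3, 9], [14, 5, 7, 5, 2, 8, 7, 5, 9, 5, 7, 5, 2, 5, 7, 8, 9, 5, 7, 5, 8, 5, 7, 5, 9, 8, 7, 5, 2, 5, 7, 5, 9, 5, 7, 8, 2, 5, 7, 5], [24, 8, 1, 8, 6, 0, 1, 8, 5, 8, 10, 8, 6, 8, 1, 0, 5, 8, 1, 8, 24, 8, 1, 8, 5, 0, 1, 8, 6, 8, 10, 8, 5, 8, 1, 0, 6, 8, 1, 8], [26, 12, 3, 12, 6, 0, 3, 4, 1, 12, 18, 4, 6, 12, 3, 0, 1, 4, 3, 4, 6, 4, 3, 4, 1, 0, 3, 12, 6, 4, 18, 12, 1, 4, 3, 0, 6, 12, 3, 12], [48, 0, 1, 0, 10, 0,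 1, 16, 1, 0, 10, 16, 10, 0, 1, 0, 1, 16, 1, 16, 0, 16, 1, 16, 1, 0, 1, 0, 10, 16, 10, 0, 1, 16, 1, 0, 10, 0, 1, 0], [32, 8, 1, 8, 2, 0, 1, 8, 9, 8, 10, 8, 2, 8, 1, 0, 9, 8, 1, 8, 16, 8, 1, 8, 9, 0, 1, 8, 2, 8, 10, 8, 9, 8, 1, 0, 2, 8, 1, 8], [18, 4, 8, 4, 5, 8, 8, 6, 4, 4, 1, 6, 5, 4, 8, 8, 4, 6, 8, 6, 16, 6, 8, 6, 4, 8, 8, 4, 5, 6, 1, 4, 4, 6, 8, 8, 5, 4, 8, 4], [16, 5, 8, 5, 4, 8, 8, 5, 5, 5, 1, 5, 4, 5, 8, 8, 5, 5, 8, 5, 18, 5, 8, 5, 5, 8, 8, 5, 4, 5, 1, 5, 5, 5, 8, 8, 4, 5, 8, 5]]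
/-- the vectors `mu 41 d`, `d ∈ L41` -/
def T41 : List (List ℕ) := [[16, 6, 6, 6, 2, 2, 6, 7, 8, 6, 8, 8, 2, 6, 6, 2, 7, 8, 6, 7, 7, 7, 7, 6, 8, 7, 2, 6, 6, 2, 8, 8, 6, 8, 7, 6, 2, 2, 6, 6, 6], [32, 8, 8, 8, 1, 1, 8, 9, 1, 8, 1, 1, 1, 8, 8, 1, 9, 1, 8, 9, 9, 9, 9, 8, 1, 9, 1, 8, 8, 1, 1, 1, 8, 1, 9, 8, 1, 1, 8, 8, 8], [16, 7, 6, 7, 6, 6, 6, 8, 2, 7, 2, 2, 6, 6, 7, 6, 8, 2, 6, 8, 8, 8, 8, 6, 2, 8, 6, 7, 6, 6, 2, 2, 7, 2, 8, 6, 6, 6, 7, 6, 7], [8, 6, 6, 6, 5, 5, 6, 6, 7, 6, 7, 7, 5, 6, 6, 5, 6, 7, 6, 6, 6, 6, 6, 6, 7, 6, 5, 6, 6, 5, 7, 7, 6, 7, 6, 6, 5, 5, 6, 6, 6], [8, 6, 5, 6, 7, 7, 5, 6, 6, 6, 6, 6, 7, 5, 6, 7, 6, 6, 5, 6, 6, 6, 6, 5, 6, 6, 7, 6, 5, 7, 6, 6, 6,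 6, 6, 5, 7, 7, 6, 5, 6], [8, 5, 7, 5, 6, 6, 7, 6, 6, 5, 6, 6, 6, 7, 5, 6, 6, 6, 7, 6, 6, 6, 6, 7, 6, 6, 6, 5, 7, 6, 6, 6, 5, 6, 6, 7, 6, 6, 5, 7, 5], [32, 9, 8, 9, 8, 8, 8, 1, 1, 9, 1, 1, 8, 8, 9, 8, 1, 1, 8, 1, 1, 1, 1, 8, 1, 1, 8, 9, 8, 8, 1, 1, 9, 1, 1, 8, 8, 8, 9, 8, 9], [16, 6, 2, 6, 8, 8, 2, 6, 7, 6, 7, 7, 8, 2, 6, 8, 6, 7, 2, 6, 6, 6, 6, 2, 7, 6, 8, 6, 2, 8, 7, 7, 6, 7, 6, 2, 8, 8, 6, 2, 6], [8, 7, 6, 7, 6, 6, 6, 5, 6, 7, 6, 6, 6, 6, 7, 6, 5, 6, 6, 5, 5, 5, 5, 6, 6, 5, 6, 7, 6, 6, 6, 6, 7, 6, 5, 6, 6, 6, 7, 6, 7], [8, 6, 6, 6, 6, 6, 6, 7, 5, 6, 5, 5, 6, 6, 6, 6, 7, 5, 6, 7, 7, 7, 7, 6, 5, 7, 6, 6, 6, 6, 5, 5, 6, 5, 7, 6, 6, 6, 6, 6, 6], [16, 8, 7, 8, 6, 6,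 7, 2, 6, 8, 6, 6, 6, 7, 8, 6, 2, 6, 7, 2, 2, 2, 2, 7, 6, 2, 6, 8, 7, 6, 6, 6, 8, 6, 2, 7, 6, 6, 8, 7, 8], [16, 2, 8, 2, 7, 7, 8, 6, 6, 2, 6, 6, 7, 8, 2, 7, 6, 6, 8, 6, 6, 6, 6, 8, 6, 6, 7, 2, 8, 7, 6, 6, 2, 6, 6, 8, 7, 7, 2, 8, 2], [32, 1, 9, 1, 8, 8, 9, 1, 8, 1, 8, 8, 8, 9, 1, 8, 1, 8, 9, 1, 1, 1, 1, 9, 8, 1, 8, 1, 9, 8, 8, 8, 1, 8, 1, 9, 8, 8, 1, 9, 1], [32, 8, 1, 8, 1, 1, 1, 8, 9, 8, 9, 9, 1, 1, 8, 1, 8, 9, 1, 8, 8, 8, 8, 1, 9, 8, 1, 8, 1, 1, 9, 9, 8, 9, 8, 1, 1, 1, 8, 1, 8], [32, 1, 1, 1, 9, 9, 1, 8, 8, 1, 8, 8, 9, 1, 1, 9, 8, 8, 1, 8, 8, 8, 8, 1, 8, 8, 9, 1, 1, 9, 8, 8, 1, 8, 8, 1, 9, 9, 1, 1, 1]]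
/-- pairs (Kac point, multiplicities) -/
def M40 : List (List ℕ × List ℕ) := L40.zip T40
/-- pairs (Kac point, multiplicities) -/
def M41 : List (List ℕ × List ℕ) := L41.zip T41

theorem t40 : L40.map (fun l => (l, (List.range 40).map (mu 40 fun i => l.getD i 0))) = M40 := by decide +kernel
theorem t41 : L41.map (fun l => (l, (List.range 41).map (mu 41 fun i => l.getD i 0))) = M41 := by decide +kernel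

theorem getD_ofFn (c : Fin 8 → ℕ) : (fun i : Fin 8 => (List.ofFn c).getD i 0) = c := by
  funext i; fin_cases i <;> rfl

theorem mu40 {c : Fin 8 → ℕ} (hc : List.ofFn c ∈ L40) : (List.ofFn c, (List.range 40).map (mu 40 c)) ∈ M40 := by
  rw [← t40]
  exact List.mem_map.2 ⟨_, hc, by rw [getD_ofFn]⟩

theorem mu41 {c : Fin 8 → ℕ} (hc : List.ofFn c ∈ L41) : (List.ofFn c, (List.range 41).map (mu 41 c)) ∈ M41 := by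
  rw [← t41]
  exact List.mem_map.2 ⟨_, hc, by rw [getD_ofFn]⟩

theorem getD_map (f : ℕ → ℕ) {n k : ℕ} (h : k < n) : ((List.range n).map f).getD k 0 = f k := by
  simp [List.getD_eq_getElem?_getD, h]

/-- the form with `getD` -/
theorem mu40' {c : Fin 8 → ℕ} (hc : List.ofFn c ∈ L40) : ∃ p ∈ M40, p.1 = List.ofFn c ∧ ∀ k < 40, mu 40 c k = p.2.getD k 0 :=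
  ⟨_, mu40 hc, rfl, fun _ h => (getD_map _ h).symm⟩

theorem mu41' {c : Fin 8 → ℕ} (hc : List.ofFn c ∈ L41) : ∃ p ∈ M41, p.1 = List.ofFn c ∧ ∀ k < 41, mu 41 c k = p.2.getD k 0 :=
  ⟨_, mu41 hc, rfl, fun _ h => (getD_map _ h).symm⟩

end CL.E81.FeasM
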