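/-
`E₈(3)`, `L₂(81)`: the feasible characters.
-/
import Cfsg.Agent.KSG.E81.FeasM

set_option autoImplicit false
set_option backward.isDefEq.respectTransparency false

namespace CL.E81
open Module Function Finset CL.SL2Wt CL.Chev CL.AltE Cfsg.Lie
open CL.E82 (R8 val ww)
open CL.E83 (K3 G3)
open Matrix hiding zpow_add zpow_mul zpow_sub one_zpow
open scoped MatrixGroups

namespace FeasA

/-- the indices of the extremal weights -/
def JP (r : ℕ) : Finset ℕ :=
  (range 81).filter fun j => (j % 3 = 0 ∨ j % 3 = r % 3) ∧ (j / 3 % 3 = 0 ∨ j / 3 % 3 = r / 3 % 3) ∧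
    (j / 9 % 3 = 0 ∨ j / 9 % 3 = r / 9 % 3) ∧ (j / 27 = 0 ∨ j / 27 = r / 27)

/-- the functional: `Σ_{b ∈ extremal weights of L(J)} m(-b)` -/
def fn (n J : ℕ) (m : ℕ → ℕ) : ℕ := ∑ j ∈ JP J, m ((n - (J + (n - 2) * j) % n) % n)

theorem fn_congr {n : ℕ} (hn : 0 < n) (J : ℕ) {m m' : ℕ → ℕ} (h : ∀ k < n, m k = m' k) : fn n J m = fn n J m' :=
  Finset.sum_congr rfl fun _ _ => h _ (Nat.mod_lt _ hn)

/-- packed histogram of the weights -/
def hist (n r : ℕ) : ℕ := ∑ j ∈ JJ r, 256 ^ ((r + (n - 2) * j) % n)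

theorem cw80 : ∀ r < 81, ∀ k < 80, cw 80 r k = hist 80 r >>> (8 * k) % 256 := by decide +kernel

theorem cw82 : ∀ r < 81, ∀ k < 82, cw 82 r k = hist 82 r >>> (8 * k) % 256 := by decide +kernel

theorem fn_simple : ∀ J < 81, ∀ r < 81, fn 80 J (cw 80 r) =
    fn 82 J (cw 82 r) + (if r = 80 - J then 2 else 0) + if J = 80 ∧ r = 80 then 2 else 0 := by
  have : ∀ J < 81, ∀ r < 81, fn 80 J (fun k => hist 80 r >>> (8 * k) % 256) =
      fn 82 J (fun k => hist 82 r >>> (8 * k) % 256) + (if r = 80 - J then 2 else 0) +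
        if J = 80 ∧ r = 80 then 2 else 0 := by decide +kernel
  intro J hJ r hr
  rw [fn_congr (by norm_num) J (cw80 r hr), fn_congr (by norm_num) J (cw82 r hr), this J hJ r hr]

/-- sum over R -/
theorem fn_count {R : Multiset ℕ} (hR : ∀ r ∈ R, r < 81) {J : ℕ} (hJ : J < 81) :
    fn 80 J (fun k => (R.map (cw 80 · k)).sum) = fn 82 J (fun k => (R.map (cw 82 · k)).sum) + 2 * R.count (80 - J) +
      if J = 80 then 2 * R.count 80 else 0 := by
  induction R using Multiset.induction with
  | empty => simp [fn]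
  | cons r R ih =>
    have h1 := ih fun x hx => hR x (Multiset.mem_cons_of_mem hx)
    have h2 := fn_simple J hJ r (hR r (Multiset.mem_cons_self r R))
    simp only [fn, Multiset.map_cons, Multiset.sum_cons, Finset.sum_add_distrib, Multiset.count_cons,
      eq_comm (a := 80 - J), eq_comm (a := 80) (b := r)] at h1 h2 ⊢
    rw [h1, h2]
    by_cases e : J = 80
    · simp only [e, true_and, if_true]
      split_ifs <;> ring
    · simp only [e, false_and, if_false]
      split_ifs <;> ring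

/-- the right hand sides -/
def rhs (m : List ℕ) (k : ℕ) : ℕ := if k % 2 = 0 then m.getD (k / 2) 0 else 0

theorem rhs_map (n : ℕ) (f : ℕ → ℕ) : ∀ k < 2 * n, rhs ((List.range n).map f) k = if k % 2 = 0 then f (k / 2) else 0 := by
  intro k hk
  have h : k / 2 < n := by omega
  simp [rhs, List.getD_eq_getElem?_getD, h]

theorem tab : ∀ p ∈ FeasM.M40, ∀ q ∈ FeasM.M41, (∀ J < 40, fn 82 (2 * J) (rhs q.2) ≤ fn 80 (2 * J) (rhs p.2) ∧
    fn 80 (2 * J) (rhs p.2) % 2 = fn 82 (2 * J) (rhs q.2) % 2) → ∃ a : Fin 6, p.1 = List.ofFn (CT a) ∧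
      ∀ J < 81, fn 80 J (rhs p.2) = fn 82 J (rhs q.2) + 2 * (RL a).count (80 - J) +
        if J = 80 then 2 * (RL a).count 80 else 0 := by
  decide +kernel

theorem RL_lt : ∀ a : Fin 6, ∀ r ∈ RL a, r < 81 := by decide +kernel

end FeasA

open FeasA in
/-- The counts of the composition factors are read off by the characters of the projective covers; the 765 pairs are
checked by the kernel. -/
theorem feas {R : Multiset ℕ} (hR : ∀ r ∈ R, r < 81) {c d : Fin 8 → ℕ} (hc : List.ofFn c ∈ L40) (hd : List.ofFn d ∈ L41)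
    (ht : ∀ k < 80, (R.map (cw 80 · k)).sum = if k % 2 = 0 then mu 40 c (k / 2) else 0)
    (hs : ∀ k < 82, (R.map (cw 82 · k)).sum = if k % 2 = 0 then mu 41 d (k / 2) else 0) :
    ∃ a, c = CT a ∧ R = (RL a : Multiset ℕ) := by
  have k : ∀ J < 81, fn 80 J (rhs ((List.range 40).map (mu 40 c))) = fn 82 J (rhs ((List.range 41).map (mu 41 d))) +
      2 * R.count (80 - J) + if J = 80 then 2 * R.count 80 else 0 := fun J hJ => by
    rw [fn_congr (by norm_num) J (rhs_map 40 (mu 40 c)), fn_congr (by norm_num) J (rhs_map 41 (mu 41 d)),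
      ← fn_congr (by norm_num) J ht, ← fn_congr (by norm_num) J hs, fn_count hR hJ]
  obtain ⟨a, h1, h2⟩ := tab _ (FeasM.mu40 hc) _ (FeasM.mu41 hd) fun J hJ => by
    have := k (2 * J) (by omega)
    rw [if_neg (by omega)] at this
    dsimp only
    omega
  dsimp only at h1 h2
  refine ⟨a, List.ofFn_injective h1, ?_⟩
  have e : ∀ r, 0 < r → r < 81 → R.count r = (RL a).count r := fun r h0 h => by
    have h3 := k (80 - r) (by omega)
    have h4 := h2 (80 - r) (by omega)
    rw [if_neg (by omega), show 80 - (80 - r) = r by omega] at h3 h4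
    omega
  refine Multiset.ext.2 fun r => ?_
  rw [Multiset.coe_count]
  by_cases h : r < 81
  · obtain rfl | h0 := Nat.eq_zero_or_pos r
    · have h3 := k 80 (by omega)
      have h4 := h2 80 (by omega)
      have h5 := e 80 (by omega) (by omega)
      rw [if_pos rfl, Nat.sub_self] at h3 h4
      omega
    · exact e r h0 h
  · rw [Multiset.count_eq_zero.2 (mt (hR r) h), List.count_eq_zero.2 (mt (RL_lt a r) h)]

end CL.E81
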