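/-
Kac coordinates of semisimple elements of `E₈(q)`, for any characteristic.
-/
import Cfsg.Agent.KSG.E82.Cls

set_option autoImplicit false
set_option maxRecDepth 20000
set_option maxHeartbeats 200000
set_option backward.isDefEq.respectTransparency false

namespace CL.E81.Cls0
open Module Function Finset CL.SL2Wt CL.Chev CL.AltE Cfsg.Lie
open Matrix hiding zpow_add zpow_mul zpow_sub one_zpow
open CL.E82 (val R8)

variable {K G : Type*} [Field K] [IsAlgClosed K] [Group G] {φ : K →+* K} {q : ℕ}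
  {σ : Monoid.End (chevE8.SteinbergGroup K)} {ψ : G →* chevE8.SteinbergGroup K} (A : (stS chevE8 K).Alg φ q σ)

omit [IsAlgClosed K] in
theorem one {t : Fin 8 → Kˣ} (h : ∀ r : R8, uchr t ((rootSys chevE8).wt r) = 1) : t = 1 := by
  refine (w248 K).faith _ fun i => ?_
  rw [w248_wt]
  by_cases hi : i.1 < chevE8.nroots
  · have e' : wtA chevE8 i = (rootSys chevE8).wt ⟨i.1, hi⟩ := funext fun j => by rw [rootSys_wt', wtA, if_pos hi]
    rw [e']
    exact h _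
  · rw [show wtA chevE8 i = 0 from funext fun j => if_neg hi, uchr_zero]

theorem kac (h1 : Injective ψ) (h2 : ∀ g, σ (ψ g) = ψ g) {n : ℕ} (n0 : 0 < n) {z : Kˣ} (hz : orderOf z = n) {g : G}
    (hg : orderOf g = n) : ∃ c : Fin 8 → ℕ, (∃ y, ∃ t : Fin 8 → Kˣ, y * ψ g * y⁻¹ = A.r3.torHom t ∧
      ∀ r : R8, uchr t ((rootSys chevE8).wt r) = z ^ val c r) ∧ ∑ j, th8 j * c j ≤ n ∧ (∃ w ∈ (rootSys chevE8).W,
      ∀ r, (q : ℤ) * val c (w r) ≡ val c r [ZMOD n]) ∧ ∀ p, 1 < p → p ∣ n → ¬ ∀ i, p ∣ c i := by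
  have hz' : IsPrimitiveRoot (z : K) n := IsPrimitiveRoot.coe_units_iff.2 (hz ▸ IsPrimitiveRoot.orderOf z)
  have hp : ψ g ^ n = 1 := by rw [← map_pow, ← hg, pow_orderOf_eq_one, map_one]
  obtain ⟨y, a, c, e, h3, h4⟩ := exists_alc A n0 hz' hp
  obtain ⟨T, hT⟩ : ∃ T : (Fin 8 → Kˣ) →* chevE8.SteinbergGroup K, T = A.r3.torHom := ⟨_, rfl⟩
  obtain ⟨t, e, hc⟩ : ∃ t : Fin 8 → Kˣ, y * ψ g * y⁻¹ = T t ∧ ∀ r : R8, uchr t ((rootSys chevE8).wt r) = z ^ val c r :=
    ⟨_, hT ▸ e, fun r => (E82.Cls.gen hz h4 r).trans (by rfl)⟩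
  have : NeZero n := ⟨n0.ne'⟩
  refine ⟨c, ⟨y, t, hT ▸ e, hc⟩, ?_, ?_, fun p p1 pn hd => ?_⟩
  · obtain ⟨r, hr, hθ⟩ := high8
    have := h3 r hr
    simp only [hθ] at this
    exact_mod_cast this
  · obtain ⟨w, hw, t', ht, y', hy⟩ := A.exists_act_eq_pow (h2 g) fun e0 =>
      hz'.neZero'.out (by
        obtain ⟨k, hk⟩ := orderOf_dvd_of_pow_eq_one hp
        rw [hk, Nat.cast_mul, e0, zero_mul])
    obtain ⟨m, -, hm⟩ := (stS chevE8 K).exists_acts hw
    have c1 := A.r3.conj_torHom hm t'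
    rw [ht, map_pow, ← hy, conj_pow] at c1
    have c2 : (y * y'⁻¹ * m * y' * y⁻¹) * T t * (y * y'⁻¹ * m * y' * y⁻¹)⁻¹ = T (t ^ q) := by
      rw [map_pow, ← e, conj_pow]
      calc _ = y * y'⁻¹ * (m * (y' * ψ g * y'⁻¹) * m⁻¹) * y' * y⁻¹ := by group
        _ = _ := by rw [c1]; group
    subst hT
    obtain ⟨w', hw', e'⟩ := A.r3.exists_act_of_conj A.good A.sc (A.mem _) c2
    refine ⟨w', hw', fun r => ?_⟩
    have c3 := RootSys.uchr_act hw' t r
    rw [e', uchr_pow] at c3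
    have c4 := (congrArg (· ^ q) (hc (w' r)).symm).trans (c3.trans (hc r))
    simp only [← zpow_natCast, ← zpow_mul, zpow_eq_zpow_iff_modEq, hz] at c4
    rw [mul_comm]
    exact c4
  · obtain ⟨k, rfl⟩ := pn
    have k0 : 0 < k := Nat.pos_of_mul_pos_left n0
    have c1 : t ^ k = 1 := one fun r => by
      have d : (p : ℤ) ∣ val c r := dvd_sum fun i _ => (Int.natCast_dvd_natCast.2 (hd i)).mul_left _
      rw [uchr_pow, hc r, ← zpow_natCast, ← zpow_mul, ← orderOf_dvd_iff_zpow_eq_one, hz, Nat.cast_mul]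
      exact mul_dvd_mul_right d _
    have c2 : ψ (g ^ k) = ψ 1 := by
      have := congrArg (· ^ k) e
      simp only [conj_pow] at this
      rw [← map_pow T, c1, map_one] at this
      rw [map_pow, map_one]
      simpa using this
    have c3 := Nat.le_of_dvd k0 (hg ▸ orderOf_dvd_of_pow_eq_one (h1 c2))
    nlinarith

end CL.E81.Cls0
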