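/-
`E₈(3)`, `L₂(81)`: torus action, Frobenius and the Lie bracket on the adjoint module.
-/
import Cfsg.Agent.KSG.E81.Defs
import Cfsg.Agent.KSG.E82.Lie2

set_option autoImplicit false
set_option maxHeartbeats 400000
set_option backward.isDefEq.respectTransparency false

namespace CL.E81.LA
open Module Function Finset CL.SL2Wt CL.Chev CL.AltE Cfsg.Lie
open CL.E82 (R8 val ww root_cases)
open CL.E82.L1 (Asym A_add of_add)
open CL.E83 (K3 G3)
open Matrix hiding zpow_add zpow_mul zpow_sub one_zpow
open scoped MatrixGroups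

theorem three : (3 : K3) = 0 := by exact_mod_cast CharP.cast_eq_zero K3 3

theorem tor_apply (t : Fin 8 → K3ˣ) (v : V3) (i : chevE8.Idx) :
    rG (tor8 t) v i = Sum.elim (fun _ => (1 : K3)) (fun r : R8 => (ch t r : K3)) i * v i :=
  E82.Lie0.gen (D := chevE8) alg.r3 t v i

theorem tor_ee (t : Fin 8 → K3ˣ) (r : R8) : rG (tor8 t) (ee r) = (ch t r : K3) • ee r := by
  funext i
  rw [tor_apply, Pi.smul_apply, smul_eq_mul, ee, bas_root, Pi.single_apply]
  split_ifs with h
  · rw [h]; rfl
  · rw [mul_zero, mul_zero]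

theorem tor_hh (t : Fin 8 → K3ˣ) (r : R8) : rG (tor8 t) (hh r) = hh r := by
  funext i
  rw [tor_apply]
  rcases i with i | i
  · exact one_mul _
  · exact mul_zero _

theorem ch_inj {t t' : Fin 8 → K3ˣ} (h : ∀ r, ch t r = ch t' r) : t = t' := by
  have e : ∀ x, uchr (t * t'⁻¹) x * uchr t' x = uchr t x := fun x => by rw [← uchr_mul, inv_mul_cancel_right]
  refine mul_inv_eq_one.1 ((w248 K3).faith _ fun i => ?_)
  rw [w248_wt]
  by_cases hi : i.1 < chevE8.nroots
  · have e' : wtA chevE8 i = (rootSys chevE8).wt ⟨i.1, hi⟩ := funext fun j => by rw [rootSys_wt', wtA, if_pos hi]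
    rw [e']
    exact mul_right_cancel ((e _).trans ((h _).trans (one_mul _).symm))
  · rw [show wtA chevE8 i = 0 from funext fun j => if_neg hi, uchr_zero]

theorem Fr_add (u v : V3) : Fr (u + v) = Fr u + Fr v := funext fun i => by
  simp only [Fr, Pi.add_apply, ← phi_apply, map_add]

theorem Fr_smul (c : K3) (v : V3) : Fr (c • v) = c ^ 3 • Fr v := funext fun i => by
  simp only [Fr, Pi.smul_apply, smul_eq_mul, mul_pow]

theorem Fr_zero : Fr 0 = 0 := by funext i; simp [Fr]

theorem Fr_neg (v : V3) : Fr (-v) = -Fr v := funext fun i => by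
  simp only [Fr, Pi.neg_apply, ← phi_apply, map_neg]

theorem Fr_ee (r : R8) : Fr (ee r) = ee r := funext fun i => by
  simp only [Fr, ee, bas]; split_ifs <;> simp

theorem Fr_hh (r : R8) : Fr (hh r) = hh r := funext fun i => by
  rcases i with i | i
  · simp only [Fr, hh, hv, Sum.elim_inl, ← phi_apply, map_intCast]
  · simp [Fr, hh, hv]

theorem ind_Γ {P : Γ3 → Prop} (h1 : P 1) (hx : ∀ r c, P (XG r c)) (hm : ∀ a b, P a → P b → P (a * b)) (γ : Γ3) :
    P γ := by
  have hg := alg.mem γ
  induction hg using Subgroup.closure_induction'' with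
  | mem x hx' => obtain ⟨r, -, t, rfl⟩ := hx'; exact hx r t
  | inv_mem x hx' => obtain ⟨r, -, t, rfl⟩ := hx'; rw [← StData.x_neg]; exact hx r _
  | one => exact h1
  | mul x y _ _ ihx ihy => exact hm _ _ ihx ihy

theorem Fr_map (γ : Γ3) (v : V3) : Fr (rG γ v) = rG (sig γ) (Fr v) := by
  refine ind_Γ (P := fun γ => ∀ v, Fr (rG γ v) = rG (sig γ) (Fr v)) (fun v => ?_) (fun r c v => ?_) (fun a b ha hb v => ?_) γ v
  · rw [map_one, map_one, map_one]; rfl
  · rw [alg.fe, rG_x, rG_x, ← xR_map]
    funext i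
    have e : Fr v = phi ∘ v := funext fun j => (phi_apply _).symm
    rw [e, ← RingHom.map_mulVec, phi_apply]; rfl
  · rw [map_mul, map_mul, map_mul, End.mul_apply, End.mul_apply, ha, hb]

theorem Fr_rho (g : G3) (v : V3) : Fr (rho g v) = rho g (Fr v) := by
  rw [rho_apply, Fr_map, (psi_range _).1 ⟨g, rfl⟩]

theorem eq_sum (v : V3) : v = ∑ r : R8, v (Sum.inr r) • ee r + ∑ i : Fin 8, v (Sum.inl i) • hh (sm i) := by
  have e : ∀ i : Fin 8, hh (sm i) = Pi.single (Sum.inl i) 1 := fun i => funext fun j => by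
    rcases j with j | j
    · simp [hh, hv, cor_sm, Pi.single_apply]
    · simp [hh, hv]
  simp only [e, ee, bas_root]
  rw [add_comm]
  exact (pi_eq_sum_univ' v).trans (Fintype.sum_sum_type _)

theorem finrank_V3 : finrank K3 V3 = 248 := by
  rw [finrank_fintype_fun_eq_card]
  change Fintype.card (Fin 8 ⊕ Fin 240) = 248
  simp

/-! ### formulas for the bracket -/

theorem N_pm {r s u : R8} (h : co u = co r + co s) : N r s = 1 ∨ N r s = -1 :=
  N_unit r s u h fun m hm => by
    have hm' : co s = co r + co m := by rw [hm]; abel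
    have := A_add hm' r
    rw [(of_add hm').1, A_self, (of_add h).1] at this
    omega

theorem x_add {r s u : R8} (h : co u = co r + co s) (t : K3) :
    rG (XG r t) (ee s) = ee s + ((N r s : K3) * t) • ee u := by
  obtain ⟨e, h1, h2⟩ := of_add h
  have a1 := add_eq_of_co h
  have a2 : ¬ (Good.C chevE8).add r u < chevE8.nroots := fun k => by
    obtain ⟨k, hk⟩ := (add_lt_iff r u).1 k
    have := (of_add hk).1
    rw [A_add h, A_self, e] at this
    omega
  rw [rG_x, xR_bas_other r s h1 h2, a1, if_pos u.2, if_neg a2, ← N_eq_M1 h, add_zero]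

theorem x_zero {r s : R8} (h : 0 ≤ A r s) (t : K3) : rG (XG r t) (ee s) = ee s := by
  rw [rG_x]
  by_cases h1 : s = r
  · rw [h1, xR_bas_self]
  have h2 : s ≠ ng r := by rintro rfl; rw [A_ng_right, A_self] at h; omega
  rw [xR_bas_other r s h1 h2, if_neg, add_zero]
  intro k
  obtain ⟨k, hk⟩ := (add_lt_iff r s).1 k
  have := (of_add hk).1
  omega

theorem x_ng (r : R8) (t : K3) : rG (XG r t) (ee (ng r)) = ee (ng r) + t • hh r - t ^ 2 • ee r := by
  rw [rG_x, xR_bas_ng]

theorem x_hh (r s : R8) (t : K3) : rG (XG r t) (hh s) = hh s - ((A s r : K3) * t) • ee r := by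
  rw [rG_x, xR_hv]

theorem ee_inr (r s : R8) : ee r (Sum.inr s) = if s = r then 1 else 0 := by
  rw [ee, bas_inr]; simp only [Fin.ext_iff]
theorem ee_inl (r : R8) (i : Fin 8) : ee r (Sum.inl i) = 0 := bas_inl_of_lt r.2 i
theorem hh_inr (r s : R8) : hh r (Sum.inr s) = 0 := rfl
theorem hh_sm (i j : Fin 8) : hh (sm (D := chevE8) i) (Sum.inl j) = if j = i then 1 else 0 := by
  show ((cor (sm (D := chevE8) i) j : ℤ) : K3) = _
  rw [cor_sm, Pi.single_apply]; split_ifs <;> simp
theorem hh_ng (r : R8) : hh (ng r) = -hh r := hv_ng r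

theorem br_def (u : V3) : br u = ∑ r : R8, u (Sum.inr r) • adE r + ∑ i : Fin 8, u (Sum.inl i) • adH i := by
  simp only [br, LinearMap.add_apply, LinearMap.sum_apply, LinearMap.smulRight_apply, pr_apply]

theorem adH_apply (i : Fin 8) (v : V3) (j : chevE8.Idx) :
    adH i v j = Sum.elim (fun _ => (0 : K3)) (fun s : R8 => (A (sm (D := chevE8) i) s : K3)) j * v j :=
  mulVec_diagonal _ v j

theorem adH_ee (i : Fin 8) (s : R8) : adH i (ee s) = (A (sm (D := chevE8) i) s : K3) • ee s := by
  funext j
  rw [adH_apply, Pi.smul_apply, smul_eq_mul]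
  rcases j with j | j
  · rw [ee_inl, mul_zero, mul_zero]
  · rw [ee_inr]; split_ifs with h
    · rw [h]; rfl
    · rw [mul_zero, mul_zero]

theorem adH_cartan (i : Fin 8) {v : V3} (hv : ∀ s : R8, v (Sum.inr s) = 0) : adH i v = 0 := by
  funext j
  rw [adH_apply]
  rcases j with j | j
  · exact zero_mul _
  · rw [hv, mul_zero]; rfl

theorem br_sm (i : Fin 8) : br (hh (sm (D := chevE8) i)) = adH i := by
  rw [br_def]
  simp only [hh_inr, hh_sm, zero_smul, sum_const_zero, zero_add, ite_smul, one_smul, sum_ite_eq', mem_univ, if_true]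

/-- induction over the basis -/
theorem ind_V {P : V3 → Prop} (ha : ∀ u v, P u → P v → P (u + v)) (hs : ∀ (c : K3) v, P v → P (c • v))
    (he : ∀ r, P (ee r)) (hc : ∀ i : Fin 8, P (hh (sm (D := chevE8) i))) (v : V3) : P v := by
  have h0 : P 0 := by simpa using hs 0 _ (hc 0)
  rw [eq_sum v]
  exact ha _ _ (sum_induction _ P ha h0 fun r _ => hs _ _ (he r)) (sum_induction _ P ha h0 fun i _ => hs _ _ (hc i))

theorem cast_cube (n : ℤ) : (n : K3) ^ 3 = n := by rw [← phi_apply, map_intCast]

theorem br_ee (r : R8) : br (ee r) = adE r := by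
  rw [br_def]
  simp only [ee_inr, ee_inl, zero_smul, sum_const_zero, add_zero, ite_smul, one_smul, sum_ite_eq', mem_univ, if_true]

theorem br_ee_apply (r : R8) (v : V3) : br (ee r) v = rG (XG r (-1)) v - rG (XG r 1) v := by
  rw [br_ee]; rfl

theorem br_ee_ng (r : R8) : br (ee r) (ee (ng r)) = hh r := by
  rw [br_ee_apply, x_ng, x_ng]
  linear_combination (norm := module) (-1 : K3) • three • hh r

theorem br_ee_add {r s u : R8} (h : co u = co r + co s) : br (ee r) (ee s) = (N r s : K3) • ee u := by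
  rw [br_ee_apply, x_add h, x_add h]
  linear_combination (norm := module) (-(N r s : K3)) • three • ee u

theorem br_ee_zero {r s : R8} (h : 0 ≤ A r s) : br (ee r) (ee s) = 0 := by
  rw [br_ee_apply, x_zero h, x_zero h, sub_self]

theorem br_ee_hh (r s : R8) : br (ee r) (hh s) = -((A s r : K3) • ee r) := by
  rw [br_ee_apply, x_hh, x_hh]
  linear_combination (norm := module) (A s r : K3) • three • ee r

theorem br_ee_cartan (r : R8) {v : V3} (hv : ∀ s : R8, v (Sum.inr s) = 0) : br (ee r) v = -(lam r v • ee r) := by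
  conv_lhs => rw [eq_sum v]
  simp only [hv, zero_smul, sum_const_zero, zero_add, map_sum, map_smul, br_ee_hh, lam, sum_smul, smul_smul, smul_neg,
    sum_neg_distrib]

theorem br_cartan {u v : V3} (hu : ∀ s : R8, u (Sum.inr s) = 0) (hv : ∀ s : R8, v (Sum.inr s) = 0) : br u v = 0 := by
  rw [br_def]
  simp only [hu, zero_smul, sum_const_zero, zero_add, LinearMap.sum_apply, LinearMap.smul_apply, adH_cartan _ hv,
    smul_zero]

theorem hh0 (a b : R8) : br (hh a) (hh b) = 0 := br_cartan (fun _ => rfl) fun _ => rfl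

theorem br_anti (u v : V3) : br u v = -br v u := by
  induction u using ind_V with
  | ha a b h1 h2 => rw [map_add, map_add, LinearMap.add_apply, h1, h2, neg_add]
  | hs c a h => rw [map_smul, map_smul, LinearMap.smul_apply, h, smul_neg]
  | he r =>
    induction v using ind_V with
    | ha a b h1 h2 => rw [map_add, map_add, LinearMap.add_apply, h1, h2, neg_add]
    | hs c a h => rw [map_smul, map_smul, LinearMap.smul_apply, h, smul_neg]
    | he s =>
      rcases root_cases r s with rfl | ⟨k, hk, -⟩ | h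
      · have := br_ee_ng (ng r)
        rw [ng_ng] at this
        rw [this, br_ee_ng, hh_ng, neg_neg]
      · rw [br_ee_add hk, br_ee_add (hk.trans (add_comm _ _)), N_antisymm r s, Int.cast_neg, neg_smul, neg_neg]
      · rw [br_ee_zero h, br_ee_zero (Asym r s ▸ h), neg_zero]
    | hc i => rw [br_ee_hh, br_sm, adH_ee]
  | hc i =>
    induction v using ind_V with
    | ha a b h1 h2 => rw [map_add, map_add, LinearMap.add_apply, h1, h2, neg_add]
    | hs c a h => rw [map_smul, map_smul, LinearMap.smul_apply, h, smul_neg]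
    | he s => rw [br_ee_hh, br_sm, adH_ee, neg_neg]
    | hc j => rw [hh0, hh0, neg_zero]

theorem br_self (u : V3) : br u u = 0 := by
  linear_combination (norm := module) (-1 : K3) • br_anti u u + three • br u u

theorem br_hh_ee (s r : R8) : br (hh s) (ee r) = (A s r : K3) • ee r := by rw [br_anti, br_ee_hh, neg_neg]

theorem br_cartan_ee {v : V3} (hv : ∀ s : R8, v (Sum.inr s) = 0) (r : R8) : br v (ee r) = lam r v • ee r := by
  rw [br_anti, br_ee_cartan r hv, neg_neg]

theorem x_apply (r : R8) (c : K3) (v : V3) :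
    rG (XG r c) v = v + c • br (ee r) v - (c ^ 2 * v (Sum.inr (ng r))) • ee r := by
  induction v using ind_V with
  | ha a b h1 h2 => rw [map_add, map_add, h1, h2, Pi.add_apply]; module
  | hs k a h => rw [map_smul, map_smul, h, Pi.smul_apply, smul_eq_mul]; module
  | he s =>
    rcases root_cases r s with rfl | ⟨k, hk, -⟩ | h
    · rw [x_ng, br_ee_ng, ee_inr, if_pos rfl, mul_one]
    · rw [x_add hk, br_ee_add hk, ee_inr, if_neg (of_add hk).2.2.symm]; module
    · have h2 : ng r ≠ s := by rintro rfl; rw [A_ng_right, A_self] at h; omega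
      rw [x_zero h, br_ee_zero h, ee_inr, if_neg h2]; module
  | hc i => rw [x_hh, br_ee_hh, hh_inr]; module

theorem br_Fr (u v : V3) : Fr (br u v) = br (Fr u) (Fr v) := by
  induction u using ind_V with
  | ha a b h1 h2 => rw [map_add, LinearMap.add_apply, Fr_add, Fr_add, h1, h2, map_add, LinearMap.add_apply]
  | hs c a h => rw [map_smul, LinearMap.smul_apply, Fr_smul, Fr_smul, h, map_smul, LinearMap.smul_apply]
  | he r =>
    induction v using ind_V with
    | ha a b h1 h2 => rw [map_add, Fr_add, Fr_add, h1, h2, map_add]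
    | hs c a h => rw [map_smul, Fr_smul, Fr_smul, h, map_smul]
    | he s =>
      rw [Fr_ee, Fr_ee]
      rcases root_cases r s with rfl | ⟨k, hk, -⟩ | h
      · rw [br_ee_ng, Fr_hh]
      · rw [br_ee_add hk, Fr_smul, Fr_ee, cast_cube]
      · rw [br_ee_zero h, Fr_zero]
    | hc i => rw [Fr_ee, Fr_hh, br_ee_hh, Fr_neg, Fr_smul, Fr_ee, cast_cube]
  | hc i =>
    induction v using ind_V with
    | ha a b h1 h2 => rw [map_add, Fr_add, Fr_add, h1, h2, map_add]
    | hs c a h => rw [map_smul, Fr_smul, Fr_smul, h, map_smul]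
    | he s => rw [Fr_ee, Fr_hh, br_hh_ee, Fr_smul, Fr_ee, cast_cube]
    | hc j => rw [Fr_hh, Fr_hh, hh0, Fr_zero]

/-! ### invariance of the bracket -/

theorem coef {a b c d : V3} (h : ∀ t : K3, t • a + t ^ 2 • b + t ^ 3 • c + t ^ 4 • d = 0) : a = 0 := by
  funext i
  have e : Polynomial.monomial 1 (a i) + Polynomial.monomial 2 (b i) + Polynomial.monomial 3 (c i) +
      Polynomial.monomial 4 (d i) = 0 := Polynomial.funext fun t => by
    have := congrFun (h t) i
    simp only [Pi.add_apply, Pi.smul_apply, smul_eq_mul, Pi.zero_apply] at this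
    simp only [Polynomial.eval_add, Polynomial.eval_monomial, Polynomial.eval_zero]
    linear_combination this
  simpa [Polynomial.coeff_monomial] using congrArg (Polynomial.coeff · 1) e

theorem lin (x : End K3 V3) {u : V3} (h1 : ∀ s, x (br u (ee s)) = br (x u) (x (ee s)))
    (h2 : ∀ s, x (br u (hh s)) = br (x u) (x (hh s))) (v : V3) : x (br u v) = br (x u) (x v) :=
  ind_V (P := fun v => x (br u v) = br (x u) (x v))
    (fun _ _ a b => by simp only [map_add, a, b]) (fun _ _ a => by simp only [map_smul, a]) h1 (fun _ => h2 _) v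

theorem sw {x : End K3 V3} {u v : V3} (h : x (br u v) = br (x u) (x v)) : x (br v u) = br (x v) (x u) := by
  rw [br_anti, map_neg, h, ← br_anti]

theorem bil (x : End K3 V3) (h1 : ∀ r s, x (br (ee r) (ee s)) = br (x (ee r)) (x (ee s)))
    (h2 : ∀ r s, x (br (ee r) (hh s)) = br (x (ee r)) (x (hh s)))
    (h3 : ∀ r s, x (br (hh r) (hh s)) = br (x (hh r)) (x (hh s))) (u v : V3) : x (br u v) = br (x u) (x v) :=
  lin x (fun s => sw (lin x (h1 s) (h2 s) u)) (fun s => sw (lin x (fun r => sw (h2 r s)) (h3 s) u)) v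

theorem root {s r : R8} (h : r ≠ ng s) (c : K3) (v : V3) :
    rG (XG s c) (br (ee r) v) = br (rG (XG s c) (ee r)) (rG (XG s c) v) := by
  rcases root_cases s r with e | ⟨u, hu, hA⟩ | hA
  · exact absurd e h
  · obtain ⟨ε, -, e⟩ := alg.good.A2_conj ((E82.Lie2.long s).a2P (E82.Lie2.long r) ((rootSys_pair s r).trans hA) hu)
    have key : ∀ c v, rG (XG s c) (br (ee r) v) =
        br (ee r) (rG (XG s c) v) + (ε * c) • br (ee u) (rG (XG s c) v) := fun c v => by
      have e2 : ∀ t, rG (XG s c) (rG (XG r t) v) = rG (XG r t) (rG (XG u (ε * c * t)) (rG (XG s c) v)) := fun t => by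
        rw [← End.mul_apply, ← End.mul_apply, ← End.mul_apply, ← map_mul, ← map_mul, ← map_mul, ← e c t,
          inv_mul_cancel_right]
      simp only [x_apply r, x_apply u, map_add, map_sub, map_smul, Pi.add_apply, Pi.sub_apply, Pi.smul_apply,
        smul_eq_mul] at e2
      generalize rG (XG s c) v = w at *
      generalize ε * c = k at *
      rw [← sub_eq_zero]
      refine coef
        (b := -(v (Sum.inr (ng r)) • rG (XG s c) (ee r)) + (k ^ 2 * w (Sum.inr (ng u))) • ee u -
          k • br (ee r) (br (ee u) w) + w (Sum.inr (ng r)) • ee r)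
        (c := (k ^ 2 * w (Sum.inr (ng u))) • br (ee r) (ee u) + (k * br (ee u) w (Sum.inr (ng r))) • ee r)
        (d := -((k ^ 2 * w (Sum.inr (ng u)) * ee u (Sum.inr (ng r))) • ee r)) fun t => ?_
      linear_combination (norm := module) e2 t
    have a1 : A u s = 1 := by rw [Asym, A_add hu, A_self, hA]; rfl
    have a2 : A u r = 1 := by rw [Asym, A_add hu, A_self, Asym, hA]; rfl
    have hε : ε = (N s r : K3) := by
      have k := key 1 (hh u)
      have b1 : br (ee r) (ee s) = (N r s : K3) • ee u := br_ee_add (hu.trans (add_comm _ _))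
      have b2 : br (ee u) (ee s) = 0 := br_ee_zero (by omega)
      simp only [br_ee_hh, map_neg, map_smul, x_add hu, x_hh, map_sub, b1, b2, a1, a2, A_self,
        N_antisymm s r] at k
      have k2 := congrFun k (Sum.inr u)
      simp only [Pi.add_apply, Pi.sub_apply, Pi.neg_apply, Pi.smul_apply, smul_eq_mul, ee_inr u u, if_true,
        Pi.zero_apply] at k2
      push_cast at k2
      linear_combination (-1 : K3) * k2 + (ε - (N s r : K3)) * three
    rw [key, x_add hu, map_add, map_smul, LinearMap.add_apply, LinearMap.smul_apply, hε]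
  · have e2 : ∀ t v, rG (XG s c) (rG (XG r t) v) = rG (XG r t) (rG (XG s c) v) := fun t v => by
      rw [← End.mul_apply, ← End.mul_apply, ← map_mul, ← map_mul,
        (stS chevE8 K3).comm_of_noComb ((E82.Lie2.long s).noComb ((rootSys_pair s r).symm ▸ hA))]
    rw [x_zero hA, br_ee_apply, br_ee_apply, map_sub, e2, e2]

theorem mixed (s a : R8) (c : K3) :
    rG (XG s c) (br (ee (ng s)) (hh a)) = br (rG (XG s c) (ee (ng s))) (rG (XG s c) (hh a)) := by
  rw [br_ee_hh, map_neg, map_smul, x_hh, x_ng]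
  simp only [map_add, map_sub, map_smul, LinearMap.add_apply, LinearMap.sub_apply, LinearMap.smul_apply, br_ee_hh,
    br_hh_ee, hh0, br_self, br_anti (ee (ng s)) (ee s), br_ee_ng, A_ng_right, A_self, Int.cast_neg, Int.cast_ofNat]
  module

theorem cart (s a b : R8) (c : K3) :
    rG (XG s c) (br (hh a) (hh b)) = br (rG (XG s c) (hh a)) (rG (XG s c) (hh b)) := by
  rw [x_hh, x_hh]
  simp only [map_sub, map_smul, LinearMap.sub_apply, LinearMap.smul_apply, br_ee_hh, br_hh_ee, hh0, br_self, map_zero]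
  module

theorem gen (s : R8) (c : K3) (u v : V3) : rG (XG s c) (br u v) = br (rG (XG s c) u) (rG (XG s c) v) := by
  refine bil _ (fun r r' => ?_) (fun r a => ?_) (fun a b => cart s a b c) u v
  · by_cases h : r = ng s
    · by_cases h' : r' = ng s
      · rw [h, h', br_self, br_self, map_zero]
      · exact sw (root h' c _)
    · exact root h c _
  · by_cases h : r = ng s
    · rw [h, mixed]
    · exact root h c _

theorem br_map (γ : Γ3) (u v : V3) : rG γ (br u v) = br (rG γ u) (rG γ v) := by
  refine ind_Γ (P := fun γ => ∀ u v, rG γ (br u v) = br (rG γ u) (rG γ v)) (fun u v => ?_)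
    gen (fun a b ha hb u v => ?_) γ u v
  · rw [map_one, End.one_apply, End.one_apply, End.one_apply]
  · rw [map_mul, End.mul_apply, End.mul_apply, End.mul_apply, hb, ha]

end CL.E81.LA
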