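/-
`E₈(3)`, `L₂(81)`: torus and Frobenius on the adjoint module.
-/
import Cfsg.Agent.KSG.E81.Defs
import Cfsg.Agent.KSG.E81.LA

set_option autoImplicit false
set_option maxHeartbeats 200000
set_option backward.isDefEq.respectTransparency false

namespace CL.E81
open Module Function Finset CL.SL2Wt CL.Chev CL.AltE Cfsg.Lie
open CL.E82 (R8 val ww)
open CL.E83 (K3 G3)
open Matrix hiding zpow_add zpow_mul zpow_sub one_zpow
open scoped MatrixGroups

theorem tor_apply (t : Fin 8 → K3ˣ) (v : V3) (i : chevE8.Idx) :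
    rG (tor8 t) v i = Sum.elim (fun _ => (1 : K3)) (fun r : R8 => (ch t r : K3)) i * v i := LA.tor_apply t v i

theorem tor_ee (t : Fin 8 → K3ˣ) (r : R8) : rG (tor8 t) (ee r) = (ch t r : K3) • ee r := LA.tor_ee t r

theorem ch_inj {t t' : Fin 8 → K3ˣ} (h : ∀ r, ch t r = ch t' r) : t = t' := LA.ch_inj h

theorem three0 : (3 : K3) = 0 := LA.three

theorem Fr_add (u v : V3) : Fr (u + v) = Fr u + Fr v := LA.Fr_add u v

theorem Fr_smul (c : K3) (v : V3) : Fr (c • v) = c ^ 3 • Fr v := LA.Fr_smul c v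

theorem Fr_neg (v : V3) : Fr (-v) = -Fr v := LA.Fr_neg v

theorem Fr_inj : Injective Fr := fun u v h => funext fun i => phi.injective (by
  rw [phi_apply, phi_apply]
  exact congrFun h i)

theorem Fr_zero : Fr 0 = 0 := LA.Fr_zero

theorem Fr_ee (r : R8) : Fr (ee r) = ee r := LA.Fr_ee r

theorem Fr_hh (r : R8) : Fr (hh r) = hh r := LA.Fr_hh r

theorem ind_Γ {P : Γ3 → Prop} (h1 : P 1) (hx : ∀ r c, P (XG r c)) (hm : ∀ a b, P a → P b → P (a * b)) (γ : Γ3) :
    P γ := LA.ind_Γ h1 hx hm γ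

theorem Fr_map (γ : Γ3) (v : V3) : Fr (rG γ v) = rG (sig γ) (Fr v) := LA.Fr_map γ v

theorem Fr_rho (g : G3) (v : V3) : Fr (rho g v) = rho g (Fr v) := LA.Fr_rho g v

theorem eq_sum (v : V3) : v = ∑ r : R8, v (Sum.inr r) • ee r + ∑ i : Fin 8, v (Sum.inl i) • hh (sm i) := LA.eq_sum v

theorem finrank_V3 : finrank K3 V3 = 248 := LA.finrank_V3

theorem mem_frS {N : Submodule K3 V3} {v : V3} : v ∈ frS N ↔ ∃ u ∈ N, Fr u = v := by
  refine ⟨fun h => ?_, fun ⟨u, hu, e⟩ => Submodule.subset_span ⟨u, hu, e⟩⟩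
  induction h using Submodule.span_induction with
  | mem x hx => exact hx
  | zero => exact ⟨0, N.zero_mem, Fr_zero⟩
  | add x y _ _ hx hy =>
    obtain ⟨a, ha, rfl⟩ := hx
    obtain ⟨b, hb, rfl⟩ := hy
    exact ⟨a + b, N.add_mem ha hb, Fr_add a b⟩
  | smul c x _ hx =>
    obtain ⟨a, ha, rfl⟩ := hx
    obtain ⟨d, rfl⟩ := IsAlgClosed.exists_pow_nat_eq c (n := 3) (by omega)
    exact ⟨d • a, N.smul_mem d ha, Fr_smul d a⟩

end CL.E81
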