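/-
`E₈(3)`, `L₂(81)`: Kac coordinates of semisimple elements.
-/
import Cfsg.Agent.KSG.E81.Lie0
import Cfsg.Agent.KSG.E81.Cls0

set_option autoImplicit false
set_option maxRecDepth 20000
set_option maxHeartbeats 200000
set_option backward.isDefEq.respectTransparency false

namespace CL.E81
open Module Function Finset CL.SL2Wt CL.Chev CL.AltE Cfsg.Lie
open CL.E82 (R8 val ww)
open CL.E83 (K3 G3)
open Matrix hiding zpow_add zpow_mul zpow_sub one_zpow
open scoped MatrixGroups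

/-- PROOF: port of `CL.E82.exists_kac` (KSG/E82/Cls). -/
theorem exists_kac {n : ℕ} (hn : ¬ 3 ∣ n) {z : K3ˣ} (hz : orderOf z = n) {g : G3} (hg : orderOf g = n) :
    ∃ c : Fin 8 → ℕ, IsCls z c g ∧ ∑ j, th8 j * c j ≤ n ∧ (∃ w ∈ (rootSys chevE8).W,
      ∀ r, 3 * val c (w r) ≡ val c r [ZMOD n]) ∧ ∀ p, 1 < p → p ∣ n → ¬ ∀ i, p ∣ c i := by
  exact Cls0.kac alg psi_inj (fun g => (psi_range _).1 ⟨g, rfl⟩) (Nat.pos_of_ne_zero (by rintro rfl; simp at hn)) hz hg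

/-- PROOF: port of `CL.E82.IsCls.dim`. -/
theorem IsCls.dim {n : ℕ} {z : K3ˣ} (hz : orderOf z = n) {c : Fin 8 → ℕ} {g : G3} (h : IsCls z c g) (k : ℕ) :
    finrank K3 ((rho g).eigenspace ((z : K3) ^ k)) = mu n c k := by
  obtain ⟨y, t, e, hc⟩ := h
  rw [rho_apply, finrank_conj rG (isConj_iff.2 ⟨y, e⟩)]
  refine (E82.Cls.fr (α := Fin 8) (β := R8) (E82.Lie0.gen (D := chevE8) alg.r3 t) _ (k ≡ 0 [MOD n]) ?_ _
    fun r => ?_).trans (by rw [Fintype.card_fin]; rfl)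
  · rw [eq_comm, ← Units.val_pow_eq_pow_val, Units.val_eq_one, ← orderOf_dvd_iff_pow_eq_one, hz,
      Nat.modEq_zero_iff_dvd]
  · rw [show uchr t _ = _ from hc r, ← Units.val_pow_eq_pow_val, Units.val_inj, ← zpow_natCast,
      zpow_eq_zpow_iff_modEq, hz]

end CL.E81
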