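/-
`E₈(3)`, `L₂(81)`: the composition factors of submodules, first half.
-/
import Cfsg.Agent.KSG.E81.Ty

set_option autoImplicit false
set_option maxHeartbeats 200000
set_option backward.isDefEq.respectTransparency false

namespace CL.E81
open Module Function Finset CL.SL2Wt CL.Chev CL.AltE Cfsg.Lie
open CL.E82 (R8 val ww)
open CL.E83 (K3 G3)
open Matrix hiding zpow_add zpow_mul zpow_sub one_zpow
open scoped MatrixGroups

variable {F : Type*} [Field F] [Fintype F] (D : Dt F) {W : Type} [AddCommGroup W] [Module K3 W]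
  [FiniteDimensional K3 W] (ρ : SL(2, F) →* End K3 W)

namespace RR1

omit [Fintype F] [FiniteDimensional K3 W] in
theorem eig_sub {N : Submodule K3 W} (hN : Inv ρ N) (U : Submodule K3 N) (g : SL(2, F)) (μ : K3) :
    finrank K3 ↥(U ⊓ (subR ρ N hN g).eigenspace μ) = finrank K3 ↥(U.map N.subtype ⊓ (ρ g).eigenspace μ) := by
  rw [← Submodule.finrank_map_subtype_eq, Submodule.map_inf _ N.injective_subtype]
  have : U.map N.subtype ⊓ ((subR ρ N hN g).eigenspace μ).map N.subtype = U.map N.subtype ⊓ (ρ g).eigenspace μ := by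
    ext v
    refine and_congr_right fun ⟨u, _, e⟩ => ⟨?_, fun h => ⟨u, ?_, e⟩⟩
    · rintro ⟨w, hw, rfl⟩
      exact End.mem_eigenspace_iff.2 (congrArg Subtype.val (End.mem_eigenspace_iff.1 hw))
    · subst e
      exact End.mem_eigenspace_iff.2 (Subtype.ext (End.mem_eigenspace_iff.1 h))
  rw [this]

omit [FiniteDimensional K3 W] in
theorem tyN_sub {N : Submodule K3 W} (hN : Inv ρ N) (U : Submodule K3 N) (R : Multiset ℕ) :
    TyN D (subR ρ N hN) U R ↔ TyN D ρ (U.map N.subtype) R := by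
  simp only [TyN, Wt, Ws, eig_sub]

omit [FiniteDimensional K3 W] in
theorem RR_sub {N : Submodule K3 W} (hN : Inv ρ N) (U : Submodule K3 N) :
    RR D (subR ρ N hN) U = RR D ρ (U.map N.subtype) :=
  congrArg Classical.epsilon (funext fun R => propext (tyN_sub D ρ hN U R))

theorem tyN_top {R : Multiset ℕ} (h : Ty D ρ R) : TyN D ρ ⊤ R :=
  ⟨h.1, fun k => by rw [top_inf_eq]; exact h.dim_t D ρ k, fun k => by rw [top_inf_eq]; exact h.dim_s D ρ k⟩

theorem tyN {N : Submodule K3 W} (hN : Inv ρ N) {R : Multiset ℕ} (h : Ty D (subR ρ N hN) R) : TyN D ρ N R := by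
  have := (tyN_sub D ρ hN ⊤ R).1 (tyN_top D _ h)
  rwa [Submodule.map_subtype_top] at this

theorem RR_spec {N : Submodule K3 W} (hN : Inv ρ N) : TyN D ρ N (RR D ρ N) :=
  let ⟨R, h⟩ := exists_ty D (subR ρ N hN)
  Classical.epsilon_spec ⟨R, tyN D ρ hN h⟩

omit [FiniteDimensional K3 W] in
theorem RR_eq {N : Submodule K3 W} {R : Multiset ℕ} (h : TyN D ρ N R) : RR D ρ N = R := by
  have h' : TyN D ρ N (RR D ρ N) := Classical.epsilon_spec ⟨R, h⟩
  exact cw_unique h'.1 h.1 (fun k _ => (h'.2.1 k).symm.trans (h.2.1 k)) fun k _ => (h'.2.2 k).symm.trans (h.2.2 k)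

theorem RR_ty {N : Submodule K3 W} (hN : Inv ρ N) : Ty D (subR ρ N hN) (RR D ρ N) := by
  obtain ⟨R, h⟩ := exists_ty D (subR ρ N hN)
  rw [RR_eq D ρ (tyN D ρ hN h)]
  exact h

theorem RR_top : Ty D ρ (RR D ρ ⊤) := by
  obtain ⟨R, h⟩ := exists_ty D ρ
  rw [RR_eq D ρ (tyN_top D ρ h)]
  exact h

theorem RR_quo {N : Submodule K3 W} (hN : Inv ρ N) : RR D ρ ⊤ = RR D ρ N + RR D (quoR ρ N hN) ⊤ :=
  (RR_top D ρ).unique D ρ ((RR_ty D ρ hN).add D ρ hN (RR_top D _))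

theorem RR_mono {A B : Submodule K3 W} (hA : Inv ρ A) (hB : Inv ρ B) (h : A ≤ B) : RR D ρ A ≤ RR D ρ B := by
  have := RR_quo D (subR ρ B hB) (N := A.comap B.subtype) fun g v hv => hA g v hv
  rw [RR_sub, RR_sub, Submodule.map_subtype_top, Submodule.map_comap_subtype, inf_eq_right.2 h] at this
  rw [this]
  exact Multiset.le_add_right _ _

omit [FiniteDimensional K3 W] in
theorem distr {T : End K3 W} {n : ℕ} (h0 : (n : K3) ≠ 0) (hT : T ^ n = 1) {μ : K3} (hμ : μ ^ n = 1)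
    {A B : Submodule K3 W} (hA : ∀ v ∈ A, T v ∈ A) (hB : ∀ v ∈ B, T v ∈ B) :
    (A ⊔ B) ⊓ T.eigenspace μ = A ⊓ T.eigenspace μ ⊔ B ⊓ T.eigenspace μ := by
  refine le_antisymm ?_ (sup_le (inf_le_inf_right _ le_sup_left) (inf_le_inf_right _ le_sup_right))
  have μ0 : μ ≠ 0 := by
    rintro rfl
    rw [zero_pow (by rintro rfl; exact h0 Nat.cast_zero)] at hμ
    exact zero_ne_one hμ
  let P : End K3 W := (n : K3)⁻¹ • ∑ i ∈ range n, μ⁻¹ ^ i • T ^ i
  have pa : ∀ v, P v = (n : K3)⁻¹ • ∑ i ∈ range n, μ⁻¹ ^ i • (T ^ i) v := fun v => by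
    simp only [P, LinearMap.smul_apply, LinearMap.sum_apply]
  have h1 : ∀ v, P v ∈ T.eigenspace μ := fun v => by
    rw [pa]
    refine Submodule.smul_mem _ _ (End.mem_eigenspace_iff.2 ?_)
    have e1 := sum_range_succ (fun i => μ⁻¹ ^ i • (T ^ i) v) n
    rw [sum_range_succ', hT, inv_pow μ n, hμ, inv_one, pow_zero, pow_zero, add_left_inj] at e1
    nth_rewrite 2 [← e1]
    rw [map_sum, smul_sum]
    refine sum_congr rfl fun i _ => ?_
    rw [map_smul, smul_smul, pow_succ' T, End.mul_apply, pow_succ', mul_inv_cancel_left₀ μ0]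
  have h2 : ∀ {C : Submodule K3 W}, (∀ v ∈ C, T v ∈ C) → ∀ v ∈ C, P v ∈ C := fun {C} hC v hv => by
    rw [pa]
    refine Submodule.smul_mem _ _ (Submodule.sum_mem _ fun i _ => Submodule.smul_mem _ _ ?_)
    induction i with
    | zero => exact hv
    | succ i ih => rw [pow_succ', End.mul_apply]; exact hC _ (ih (mem_range.2 (by simp_all; omega)))
  rintro v ⟨hv, he⟩
  obtain ⟨a, ha, b, hb, rfl⟩ := Submodule.mem_sup.1 hv
  have h3 : P (a + b) = a + b := by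
    rw [pa, sum_congr rfl (g := fun _ => a + b) fun i _ => by
      rw [eig_pow (End.mem_eigenspace_iff.1 he), smul_smul, ← mul_pow, inv_mul_cancel₀ μ0, one_pow, one_smul],
      sum_const, card_range, ← Nat.cast_smul_eq_nsmul K3, smul_smul, inv_mul_cancel₀ h0, one_smul]
  rw [← h3, map_add]
  exact Submodule.add_mem_sup ⟨h2 hA a ha, h1 a⟩ ⟨h2 hB b hb, h1 b⟩

omit [Fintype F] [FiniteDimensional K3 W] in
theorem inv_inf {A B : Submodule K3 W} (hA : Inv ρ A) (hB : Inv ρ B) : Inv ρ (A ⊓ B) :=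
  fun g v hv => ⟨hA g v hv.1, hB g v hv.2⟩

omit [Fintype F] [FiniteDimensional K3 W] in
theorem inv_sup {A B : Submodule K3 W} (hA : Inv ρ A) (hB : Inv ρ B) : Inv ρ (A ⊔ B) := fun g v hv => by
  obtain ⟨a, ha, b, hb, rfl⟩ := Submodule.mem_sup.1 hv
  rw [map_add]
  exact Submodule.add_mem_sup (hA g a ha) (hB g b hb)

omit [Fintype F] in
theorem md {A B : Submodule K3 W} (hA : Inv ρ A) (hB : Inv ρ B) {g : SL(2, F)} {μ : K3ˣ} {n : ℕ} (h3 : ¬ 3 ∣ n)
    (hg : g ^ n = 1) (hμ : orderOf μ = n) (k : ℕ) :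
    finrank K3 ↥((A ⊓ B) ⊓ (ρ g).eigenspace ((μ : K3) ^ k)) + finrank K3 ↥((A ⊔ B) ⊓ (ρ g).eigenspace ((μ : K3) ^ k)) =
      finrank K3 ↥(A ⊓ (ρ g).eigenspace ((μ : K3) ^ k)) + finrank K3 ↥(B ⊓ (ρ g).eigenspace ((μ : K3) ^ k)) := by
  rw [distr (n := n) (by rwa [Ne, CharP.cast_eq_zero_iff K3 3]) (by rw [← map_pow, hg, map_one])
    (by rw [← pow_mul, mul_comm, pow_mul, ← Units.val_pow_eq_pow_val, ← hμ, pow_orderOf_eq_one, Units.val_one, one_pow])
    (hA g) (hB g), inf_inf_distrib_right, add_comm, Submodule.finrank_sup_add_finrank_inf_eq]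

theorem RR_mod {A B : Submodule K3 W} (hA : Inv ρ A) (hB : Inv ρ B) :
    RR D ρ (A ⊓ B) + RR D ρ (A ⊔ B) = RR D ρ A + RR D ρ B := by
  have h1 := RR_spec D ρ (inv_inf ρ hA hB)
  have h2 := RR_spec D ρ (inv_sup ρ hA hB)
  have h3 := RR_spec D ρ hA
  have h4 := RR_spec D ρ hB
  refine cw_unique (fun r hr => (Multiset.mem_add.1 hr).elim (h1.1 r) (h2.1 r))
    (fun r hr => (Multiset.mem_add.1 hr).elim (h3.1 r) (h4.1 r)) (fun k _ => ?_) fun k _ => ?_
  · simp only [Multiset.map_add, Multiset.sum_add]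
    rw [← h1.2.1, ← h2.2.1, ← h3.2.1, ← h4.2.1]
    exact md ρ hA hB (by omega) (TyA.pw (TyA.evt D) (TyA.hζ D)) (TyA.hζ D) k
  · simp only [Multiset.map_add, Multiset.sum_add]
    rw [← h1.2.2, ← h2.2.2, ← h3.2.2, ← h4.2.2]
    exact md ρ hA hB (by omega) (TyA.pw D.ev D.hη) D.hη k

theorem RR_dim {N : Submodule K3 W} (hN : Inv ρ N) : finrank K3 N = ((RR D ρ N).map fun r => #(JJ r)).sum :=
  (RR_ty D ρ hN).dim D _

theorem RR_zero {N : Submodule K3 W} (hN : Inv ρ N) : RR D ρ N = 0 ↔ N = ⊥ := by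
  refine ⟨fun h => Submodule.finrank_eq_zero.1 (by rw [RR_dim D ρ hN, h]; rfl), ?_⟩
  rintro rfl
  exact RR_eq D ρ ⟨by simp, fun k => by simp, fun k => by simp⟩

end RR1

end CL.E81
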