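/-
`E₈(3)`, `L₂(81)`: the composition factors of submodules, second half.
-/
import Cfsg.Agent.KSG.E81.Ty

set_option autoImplicit false
set_option backward.isDefEq.respectTransparency false

namespace CL.E81
open Module Function Finset CL.SL2Wt CL.Chev CL.AltE Cfsg.Lie
open CL.E82 (R8 val ww)
open CL.E83 (K3 G3)
open Matrix hiding zpow_add zpow_mul zpow_sub one_zpow
open scoped MatrixGroups

namespace RR2

variable {F : Type*} [Field F] [Fintype F] (D : Dt F) {W : Type} [AddCommGroup W] [Module K3 W]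
  [FiniteDimensional K3 W] (ρ : SL(2, F) →* End K3 W)

omit [Fintype F] [FiniteDimensional K3 W] in
theorem fin_inf {N : Submodule K3 W} (hN : Inv ρ N) (U : Submodule K3 N) (g : SL(2, F)) (μ : K3) :
    finrank K3 ↥(U.map N.subtype ⊓ (ρ g).eigenspace μ) = finrank K3 ↥(U ⊓ (subR ρ N hN g).eigenspace μ) := by
  rw [← Submodule.finrank_map_subtype_eq N (U ⊓ _)]
  refine congrArg (fun X : Submodule K3 W => finrank K3 X) (Submodule.ext fun v => ?_)
  simp only [Submodule.mem_inf, Submodule.mem_map, End.mem_eigenspace_iff]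
  constructor
  · rintro ⟨⟨u, hu, rfl⟩, h⟩
    exact ⟨u, ⟨hu, Subtype.ext h⟩, rfl⟩
  · rintro ⟨u, ⟨hu, h⟩, rfl⟩
    exact ⟨⟨u, hu, rfl⟩, congrArg Subtype.val h⟩

omit [FiniteDimensional K3 W] in
theorem tyN_map {N : Submodule K3 W} (hN : Inv ρ N) {U : Submodule K3 N} {R : Multiset ℕ}
    (h : TyN D (subR ρ N hN) U R) : TyN D ρ (U.map N.subtype) R :=
  ⟨h.1, fun k => (fin_inf ρ hN U _ _).trans (h.2.1 k), fun k => (fin_inf ρ hN U _ _).trans (h.2.2 k)⟩

theorem tyN {N : Submodule K3 W} (hN : Inv ρ N) {R : Multiset ℕ} (h : Ty D (subR ρ N hN) R) : TyN D ρ N R := by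
  have := tyN_map D ρ hN (U := ⊤) (R := R) ⟨h.1, fun k => by rw [top_inf_eq]; exact h.dim_t D _ k,
    fun k => by rw [top_inf_eq]; exact h.dim_s D _ k⟩
  rwa [Submodule.map_subtype_top] at this

omit [FiniteDimensional K3 W] in
theorem eq {N : Submodule K3 W} {R : Multiset ℕ} (h : TyN D ρ N R) : RR D ρ N = R :=
  have h' : TyN D ρ N (RR D ρ N) := Classical.epsilon_spec ⟨R, h⟩
  cw_unique h'.1 h.1 (fun k _ => (h'.2.1 k).symm.trans (h.2.1 k)) fun k _ => (h'.2.2 k).symm.trans (h.2.2 k)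

theorem ty {N : Submodule K3 W} (hN : Inv ρ N) : Ty D (subR ρ N hN) (RR D ρ N) := by
  obtain ⟨R, h⟩ := exists_ty D (subR ρ N hN)
  rwa [eq D ρ (tyN D ρ hN h)]

theorem spec {N : Submodule K3 W} (hN : Inv ρ N) : TyN D ρ N (RR D ρ N) := tyN D ρ hN (ty D ρ hN)

theorem bot {N : Submodule K3 W} (hN : Inv ρ N) (h : RR D ρ N = 0) : N = ⊥ := by
  by_contra h0
  have := Submodule.nontrivial_iff_ne_bot.2 h0
  exact (ty D ρ hN).ne_zero D _ h

omit [Fintype F] [FiniteDimensional K3 W] in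
theorem inv_map {N : Submodule K3 W} (hN : Inv ρ N) {U : Submodule K3 N} (hU : Inv (subR ρ N hN) U) :
    Inv ρ (U.map N.subtype) := by
  rintro g _ ⟨u, hu, rfl⟩
  exact ⟨_, hU g u hu, rfl⟩

theorem step {N : Submodule K3 W} (hN : Inv ρ N) {U : Submodule K3 N} (hU : Inv (subR ρ N hN) U) {R : Multiset ℕ}
    (h : Ty D (quoR _ U hU) R) : RR D ρ N = RR D ρ (U.map N.subtype) + R := by
  rw [eq D ρ (tyN_map D ρ hN (spec D _ hU))]
  exact (ty D ρ hN).unique D _ ((ty D _ hU).add D _ hU h)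

omit [Fintype F] in
theorem exists_sm {N : Submodule K3 W} (hN : Inv ρ N) (h0 : N ≠ ⊥) : ∃ U ≤ N, Sm ρ U := by
  obtain ⟨U, h1, h2⟩ := exists_minimal_le_of_wellFoundedLT (fun U : Submodule K3 W => Inv ρ U ∧ U ≠ ⊥) N ⟨hN, h0⟩
  exact ⟨U, h1, h2.1.1, h2.1.2, fun V hV le => or_iff_not_imp_left.2 fun v0 => le_antisymm le (h2.2 ⟨hV, v0⟩ le)⟩

theorem simp {N : Submodule K3 W} (h : Sm ρ N) : ∃ r φ z, Simp D (subR ρ N h.1) r φ z ∧ RR D ρ N = {r} := by
  have := Submodule.nontrivial_iff_ne_bot.2 h.2.1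
  obtain ⟨r, φ, z, H⟩ := exists_simp D (subR ρ N h.1) fun U hU =>
    (h.2.2 _ (inv_map ρ h.1 hU) (Submodule.map_subtype_le N U)).imp
      (fun e => Submodule.map_injective_of_injective N.injective_subtype (e.trans (Submodule.map_bot _).symm))
      fun e => Submodule.map_injective_of_injective N.injective_subtype (e.trans (Submodule.map_subtype_top N).symm)
  exact ⟨r, φ, z, H, eq D ρ (tyN D ρ h.1 H.ty)⟩

theorem sm_of_RR {N : Submodule K3 W} (hN : Inv ρ N) {r : ℕ} (h : RR D ρ N = {r}) : Sm ρ N := by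
  refine ⟨hN, fun e => ?_, fun U hU le => ?_⟩
  · have := (h ▸ ty D ρ hN : Ty D (subR ρ N hN) {r}).dim D _
    rw [Multiset.map_singleton, Multiset.sum_singleton, Submodule.finrank_eq_zero.2 e] at this
    exact notMem_empty 0 (card_eq_zero.1 this.symm ▸ (by simp [JJ] : 0 ∈ JJ r))
  · have hU' : Inv (subR ρ N hN) (U.comap N.subtype) := fun g v hv => hU g v hv
    obtain ⟨R, hR⟩ := exists_ty D (quoR _ _ hU')
    have e := step D ρ hN hU' hR
    rw [h, Submodule.map_comap_subtype, inf_eq_right.2 le] at e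
    have c := congrArg Multiset.card e
    rw [Multiset.card_singleton, Multiset.card_add] at c
    by_cases h1 : RR D ρ U = 0
    · exact .inl (bot D ρ hU h1)
    · refine .inr (le_antisymm le (Submodule.comap_subtype_eq_top.1 (by_contra fun h2 => ?_)))
      have := Submodule.Quotient.nontrivial_iff.2 h2
      have := Multiset.card_pos.2 (hR.ne_zero D _)
      have := Multiset.card_pos.2 h1
      omega

theorem exists_cover {N : Submodule K3 W} (hN : Inv ρ N) (h0 : N ≠ ⊥) :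
    ∃ N' < N, Inv ρ N' ∧ ∃ r, RR D ρ N = RR D ρ N' + {r} := by
  have := Submodule.nontrivial_iff_ne_bot.2 h0
  obtain ⟨U, -, h2⟩ := exists_maximal_ge_of_wellFoundedGT (fun U : Submodule K3 N => Inv (subR ρ N hN) U ∧ U ≠ ⊤) ⊥
    ⟨fun g v hv => by rw [(Submodule.mem_bot _).1 hv, map_zero]; exact zero_mem _, bot_ne_top⟩
  have := Submodule.Quotient.nontrivial_iff.2 h2.1.2
  obtain ⟨r, φ, z, H⟩ := exists_simp D (quoR _ U h2.1.1) fun V hV => or_iff_not_imp_right.2 fun v0 => by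
    have a : V.comap U.mkQ ≤ U := h2.2 ⟨fun g v hv => hV g _ hv, fun e => v0 (by
      rw [← Submodule.map_comap_eq_of_surjective U.mkQ_surjective V, e, Submodule.map_top, Submodule.range_mkQ])⟩
      (Submodule.le_comap_mkQ U V)
    refine (Submodule.eq_bot_iff _).2 fun v hv => ?_
    obtain ⟨v, rfl⟩ := U.mkQ_surjective v
    exact (Submodule.Quotient.mk_eq_zero _).2 (a hv)
  refine ⟨_, lt_of_le_of_ne (Submodule.map_subtype_le N U) fun e => h2.1.2 ?_, inv_map ρ hN h2.1.1, r,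
    step D ρ hN h2.1.1 H.ty⟩
  exact Submodule.map_injective_of_injective N.injective_subtype (e.trans (Submodule.map_subtype_top N).symm)

theorem pw {K V : Type*} [Field K] [AddCommGroup V] [Module K V] {A : End K V} {n : ℕ} (hn : A ^ n = 1) {v : V}
    (v0 : v ≠ 0) {c : K} (h : A v = c • v) : c ^ n = 1 := by
  have := (End.HasEigenvector.pow_apply ⟨End.mem_eigenspace_iff.2 h, v0⟩ n).symm
  rw [hn, End.one_apply] at this
  exact smul_left_injective K v0 (this.trans (one_smul _ _).symm)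

theorem le_of_wt {N U : Submodule K3 W} (hN : Inv ρ N) (h : ∀ k < 80, ∀ v ∈ N, v ∈ Wt D ρ k → v ∈ U) : N ≤ U := by
  have hn : subR ρ N hN D.t ^ 80 = 1 := by rw [← map_pow, ← D.ord_t, pow_orderOf_eq_one, map_one]
  obtain ⟨I, _, v, d, h1, h2, h3⟩ := exists_eb_top (J := Unit) (fun _ => subR ρ N hN D.t) (fun _ _ => Commute.refl _)
    (n := 80) (fun e => absurd ((CharP.cast_eq_zero_iff K3 3 80).1 e) (by norm_num)) fun _ => hn
  refine Submodule.comap_subtype_eq_top.1 (top_le_iff.1 (h2.ge.trans (Submodule.span_le.2 ?_)))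
  rintro _ ⟨i, rfl⟩
  have e : d () i ^ 80 = 1 := pw hn (h1.ne_zero i) (h3 () i)
  have hζ : IsPrimitiveRoot (D.ζ : K3) 80 := by
    rw [← D.hζ, ← orderOf_units]; exact IsPrimitiveRoot.orderOf _
  obtain ⟨k, hk, ek⟩ := hζ.eq_pow_of_pow_eq_one e
  exact h k hk _ (v i).2 (End.mem_eigenspace_iff.2 (ek ▸ congrArg Subtype.val (h3 () i)))

theorem wt_zero {N : Submodule K3 W} (hN : Inv ρ N) {k : ℕ} (h : ((RR D ρ N).map (cw 80 · k)).sum = 0) {v : W}
    (hv : v ∈ N) (hk : v ∈ Wt D ρ k) : v = 0 :=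
  (Submodule.eq_bot_iff _).1 (Submodule.finrank_eq_zero.1 (((spec D ρ hN).2.1 k).trans h)) v ⟨hv, hk⟩

theorem wt_one {N : Submodule K3 W} (hN : Inv ρ N) {k : ℕ} (h : ((RR D ρ N).map (cw 80 · k)).sum = 1) :
    ∃ e ∈ N, e ∈ Wt D ρ k ∧ e ≠ 0 ∧ ∀ v ∈ N, v ∈ Wt D ρ k → ∃ c : K3, v = c • e := by
  obtain ⟨e, e0, he⟩ := finrank_eq_one_iff'.1 (((spec D ρ hN).2.1 k).trans h)
  refine ⟨e, e.2.1, e.2.2, fun h0 => e0 (Subtype.ext h0), fun v hv hk => ?_⟩
  obtain ⟨c, hc⟩ := he ⟨v, hv, hk⟩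
  exact ⟨c, (congrArg Subtype.val hc).symm⟩

theorem fix {N : Submodule K3 W} (h : Sm ρ N) (h0 : RR D ρ N = {0}) : ∃ v ∈ N, v ≠ 0 ∧ ∀ g, ρ g v = v := by
  obtain ⟨r, φ, z, H, e⟩ := simp D ρ h
  obtain rfl : r = 0 := Multiset.singleton_inj.1 (e.symm.trans h0)
  refine ⟨z, z.2, fun z0 => ?_, fun g => congrArg Subtype.val (sub_eq_zero.1 (H.inj (subR ρ N h.1 g z - z) fun g' => ?_))⟩
  · have := H.top 1
    rw [show z = 0 from Subtype.ext z0, map_zero, map_zero, pow_zero] at this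
    exact zero_ne_one this
  · rw [map_sub, map_sub, ← End.mul_apply, ← map_mul, H.top, H.top, pow_zero, pow_zero, sub_self]

end RR2

end CL.E81
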