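/-
`E₈(3)`, `L₂(81)`: the composition factors of submodules.
-/
import Cfsg.Agent.KSG.E81.Ty
import Cfsg.Agent.KSG.E81.RR1
import Cfsg.Agent.KSG.E81.RR2

set_option autoImplicit false
set_option backward.isDefEq.respectTransparency false

namespace CL.E81
open Module Function Finset CL.SL2Wt CL.Chev CL.AltE Cfsg.Lie
open CL.E82 (R8 val ww)
open CL.E83 (K3 G3)
open Matrix hiding zpow_add zpow_mul zpow_sub one_zpow
open scoped MatrixGroups

variable {F : Type*} [Field F] [Fintype F] (D : Dt F) {W : Type} [AddCommGroup W] [Module K3 W]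
  [FiniteDimensional K3 W] (ρ : SL(2, F) →* End K3 W)

/-- PROOF: `exists_ty` for `subR`; the eigenspace of the restriction is `N ⊓ Wt` (`Submodule.comapSubtypeEquivOfLe`). -/
theorem Ty.tyN {N : Submodule K3 W} (hN : Inv ρ N) {R : Multiset ℕ} (h : Ty D (subR ρ N hN) R) : TyN D ρ N R := by
  exact RR1.tyN D ρ hN h

theorem RR_spec {N : Submodule K3 W} (hN : Inv ρ N) : TyN D ρ N (RR D ρ N) := by
  exact RR1.RR_spec D ρ hN

omit [FiniteDimensional K3 W] in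
theorem RR_eq {N : Submodule K3 W} {R : Multiset ℕ} (h : TyN D ρ N R) : RR D ρ N = R := by
  exact RR1.RR_eq D ρ h

theorem RR_ty {N : Submodule K3 W} (hN : Inv ρ N) : Ty D (subR ρ N hN) (RR D ρ N) := by
  exact RR1.RR_ty D ρ hN

theorem RR_top : Ty D ρ (RR D ρ ⊤) := by
  exact RR1.RR_top D ρ

theorem RR_quo {N : Submodule K3 W} (hN : Inv ρ N) : RR D ρ ⊤ = RR D ρ N + RR D (quoR ρ N hN) ⊤ := by
  exact RR1.RR_quo D ρ hN

theorem RR_mono {A B : Submodule K3 W} (hA : Inv ρ A) (hB : Inv ρ B) (h : A ≤ B) : RR D ρ A ≤ RR D ρ B := by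
  exact RR1.RR_mono D ρ hA hB h

/-- PROOF: an invariant subspace is the sum of its weight spaces, so (A ⊔ B) ⊓ Wt k = A ⊓ Wt k ⊔ B ⊓ Wt k. -/
theorem RR_mod {A B : Submodule K3 W} (hA : Inv ρ A) (hB : Inv ρ B) :
    RR D ρ (A ⊓ B) + RR D ρ (A ⊔ B) = RR D ρ A + RR D ρ B := by
  exact RR1.RR_mod D ρ hA hB

theorem RR_dim {N : Submodule K3 W} (hN : Inv ρ N) : finrank K3 N = ((RR D ρ N).map fun r => #(JJ r)).sum := by
  exact RR1.RR_dim D ρ hN

theorem RR_zero {N : Submodule K3 W} (hN : Inv ρ N) : RR D ρ N = 0 ↔ N = ⊥ := by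
  exact RR1.RR_zero D ρ hN

omit [Fintype F] in
theorem exists_sm {N : Submodule K3 W} (hN : Inv ρ N) (h0 : N ≠ ⊥) : ∃ U ≤ N, Sm ρ U := by
  exact RR2.exists_sm ρ hN h0

theorem Sm.simp {N : Submodule K3 W} (h : Sm ρ N) : ∃ r φ z, Simp D (subR ρ N h.1) r φ z ∧ RR D ρ N = {r} := by
  exact RR2.simp D ρ h

theorem sm_of_RR {N : Submodule K3 W} (hN : Inv ρ N) {r : ℕ} (h : RR D ρ N = {r}) : Sm ρ N := by
  exact RR2.sm_of_RR D ρ hN h

theorem exists_cover {N : Submodule K3 W} (hN : Inv ρ N) (h0 : N ≠ ⊥) :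
    ∃ N' < N, Inv ρ N' ∧ ∃ r, RR D ρ N = RR D ρ N' + {r} := by
  exact RR2.exists_cover D ρ hN h0

/-- an invariant subspace is spanned by its weight vectors -/
theorem le_of_wt {N U : Submodule K3 W} (hN : Inv ρ N) (h : ∀ k < 80, ∀ v ∈ N, v ∈ Wt D ρ k → v ∈ U) : N ≤ U := by
  exact RR2.le_of_wt D ρ hN h

/-- weight spaces of dimension zero or one -/
theorem wt_zero {N : Submodule K3 W} (hN : Inv ρ N) {k : ℕ} (h : ((RR D ρ N).map (cw 80 · k)).sum = 0) {v : W}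
    (hv : v ∈ N) (hk : v ∈ Wt D ρ k) : v = 0 := by
  exact RR2.wt_zero D ρ hN h hv hk

theorem wt_one {N : Submodule K3 W} (hN : Inv ρ N) {k : ℕ} (h : ((RR D ρ N).map (cw 80 · k)).sum = 1) :
    ∃ e ∈ N, e ∈ Wt D ρ k ∧ e ≠ 0 ∧ ∀ v ∈ N, v ∈ Wt D ρ k → ∃ c : K3, v = c • e := by
  exact RR2.wt_one D ρ hN h

theorem Sm.fix {N : Submodule K3 W} (h : Sm ρ N) (h0 : RR D ρ N = {0}) : ∃ v ∈ N, v ≠ 0 ∧ ∀ g, ρ g v = v := by
  exact RR2.fix D ρ h h0

end CL.E81
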