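/-
`E₈(3)`, `L₂(81)`: the six cases.
-/
import Cfsg.Agent.KSG.E81.En
import Cfsg.Agent.KSG.E81.Kac
import Cfsg.Agent.KSG.E81.Feas
import Cfsg.Agent.KSG.E81.RR

set_option autoImplicit false
set_option backward.isDefEq.respectTransparency false

namespace CL.E81
open Module Function Finset CL.SL2Wt CL.Chev CL.AltE Cfsg.Lie
open CL.E82 (R8 val ww)
open CL.E83 (K3 G3)
open Matrix hiding zpow_add zpow_mul zpow_sub one_zpow
open scoped MatrixGroups

theorem ClsX.dimE {n : ℕ} (hn : n ≠ 0) {μ : K3ˣ} (hμ : orderOf μ = 2 * n) (hz : orderOf (μ ^ 2) = n)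
    {c : Fin 8 → ℕ} {g : G3} (h : IsCls (μ ^ 2) c g) (hg : orderOf g = n) (k : ℕ) :
    finrank K3 ((rho g).eigenspace ((μ : K3) ^ k)) = if k % 2 = 0 then mu n c (k / 2) else 0 := by
  split_ifs with hk
  · rw [← h.dim hz (k / 2), Units.val_pow_eq_pow_val, ← pow_mul, Nat.mul_div_cancel' (Nat.dvd_of_mod_eq_zero hk)]
  · rw [Submodule.finrank_eq_zero, eq_bot_iff]
    intro v hv
    rw [End.mem_eigenspace_iff] at hv
    have h1 : ∀ i : ℕ, rho (g ^ i) v = ((μ : K3) ^ k) ^ i • v := by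
      intro i
      induction i with
      | zero => rw [pow_zero, pow_zero, map_one, one_smul, End.one_apply]
      | succ i ih => rw [pow_succ, map_mul, End.mul_apply, hv, map_smul, ih, smul_smul, pow_succ']
    have h2 := h1 n
    rw [← hg, pow_orderOf_eq_one, map_one, End.one_apply, hg] at h2
    by_contra v0
    have h3 : ((μ : K3) ^ k) ^ n = 1 := by
      by_contra h3
      apply v0
      have h4 : (((μ : K3) ^ k) ^ n - 1) • v = 0 := by rw [sub_smul, one_smul, ← h2, sub_self]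
      exact (smul_eq_zero.1 h4).resolve_left (sub_ne_zero.2 h3)
    rw [← pow_mul, ← Units.val_pow_eq_pow_val, Units.val_eq_one, ← orderOf_dvd_iff_pow_eq_one, hμ,
      Nat.mul_dvd_mul_iff_right (Nat.pos_of_ne_zero hn)] at h3
    omega

/-- PROOF: `exists_kac` for θ t (n = 40, z = ζ²) and θ s (n = 41, z = η²), `enum40`, `enum41`, `IsCls.dim`; odd weights do not
occur as θ(-1) = 1 (`t40`, `s41`); `RR_top`, `Ty.dim_t`, `Ty.dim_s`, `feas`. -/
theorem exists_su {F : Type*} [Field F] [Fintype F] (D : Dt F) {H : Subgroup G3} {θ : SL(2, F) →* G3} (E : Emb H θ)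
    (hH : IsCoatom H) : ∃ a, Su D H θ a := by
  have hη : orderOf (D.η ^ 2) = 41 := by rw [orderOf_pow' _ two_ne_zero, D.hη]; rfl
  obtain ⟨c, hc, c1, ⟨w, hw, c2⟩, c3⟩ := exists_kac (n := 40) (by decide) D.hξ (E.ord_t D)
  obtain ⟨d, hd, d1, ⟨w', hw', d2⟩, d3⟩ := exists_kac (n := 41) (by decide) hη (E.ord_s D)
  have hT := RR_top D (rh θ)
  obtain ⟨a, h1, h2⟩ := feas hT.1 (enum40 c c1 w hw c2 (c3 2 (by decide) (by decide)) (c3 5 (by decide) (by decide)))
    (enum41 d d1 w' hw' d2 (d3 41 (by decide) (by decide)))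
    (fun k _ => by
      rw [← Ty.dim_t D (rh θ) hT k]
      exact ClsX.dimE (by decide) D.hζ D.hξ hc (E.ord_t D) k)
    (fun k _ => by
      rw [← Ty.dim_s D (rh θ) hT k]
      exact ClsX.dimE (by decide) D.hη hη hd (E.ord_s D) k)
  exact ⟨a, E, hH, h1 ▸ hc, h2⟩

end CL.E81
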