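/-
`E₈(3)`, `L₂(81)`: `L(2)` splits off `L(40)`.
-/
import Cfsg.Agent.KSG.E81.Bas
import Cfsg.Agent.KSG.E81.RR

set_option autoImplicit false
set_option backward.isDefEq.respectTransparency false

namespace CL.E81
open Module Function Finset CL.SL2Wt CL.Chev CL.AltE Cfsg.Lie
open CL.E82 (R8 val ww)
open CL.E83 (K3 G3)
open Matrix hiding zpow_add zpow_mul zpow_sub one_zpow
open scoped MatrixGroups

variable {F : Type*} [Field F] [Fintype F] (D : Dt F) {W : Type} [AddCommGroup W] [Module K3 W]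
  [FiniteDimensional K3 W] (ρ : SL(2, F) →* End K3 W)

omit [FiniteDimensional K3 W] in
theorem Ext.sum_cw {N : Submodule K3 W} {a : ℕ} (h : RR D ρ N = {2} + Multiset.replicate a 40) (k : ℕ) :
    ((RR D ρ N).map (cw 80 · k)).sum = cw 80 2 k + a * cw 80 40 k := by
  rw [h, Multiset.map_add, Multiset.sum_add, Multiset.map_singleton, Multiset.sum_singleton, Multiset.map_replicate,
    Multiset.sum_replicate, smul_eq_mul]

theorem Ext.inj {R : Multiset ℕ} (h : Ty D ρ R) (hp : ∀ r ∈ R, r = 2 ∨ r = 40) :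
    ∀ v ∈ Wt D ρ 78, XX D ρ 2 v = 0 → v = 0 := by
  refine ind D ρ (fun r => r = 2 ∨ r = 40) (fun W _ _ _ ρ => ∀ v ∈ Wt D ρ 78, XX D ρ 2 v = 0 → v = 0) ?_ ?_ ?_ h hp
  · intro W _ _ _ ρ hW v _ _
    exact Subsingleton.elim _ _
  · intro W _ _ _ ρ r φ z hr hS v hv h0
    exact Simp.inj2 D ρ hS hr hv h0
  · intro W _ _ _ ρ U hU h1 h2 v hv h0
    have hq : U.mkQ v = 0 := by
      refine h2 _ ?_ ?_
      · rw [Module.End.mem_eigenspace_iff] at hv ⊢
        rw [quoR_mk, hv, map_smul]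
      · rw [XX_quo, h0, map_zero]
    have hvU : v ∈ U := (Submodule.Quotient.mk_eq_zero U).1 hq
    have := h1 ⟨v, hvU⟩ ?_ ?_
    · exact congrArg Subtype.val this
    · rw [Module.End.mem_eigenspace_iff] at hv ⊢
      exact Subtype.ext hv
    · exact Subtype.ext ((XX_sub D ρ hU 2 ⟨v, hvU⟩).trans h0)

theorem Ext.dig (m : Fin 81) : (m : ℕ) / 3 ^ 1 % 3 ≠ 0 ∨ (m : ℕ) / 3 ^ 3 % 3 ≠ 0 ∨
    (m : ℕ) ∈ ({0, 1, 2, 9, 10, 11, 18, 19, 20} : Finset ℕ) := by
  revert m; decide

/-- PROOF: work in `subR`; the weights 78 and 2 have multiplicity one (`wt_one`), the weights 4, 52 (= 78 + 54), 18 do not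
occur (`wt_zero`).  v of weight 78: EE 1 v = EE 3 v = 0; XX 2 v ≠ 0 (`ind` + `Simp.inj2`), η = ρ ww v = c XX 2 v is killed
by all EE i (EE 2 EE 0 v has weight 18), so `gen_inv` gives an invariant P spanned by η and the XX m v, which vanish unless
m ∈ {0,1,2,9,10,11,18,19,20} (`XX_dig`): finrank P ≤ 10 < 16, RR P ≤ RR N, P ≠ ⊥, so RR P = {2} (`RR_dim`). -/
theorem ext5 {N : Submodule K3 W} (hN : Inv ρ N) {a : ℕ} (h : RR D ρ N = {2} + Multiset.replicate a 40) :
    ∃ P ≤ N, Inv ρ P ∧ RR D ρ P = {2} := by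
  classical
  have hs := Ext.sum_cw D ρ h
  have hz : ∀ k, cw 80 2 k = 0 → cw 80 40 k = 0 → ∀ v ∈ N, v ∈ Wt D ρ k → v = 0 := fun k h1 h2 v hv hk =>
    wt_zero D ρ hN (by rw [hs, h1, h2]; simp) hv hk
  obtain ⟨v, hvN, hv, hv0, hv1⟩ := wt_one D ρ hN (k := 78) (by
    rw [hs, show cw 80 2 78 = 1 by decide, show cw 80 40 78 = 0 by decide]; simp)
  have e1 : XX D ρ 3 v = 0 :=
    hz _ (by decide) (by decide) _ (XX_inv D ρ hN 3 hvN) (XX_wt D ρ (by norm_num) hv)
  have e3 : XX D ρ 27 v = 0 :=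
    hz _ (by decide) (by decide) _ (XX_inv D ρ hN 27 hvN) (XX_wt D ρ (by norm_num) hv)
  have e2 : XX D ρ 9 (XX D ρ 1 v) = 0 :=
    hz _ (by decide) (by decide) _ (XX_inv D ρ hN 9 (XX_inv D ρ hN 1 hvN))
      (XX_wt D ρ (by norm_num) (XX_wt D ρ (by norm_num) hv))
  have hηN : XX D ρ 2 v ∈ N := XX_inv D ρ hN 2 hvN
  have hη : XX D ρ 2 v ∈ Wt D ρ (78 + 2 * 2) := XX_wt D ρ (by norm_num) hv
  have hη0 : XX D ρ 2 v ≠ 0 := by
    intro h0
    have := Ext.inj D (subR ρ N hN) (RR_ty D ρ hN) (by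
      intro r hr
      rw [h, Multiset.mem_add, Multiset.mem_singleton] at hr
      exact hr.imp id Multiset.eq_of_mem_replicate) ⟨v, hvN⟩ (by
      rw [Module.End.mem_eigenspace_iff] at hv ⊢
      exact Subtype.ext hv) (Subtype.ext ((XX_sub D ρ hN 2 ⟨v, hvN⟩).trans h0))
    exact hv0 (congrArg Subtype.val this)
  have hE : ∀ i, EE D ρ i (XX D ρ 2 v) = 0 := by
    intro i
    fin_cases i
    · exact hz _ (by decide) (by decide) _ (XX_inv D ρ hN _ hηN) (XX_wt D ρ (m := 1) (by norm_num) hη)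
    · exact hz _ (by decide) (by decide) _ (XX_inv D ρ hN _ hηN) (XX_wt D ρ (m := 3) (by norm_num) hη)
    · obtain ⟨c, hc⟩ := XX_dig D ρ (m := 2) (by norm_num) (i := 0) (by decide)
      change XX D ρ 9 (XX D ρ 2 v) = 0
      change XX D ρ 2 = c • (XX D ρ 1 * XX D ρ 1) at hc
      rw [hc, LinearMap.smul_apply, map_smul, Module.End.mul_apply, ← Module.End.mul_apply (XX D ρ 9),
        (XX_comm D ρ 9 1).eq, Module.End.mul_apply, e2, map_zero, smul_zero]
    · exact hz _ (by decide) (by decide) _ (XX_inv D ρ hN _ hηN) (XX_wt D ρ (m := 27) (by norm_num) hη)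
  have hP := gen_inv D ρ hη (fix_of_EE D ρ hE)
  set P := Submodule.span K3 (insert (XX D ρ 2 v) (Set.range fun m : Fin 81 => XX D ρ m (ρ ww (XX D ρ 2 v)))) with hPd
  have hPN : P ≤ N := by
    rw [hPd, Submodule.span_le]
    rintro x (rfl | ⟨m, rfl⟩)
    · exact hηN
    · exact XX_inv D ρ hN _ (hN _ _ hηN)
  obtain ⟨c, hc⟩ := hv1 _ (hN ww _ hηN) (by
    rw [wt_congr D ρ (k := 78) (k' := 79 * (78 + 2 * 2)) (by norm_num)]
    exact ww_wt D ρ hη)
  have hdim : finrank K3 P ≤ 9 := by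
    have hle : P ≤ Submodule.span K3
        ((({0, 1, 2, 9, 10, 11, 18, 19, 20} : Finset ℕ).image fun m => XX D ρ m v : Finset W) : Set W) := by
      rw [hPd, Submodule.span_le]
      rintro x (rfl | ⟨m, rfl⟩)
      · exact Submodule.subset_span (Finset.mem_coe.2 (Finset.mem_image.2 ⟨2, by decide, rfl⟩))
      · change XX D ρ m (ρ ww (XX D ρ 2 v)) ∈ Submodule.span K3 _
        rw [hc, map_smul]
        refine Submodule.smul_mem _ _ ?_
        rcases Ext.dig m with hm | hm | hm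
        · obtain ⟨d, hd⟩ := XX_dig D ρ m.2 (i := 1) hm
          rw [hd, LinearMap.smul_apply, Module.End.mul_apply, show EE D ρ 1 v = 0 from e1, map_zero, smul_zero]
          exact Submodule.zero_mem _
        · obtain ⟨d, hd⟩ := XX_dig D ρ m.2 (i := 3) hm
          rw [hd, LinearMap.smul_apply, Module.End.mul_apply, show EE D ρ 3 v = 0 from e3, map_zero, smul_zero]
          exact Submodule.zero_mem _
        · exact Submodule.subset_span (Finset.mem_coe.2 (Finset.mem_image.2 ⟨m, hm, rfl⟩))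
    refine (Submodule.finrank_mono hle).trans ((finrank_span_finset_le_card _).trans (Finset.card_image_le.trans ?_))
    decide
  refine ⟨P, hPN, hP, ?_⟩
  have hle := RR_mono D ρ hP hN hPN
  have h40 : 40 ∉ RR D ρ P := by
    intro h4
    have h1 := Multiset.single_le_sum (s := (RR D ρ P).map fun r => #(JJ r)) (fun _ _ => Nat.zero_le _) _
      (Multiset.mem_map_of_mem (fun r => #(JJ r)) h4)
    rw [← RR_dim D ρ hP, show #(JJ 40) = 16 by decide] at h1
    omega
  have h2 : RR D ρ P ≤ {2} := by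
    rw [Multiset.le_iff_count]
    intro r
    by_cases hr : r = 40
    · rw [hr, Multiset.count_eq_zero_of_notMem h40]; exact Nat.zero_le _
    · have := Multiset.le_iff_count.1 hle r
      rwa [h, Multiset.count_add, Multiset.count_replicate, if_neg (fun e => hr e.symm), add_zero] at this
  refine (Multiset.le_singleton.1 h2).resolve_left fun h0 => hη0 ?_
  have hb := (RR_zero D ρ hP).1 h0
  have : XX D ρ 2 v ∈ P := Submodule.subset_span (Set.mem_insert _ _)
  rwa [hb, Submodule.mem_bot] at this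

end CL.E81
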