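/-
`E₈(3)`, `L₂(81)`: the bracket on the basis.
-/
import Cfsg.Agent.KSG.E81.Lie0

set_option autoImplicit false
set_option maxHeartbeats 200000
set_option backward.isDefEq.respectTransparency false

namespace CL.E81
open Module Function Finset CL.SL2Wt CL.Chev CL.AltE Cfsg.Lie
open CL.E82 (R8 val ww)
open CL.E83 (K3 G3)
open Matrix hiding zpow_add zpow_mul zpow_sub one_zpow
open scoped MatrixGroups

theorem br_ee (r : R8) : br (ee r) = adE r := LA.br_ee r

theorem br_ee_ng (r : R8) : br (ee r) (ee (ng r)) = hh r := LA.br_ee_ng r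

theorem br_ee_add {r s u : R8} (h : co u = co r + co s) :
    ∃ ε : K3, (ε = 1 ∨ ε = -1) ∧ br (ee r) (ee s) = ε • ee u := ⟨N r s, (LA.N_pm h).imp (fun e => by rw [e, Int.cast_one]) fun e => by rw [e, Int.cast_neg, Int.cast_one],
  LA.br_ee_add h⟩

theorem br_ee_zero {r s : R8} (h : 0 ≤ A r s) : br (ee r) (ee s) = 0 := LA.br_ee_zero h

theorem root_cases (r s : R8) : s = ng r ∨ (∃ u : R8, co u = co r + co s ∧ A r s = -1) ∨ 0 ≤ A r s := E82.root_cases r s

theorem br_hh_ee (s r : R8) : br (hh s) (ee r) = (A s r : K3) • ee r := LA.br_hh_ee s r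

theorem br_cartan_ee {v : V3} (hv : ∀ s : R8, v (Sum.inr s) = 0) (r : R8) : br v (ee r) = lam r v • ee r := LA.br_cartan_ee hv r

theorem br_cartan {u v : V3} (hu : ∀ s : R8, u (Sum.inr s) = 0) (hv : ∀ s : R8, v (Sum.inr s) = 0) : br u v = 0 := LA.br_cartan hu hv

theorem br_anti (u v : V3) : br u v = -br v u := LA.br_anti u v

theorem br_self (u : V3) : br u u = 0 := LA.br_self u

theorem x_apply (r : R8) (c : K3) (v : V3) :
    rG (XG r c) v = v + c • br (ee r) v - (c ^ 2 * v (Sum.inr (ng r))) • ee r := LA.x_apply r c v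

theorem br_Fr (u v : V3) : Fr (br u v) = br (Fr u) (Fr v) := LA.br_Fr u v

end CL.E81
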