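/-
`E₈(3)`, `L₂(81)`: invariance of the bracket.
-/
import Cfsg.Agent.KSG.E81.Lie1

set_option autoImplicit false
set_option maxHeartbeats 200000
set_option backward.isDefEq.respectTransparency false

namespace CL.E81
open Module Function Finset CL.SL2Wt CL.Chev CL.AltE Cfsg.Lie
open CL.E82 (R8 val ww)
open CL.E83 (K3 G3)
open Matrix hiding zpow_add zpow_mul zpow_sub one_zpow
open scoped MatrixGroups

theorem br_map (γ : Γ3) (u v : V3) : rG γ (br u v) = br (rG γ u) (rG γ v) := LA.br_map γ u v

theorem br_rho (g : G3) (u v : V3) : rho g (br u v) = br (rho g u) (rho g v) := by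
  simp only [rho_apply]; exact br_map _ u v

end CL.E81
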