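/-
`E₈(3)`, `L₂(81)`: subalgebras of a centraliser of type `A₁⁴T₄` (the algebraic group).
-/
import Cfsg.Agent.KSG.E81.Lie2
import Cfsg.Agent.KSG.E81.Fix61
import Cfsg.Agent.KSG.SpULang
import Cfsg.Agent.KSG.E82.Tw

set_option autoImplicit false
set_option backward.isDefEq.respectTransparency false

namespace CL.E81.Fix6
open Module Function Finset CL.SL2Wt CL.Chev CL.AltE Cfsg.Lie
open CL.E82 (R8 val ww)
open CL.E83 (K3 G3)
open CL.E82.Tw (A_W long A_comm)
open Matrix hiding zpow_add zpow_mul zpow_sub one_zpow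
open scoped MatrixGroups

theorem two : (2 : K3) ≠ 0 := fun h => one_ne_zero (α := K3) (by linear_combination three0 - h)
theorem rG_mul (a b : Γ3) (v : V3) : rG (a * b) v = rG a (rG b v) := by rw [map_mul]; rfl
theorem rG_inv (a : Γ3) (v : V3) : rG a⁻¹ (rG a v) = v := by rw [← rG_mul, inv_mul_cancel, map_one]; rfl
theorem rG_inj (a : Γ3) {u v : V3} (h : rG a u = rG a v) : u = v := by rw [← rG_inv a u, h, rG_inv]
theorem e_e (r s : R8) : ee r (Sum.inr s) = if s = r then 1 else 0 := by simp only [ee, bas_inr, Fin.val_inj]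
theorem h_r (r s : R8) : hh r (Sum.inr s) = 0 := rfl
theorem e_l (r : R8) (i : Fin 8) : ee r (Sum.inl i) = 0 := bas_inl_of_lt r.2 i
theorem lamL_apply (r : R8) (v : V3) : lamL r v = lam r v := by
  simp only [lamL, lam, LinearMap.sum_apply, LinearMap.smul_apply, pr_apply, smul_eq_mul, mul_comm]
theorem lam_ee (r s : R8) : lam r (ee s) = 0 := by simp only [lam, e_l, zero_mul, sum_const_zero]
theorem lam_hh (r s : R8) : lam r (hh s) = (A s r : K3) := by
  rw [A_eq_sum]
  push_cast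
  rfl
theorem lam_Fr (r : R8) (v : V3) : lam r (Fr v) = lam r v ^ 3 := by
  simp only [lam, Fr, ← phi_apply, map_sum, map_mul, map_intCast]
theorem x_comm {r s : R8} (h : 0 ≤ A r s) (c d : K3) : Commute (XG r c) (XG s d) :=
  have k := (long r).noComb (s := s) (by rwa [rootSys_pair])
  (stS chevE8 K3).commute_of_not_isComb k.1 k.2 c d
theorem tor_x (t : Fin 8 → K3ˣ) {r : R8} (h : ch t r = 1) (c : K3) : Commute (XG r c) (tor8 t) := by
  have := alg.r3.torHom_conj' alg.good t r c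
  rw [show uchr t ((rootSys chevE8).wt r) = 1 from h, Units.val_one, one_mul, mul_inv_eq_iff_eq_mul] at this
  exact this.symm
theorem wng {D : ChevalleyDatum} [Good D] {w : Equiv.Perm (Rt D)} (h : w ∈ (rootSys D).W) (r : Rt D) :
    w (ng r) = ng (w r) := RootSys.W_neg h r
theorem chng {D : ChevalleyDatum} [Good D] {C : Type*} [CommGroup C] (t : Fin D.rank → C) (r : Rt D) :
    uchr t ((rootSys D).wt (ng r)) = (uchr t ((rootSys D).wt r))⁻¹ := by
  rw [show (rootSys D).wt (ng r) = -(rootSys D).wt r from funext ((rootSys D).wt_neg r)]; simp [uchr]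
theorem ind4 {P : Fin 4 → Prop} (h0 : P 0) (hs : ∀ i, P i → P (i + 1)) (i : Fin 4) : P i := by
  fin_cases i; exacts [h0, hs _ h0, hs _ (hs _ h0), hs _ (hs _ (hs _ h0))]
theorem h_ng (r : R8) : hh (ng r) = -hh r := hv_ng r
theorem b_eh (r s : R8) : br (ee r) (hh s) = -((A s r : K3) • ee r) := by rw [br_anti, br_hh_ee]
theorem b_ng (r : R8) : br (ee (ng r)) (ee r) = -hh r := by rw [br_anti, br_ee_ng]

/-- killed by the `SL₂` of `α` -/
structure Z0 (α : R8) (v : V3) : Prop where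
  h1 : br (ee α) v = 0
  h2 : br (ee (ng α)) v = 0
  h3 : v (Sum.inr α) = 0
  h4 : v (Sum.inr (ng α)) = 0
  h5 : lam α v = 0

noncomputable def vec (α : R8) (v : V3) (s : K3 × K3 × K3) : V3 := v + s.1 • hh α + s.2.1 • ee α + s.2.2 • ee (ng α)
noncomputable def gg (α : R8) (c : Fin 4 → K3) : Γ3 := XG α (c 0) * XG (ng α) (c 1) * XG α (c 2) * XG (ng α) (c 3)
/-- the `α`-triple -/
noncomputable def trp (α : R8) (v : V3) : K3 × K3 × K3 := (-lam α v, v (Sum.inr α), v (Sum.inr (ng α)))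

variable {α β : R8} {u v : V3}

theorem z0 (α : R8) : Z0 α 0 := ⟨map_zero _, map_zero _, rfl, rfl, by rw [← lamL_apply, map_zero]⟩

theorem Z0.co (z : Z0 α v) (s : K3 × K3 × K3) : trp α (vec α v s) = s := by
  refine Prod.ext ?_ (Prod.ext ?_ ?_)
  · simp only [trp, vec, ← lamL_apply, map_add, map_smul]
    simp only [lamL_apply, z.h5, lam_ee, lam_hh, A_self, smul_eq_mul]
    push_cast; linear_combination -s.1 * three0
  all_goals simp [trp, vec, z.h3, z.h4, e_e, h_r, ng_ne, (ng_ne α).symm]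

theorem Z0.x (z : Z0 α v) (c : K3) (s : K3 × K3 × K3) : rG (XG α c) (vec α v s) = vec α v (X c s) := by
  rw [x_apply, show vec α v s (Sum.inr (ng α)) = s.2.2 from congrArg (·.2.2) (z.co s)]
  simp only [vec, X, map_add, map_smul, z.h1, b_eh, br_self, br_ee_ng, A_self, Int.cast_ofNat]
  module

theorem Z0.y (z : Z0 α v) (c : K3) (s : K3 × K3 × K3) : rG (XG (ng α) c) (vec α v s) = vec α v (Y c s) := by
  rw [x_apply, ng_ng, show vec α v s (Sum.inr α) = s.2.1 from congrArg (·.2.1) (z.co s)]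
  simp only [vec, Y, map_add, map_smul, z.h2, b_eh, br_self, b_ng, A_ng_right, A_self, Int.cast_neg, Int.cast_ofNat]
  module

theorem Z0.g (z : Z0 α v) (c : Fin 4 → K3) (s : K3 × K3 × K3) : rG (gg α c) (vec α v s) = vec α v (GG c s) := by
  simp only [gg, rG_mul, z.x, z.y, GG]

theorem Z0.fix (z : Z0 α v) (c : K3) : rG (XG α c) v = v ∧ rG (XG (ng α) c) v = v := by
  simp [x_apply, ng_ng, z.h1, z.h2, z.h3, z.h4]

theorem kill {r : R8} (h : ∀ s, v (Sum.inr s) = 0 ∨ 0 ≤ A r s) (h' : lam r v = 0) : br (ee r) v = 0 := by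
  rw [eq_sum v, map_add, br_anti _ (∑ i : Fin 8, _), br_cartan_ee (fun s => by simp [Finset.sum_apply, h_r]),
    show lam r (∑ i : Fin 8, v (Sum.inl i) • hh (sm i)) = lam r v by
      rw [← lamL_apply, map_sum]; simp only [map_smul, lamL_apply, lam_hh, smul_eq_mul]; rfl, h', zero_smul, neg_zero,
    add_zero, map_sum]
  exact sum_eq_zero fun s _ => (h s).elim (fun e => by rw [e, zero_smul, map_zero])
    fun e => by rw [map_smul, br_ee_zero e, smul_zero]

theorem lam_ng (r : R8) (v : V3) : lam (ng r) v = -lam r v := by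
  simp only [lam, A_ng_right, Int.cast_neg, mul_neg, sum_neg_distrib]

theorem Z0.bh (z : Z0 α v) : br (hh α) v = 0 := by
  have := br_map (XG α 1) (ee (ng α)) v
  rw [z.h2, map_zero, (z.fix 1).1, x_apply, br_ee_ng] at this
  simpa [z.h1, z.h2] using this.symm

theorem Z0.br (z : Z0 α v) (S T : K3 × K3 × K3) : br (vec α 0 S) (vec α v T) = vec α 0 (ad S T) := by
  simp only [vec, ad, map_add, map_smul, LinearMap.add_apply, LinearMap.smul_apply, z.h1, z.h2, z.bh, br_self,
    br_ee_ng, b_ng, b_eh, br_hh_ee, A_self, A_ng_right, Int.cast_neg, Int.cast_ofNat, zero_add]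
  module

theorem Z0.add (z : Z0 α u) (z' : Z0 α v) : Z0 α (u + v) :=
  ⟨by rw [map_add, z.h1, z'.h1, add_zero], by rw [map_add, z.h2, z'.h2, add_zero], by simp [z.h3, z'.h3],
    by simp [z.h4, z'.h4], by rw [← lamL_apply, map_add, lamL_apply, lamL_apply, z.h5, z'.h5, add_zero]⟩

theorem car (h : ∀ s, v (Sum.inr s) = 0) (l : lam α v = 0) : Z0 α v :=
  ⟨kill (fun s => .inl (h s)) l, kill (fun s => .inl (h s)) (by rw [lam_ng, l, neg_zero]), h _, h _, l⟩

theorem orth (o : A α β = 0) (T : K3 × K3 × K3) : Z0 β (vec α 0 T) := by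
  have o' : A β α = 0 := (A_comm _ _).trans o
  have n1 : β ≠ α := by rintro rfl; simp [A_self] at o
  have n2 : β ≠ ng α := by rintro rfl; simp [A_ng_right, A_self] at o
  have n3 : ng β ≠ α := by rintro rfl; simp [A_ng_left, A_self] at o
  have n4 : ng β ≠ ng α := fun k => n1 (by rw [← ng_ng β, k, ng_ng])
  have l : lam β (vec α 0 T) = 0 := by
    simp only [vec, ← lamL_apply, map_add, map_smul, map_zero]; simp [lamL_apply, lam_ee, lam_hh, o]
  have sp : ∀ s, vec α 0 T (Sum.inr s) = 0 ∨ A β s = 0 := fun s => by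
    by_cases e : s = α
    · exact .inr (e ▸ o')
    by_cases e' : s = ng α
    · exact .inr (by rw [e', A_ng_right, o', neg_zero])
    exact .inl (by simp [vec, e_e, h_r, e, e'])
  exact ⟨kill (fun s => (sp s).imp_right (·.ge)) l, kill (fun s => (sp s).imp_right fun k => by
    rw [A_ng_left, k, neg_zero]) (by rw [lam_ng, l, neg_zero]), by simp [vec, e_e, h_r, n1, n2],
    by simp [vec, e_e, h_r, n3, n4], l⟩

theorem cm (o : A α β = 0) (c d : Fin 4 → K3) : Commute (gg α c) (gg β d) :=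
  have k : ∀ r s x, 0 ≤ A r s → 0 ≤ A r (ng s) → Commute (XG r x) (gg s d) := fun r s x h h' =>
    (((x_comm h _ _).mul_right (x_comm h' _ _)).mul_right (x_comm h _ _)).mul_right (x_comm h' _ _)
  have k1 := fun x => k α β x o.ge (by rw [A_ng_right, o, neg_zero])
  have k2 := fun x => k (ng α) β x (by rw [A_ng_left, o, neg_zero]) (by rw [A_ng_left, A_ng_right, o, neg_neg])
  (((k1 _).mul_left (k2 _)).mul_left (k1 _)).mul_left (k2 _)

/-- `trp` as a linear map -/
noncomputable def trL (α : R8) : V3 →ₗ[K3] K3 × K3 × K3 := (-lamL α).prod ((pr (Sum.inr α)).prod (pr (Sum.inr (ng α))))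
theorem trL_apply (α : R8) (v : V3) : trL α v = trp α v := by simp [trL, trp, lamL_apply, pr_apply]
/-- `vec α 0` as a linear map -/
noncomputable def sl (α : R8) : K3 × K3 × K3 →ₗ[K3] V3 where
  toFun := vec α 0
  map_add' S T := by simp only [vec, Prod.fst_add, Prod.snd_add]; module
  map_smul' k T := by simp only [vec, Prod.smul_fst, Prod.smul_snd, smul_eq_mul, RingHom.id_apply]; module
theorem sl_apply (α : R8) (T : K3 × K3 × K3) : sl α T = vec α 0 T := rfl
theorem vec_eq (α : R8) (v : V3) (T : K3 × K3 × K3) : vec α v T = v + sl α T := by simp only [sl_apply, vec]; module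

section
variable (B : Fin 4 → R8)
/-- the four factors -/
noncomputable def vv : (Fin 4 → K3 × K3 × K3) →ₗ[K3] V3 := ∑ i, sl (B i) ∘ₗ LinearMap.proj i
/-- the centre -/
def Cn (z : V3) : Prop := (∀ s, z (Sum.inr s) = 0) ∧ ∀ i, lam (B i) z = 0
theorem vv_apply (T : Fin 4 → K3 × K3 × K3) : vv B T = ∑ i, sl (B i) (T i) := by simp [vv]
theorem cn0 : Cn B 0 := ⟨fun _ => rfl, fun _ => (z0 _).h5⟩

variable {B} (o : ∀ i j, i ≠ j → A (B i) (B j) = 0) {z : V3} (hz : Cn B z)
include o hz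

theorem spl (i : Fin 4) (T : Fin 4 → K3 × K3 × K3) : ∃ u, Z0 (B i) u ∧ ∀ S, z + vv B (update T i S) = vec (B i) u S := by
  refine ⟨z + ∑ j ∈ univ.erase i, sl (B j) (T j), (car hz.1 (hz.2 i)).add (Finset.sum_induction _ _
    (fun _ _ => Z0.add) (z0 _) fun j hj => orth (o j i (ne_of_mem_erase hj)) _), fun S => ?_⟩
  rw [vec_eq, vv_apply, ← sum_erase_add _ _ (mem_univ i), update_self, add_assoc,
    sum_congr rfl fun j hj => by rw [update_of_ne (ne_of_mem_erase hj)]]

theorem vv_tr (i : Fin 4) (T : Fin 4 → K3 × K3 × K3) : trp (B i) (z + vv B T) = T i := by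
  obtain ⟨u, k, e⟩ := spl o hz i T
  rw [← update_eq_self i T, e, k.co, update_self]

theorem vv_g (i : Fin 4) (c : Fin 4 → K3) (T : Fin 4 → K3 × K3 × K3) :
    rG (gg (B i) c) (z + vv B T) = z + vv B (update T i (GG c (T i))) := by
  obtain ⟨u, k, e⟩ := spl o hz i T
  rw [e, ← k.g, ← e, update_eq_self]

theorem vv_br (S T : Fin 4 → K3 × K3 × K3) : br (vv B S) (z + vv B T) = vv B fun i => ad (S i) (T i) := by
  rw [vv_apply B S, map_sum, LinearMap.sum_apply, vv_apply B fun i => ad (S i) (T i)]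
  refine sum_congr rfl fun i _ => ?_
  obtain ⟨u, k, e⟩ := spl o hz i T
  rw [← update_eq_self i T, e, sl_apply, k.br, update_self, sl_apply]

omit hz in
theorem vv_br0 (S T : Fin 4 → K3 × K3 × K3) : br (vv B S) (vv B T) = vv B fun i => ad (S i) (T i) := by
  simpa only [zero_add] using vv_br o (cn0 B) S T

omit o in
theorem cn_br {z' : V3} (hz' : Cn B z') (T : Fin 4 → K3 × K3 × K3) : br z (z' + vv B T) = 0 := by
  rw [map_add, br_cartan hz.1 hz'.1, zero_add, vv_apply, map_sum]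
  refine sum_eq_zero fun i _ => ?_
  have k := car hz.1 (hz.2 i)
  rw [br_anti, sl_apply, vec]
  simp [k.h1, k.h2, k.bh]

omit o in
theorem vv_t (t : Fin 8 → K3ˣ) (T : Fin 4 → K3 × K3 × K3) :
    rG (tor8 t) (z + vv B T) = z + vv B fun i => tq (ch t (B i)) (T i) := by
  have c : ∀ v : V3, (∀ s, v (Sum.inr s) = 0) → rG (tor8 t) v = v := fun v h => funext fun i => by
    rw [tor_apply]; rcases i with i | i
    · exact one_mul _
    · rw [h, mul_zero]
  rw [map_add, c z hz.1, vv_apply, vv_apply, map_sum]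
  refine congrArg _ (sum_congr rfl fun i _ => ?_)
  have n : ch t (ng (B i)) = (ch t (B i))⁻¹ := chng (D := chevE8) t (B i)
  simp only [sl_apply, vec, tq, map_add, map_smul, map_zero, tor_ee, c _ (h_r _), n, Units.val_inv_eq_inv_val]
  module

omit hz in
theorem dec (h : ∀ r, (∀ i, r ≠ B i ∧ r ≠ ng (B i)) → v (Sum.inr r) = 0) :
    ∃ z, Cn B z ∧ v = z + vv B fun i => trp (B i) v := by
  have k : ∀ i, trp (B i) (v - vv B fun i => trp (B i) v) = 0 := fun i => by
    have := vv_tr o (cn0 B) i fun i => trp (B i) v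
    rw [zero_add] at this
    rw [← trL_apply, map_sub, trL_apply, trL_apply, this, sub_self]
  refine ⟨v - vv B fun i => trp (B i) v, ⟨fun s => ?_, fun i => neg_eq_zero.1 (congrArg (·.1) (k i))⟩, by abel⟩
  by_cases e : ∀ i, s ≠ B i ∧ s ≠ ng (B i)
  · simp [h s e, vv_apply, Finset.sum_apply, sl_apply, vec, e_e, h_r, (e _).1, (e _).2]
  simp only [not_forall, not_and_or, not_not] at e
  obtain ⟨i, rfl | rfl⟩ := e
  exacts [congrArg (·.2.1) (k i), congrArg (·.2.2) (k i)]
end

variable {m : Γ3} {w : Equiv.Perm R8} (hm : (stS chevE8 K3).Acts m w)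
  (me : ∀ r, ∃ ε : K3, (ε = 1 ∨ ε = -1) ∧ rG m (ee r) = ε • ee (w r)) (mh : ∀ r, rG m (hh r) = hh (w r))
include hm me mh

theorem step (α : R8) : ∃ ε : K3, ε ^ 2 = 1 ∧ (∀ c, m * sig (gg α c) * m⁻¹ = gg (w α) fun i => ε * phi (c i)) ∧
    ∀ v, trp (w α) (rG m (Fr v)) = tw3 phi ε (trp α v) := by
  obtain ⟨hw, c, hc, e⟩ := hm
  choose ε hε he using me
  have wn : ∀ r, w (ng r) = ng (w r) := wng hw
  have e2 : ∀ r, ε r ^ 2 = 1 := fun r => by rcases hε r with k | k <;> simp [k]
  have key : ∀ r, c r = ε r ∧ ε (ng r) = ε r := fun r => by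
    have k := congrArg (fun g => rG (g * m) (ee (ng r))) (e r 1)
    simp only [inv_mul_cancel_right, rG_mul, he, wn] at k
    have a1 := (z0 r).x 1 (0, 0, 1)
    have a2 := (z0 (w r)).x (c r * 1) (0, 0, ε (ng r))
    simp only [vec, X, zero_smul, zero_add, one_smul, add_zero] at a1 a2
    rw [a1, a2] at k
    simp only [map_add, map_smul, he, mh, wn, smul_smul] at k
    have k' := congrArg (trp (w r)) k
    have b := (z0 (w r)).co
    simp only [vec, zero_add] at b
    have k1 := (b (_, _, _)).symm.trans (k'.trans (b (_, _, _)))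
    simp only [Prod.mk.injEq] at k1
    have : c r = ε (ng r) := by linear_combination -ε (ng r) * k1.1 - c r * e2 (ng r)
    have h1 : c r = ε r := by linear_combination k1.2.1 + c r * k1.1
    exact ⟨h1, this.symm.trans h1⟩
  have rt : ∀ (u : V3) r, rG m u (Sum.inr (w r)) = ε r * u (Sum.inr r) := fun u r => by
    conv_lhs => rw [eq_sum u]
    simp only [map_add, map_sum, map_smul, he, mh, Pi.add_apply, Finset.sum_apply, Pi.smul_apply, e_e, h_r,
      smul_eq_mul, mul_zero, sum_const_zero, add_zero, w.injective.eq_iff, mul_ite, mul_one, sum_ite_eq, mem_univ,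
      if_true]
    exact mul_comm _ _
  have lm : ∀ (u : V3) r, lam (w r) (rG m u) = lam r u := fun u r => by
    conv_lhs => rw [eq_sum u, ← lamL_apply]
    simp only [map_add, map_sum, map_smul, he, mh, lamL_apply, lam_ee, lam_hh, A_W hw, smul_eq_mul, mul_zero,
      sum_const_zero, zero_add]
    rfl
  refine ⟨ε α, e2 α, fun d => ?_, fun v => ?_⟩
  · have k1 := fun u => e α u
    have k2 := fun u => e (ng α) u
    simp only [(key _).1, (key _).2, wn] at k1 k2
    simp only [gg, map_mul, alg.fe, ← k1, ← k2]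
    group
  · simp only [trp, tw3, ← wn, rt, lm, lam_Fr, (key _).2, map_neg, phi_apply, Fr]

theorem core {B : Fin 4 → R8} (o : ∀ i j, i ≠ j → A (B i) (B j) = 0) (wB : ∀ i, w (B i) = B (i + 1))
    {M : Submodule K3 V3} (sup : ∀ v ∈ M, ∀ r, (∀ i, r ≠ B i ∧ r ≠ ng (B i)) → v (Sum.inr r) = 0)
    (hF : ∀ v ∈ M, rG m (Fr v) ∈ M) (hb : ∀ u ∈ M, ∀ v ∈ M, br u v ∈ M) : ∃ (γ : Γ3) (u : K3ˣ), u ^ 80 = 1 ∧
      m * sig γ * m⁻¹ = γ ∧ (∀ t, (∀ i, ch t (B i) = 1 ∧ ch t (ng (B i)) = 1) → Commute γ (tor8 t)) ∧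
      ∀ t, (∀ i, ch t (B (i + 1)) = ch t (B i) ^ 3) → ch t (B 0) = u →
        (∀ v ∈ M, rG (tor8 t * γ) v ∈ M) ∧ ∃ T, rG (tor8 t * γ) (vv B T) ≠ vv B T := by
  choose ε e2 eg et using fun i => step hm me mh (B i)
  simp only [wB] at eg et
  have ε0 : ∀ i, ε i ≠ 0 := fun i k => by simpa [k] using e2 i
  let Ψ : (Fin 4 → K3 × K3 × K3) →ₛₗ[phi] (Fin 4 → K3 × K3 × K3) :=
    { toFun := fun T i => tw3 phi (ε (i - 1)) (T (i - 1))
      map_add' := fun S T => funext fun i => by simp [tw3, mul_add]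
      map_smul' := fun k T => funext fun i => by simp [tw3, mul_left_comm] }
  have fix : ∀ N : Submodule K3 (Fin 4 → K3 × K3 × K3), N ≠ ⊥ → (∀ T ∈ N, Ψ T ∈ N) →
      ∃ T ∈ N, T ≠ 0 ∧ ∀ i, T (i + 1) = tw3 phi (ε i) (T i) := fun N h0 h => by
    have := Submodule.nontrivial_iff_ne_bot.2 h0
    obtain ⟨T, t0, e⟩ := CL.SpU.exists_fixed_of_semilinear (q := 3) (by norm_num) phi_apply
      ((Ψ.domRestrict N).codRestrict N fun T => h _ T.2) ((injective_iff_map_eq_zero _).2 fun T k => by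
        ext i : 2
        have := congrFun (congrArg Subtype.val k) (i + 1)
        simpa [Ψ, tw3, ε0, Prod.ext_iff] using this)
    refine ⟨T, T.2, by simpa using t0, fun i => ?_⟩
    simpa [Ψ] using (congrFun (congrArg Subtype.val e) (i + 1)).symm
  obtain ⟨S, S0, hS, hD⟩ : ∃ S : Fin 4 → K3 × K3 × K3, S ≠ 0 ∧ (∀ i, S (i + 1) = tw3 phi (ε i) (S i)) ∧
      ∀ v ∈ M, br (vv B S) v ∈ M := by
    by_cases h : M.map (LinearMap.pi fun i => trL (B i)) = ⊥
    · obtain ⟨S, -, S0, hS⟩ := fix ⊤ top_ne_bot fun _ _ => trivial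
      refine ⟨S, S0, hS, fun v hv => ?_⟩
      obtain ⟨z, hz, e⟩ := dec o (sup v hv)
      have : (fun i => trp (B i) v) = 0 := (funext fun i => (trL_apply _ _).symm).trans
        ((Submodule.eq_bot_iff _).1 h _ ⟨v, hv, rfl⟩)
      rw [this] at e
      rw [e, vv_br o hz, show (fun i => ad (S i) ((0 : Fin 4 → K3 × K3 × K3) i)) = 0 by
        funext i; simp [ad], map_zero]
      exact M.zero_mem
    · obtain ⟨_, ⟨x, hx, rfl⟩, S0, hS⟩ := fix _ h (by
        rintro _ ⟨x, hx, rfl⟩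
        refine ⟨_, hF x hx, funext fun i => ?_⟩
        simpa [Ψ, trL_apply] using et (i - 1) x)
      refine ⟨_, S0, hS, fun v hv => ?_⟩
      obtain ⟨z, hz, e⟩ := dec o (sup x hx)
      obtain ⟨z', hz', e'⟩ := dec o (sup v hv)
      have := hb x hx v hv
      rw [e, map_add, LinearMap.add_apply, show br z v = 0 by rw [e']; exact cn_br hz hz' _, zero_add] at this
      convert this using 4
      funext i; simp [trL_apply]
  obtain ⟨e, -, e0, he⟩ : ∃ e : Fin 4 → K3, True ∧ (∀ i, e i ≠ 0) ∧ ∀ i, e (i + 1) = ε i * phi (e i) := by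
    obtain ⟨T, hT, T0, h⟩ := fix (LinearMap.range (LinearMap.pi fun i => (LinearMap.inr K3 K3 _ ∘ₗ
      LinearMap.inl K3 K3 K3) ∘ₗ LinearMap.proj i)) (fun k => by
        simpa using congrFun ((Submodule.eq_bot_iff _).1 k _ ⟨fun _ => (1 : K3), rfl⟩) 0) (by
        rintro _ ⟨f, rfl⟩
        exact ⟨fun i => ε (i - 1) * phi (f (i - 1)), funext fun i => by simp [Ψ, tw3]⟩)
    obtain ⟨f, rfl⟩ := hT
    have h' : ∀ i, f (i + 1) = ε i * phi (f i) := fun i => by simpa [tw3] using h i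
    refine ⟨f, trivial, fun i k => T0 ?_, h'⟩
    have s : ∀ j, f j = 0 → f (j + 1) = 0 := fun j k => by simp [h', k]
    have : f = 0 := funext fun j => by
      have := s _ k; have := s _ this; have := s _ this
      fin_cases i <;> fin_cases j <;> assumption
    rw [this, map_zero]
  obtain ⟨κ, hκ, u0⟩ : ∃ κ : K3, phi κ = κ ∧ uu κ (S 0) ≠ 0 := by
    by_cases h : uu 0 (S 0) = 0
    · exact ⟨1, map_one _, fun k => one_ne_zero (α := K3) (by simp only [uu] at h k; linear_combination k - h)⟩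
    · exact ⟨0, map_zero _, h⟩
  have us : ∀ i, uu κ (S (i + 1)) = uu κ (S i) ^ 3 := fun i => by rw [hS, uu_tw (e2 i) hκ, phi_apply]
  have u1 : ∀ i, uu κ (S i) ^ 80 = 1 := by
    have a0 : uu κ (S 1) = _ := us 0
    have a1 : uu κ (S 2) = _ := us 1
    have a2 : uu κ (S 3) = _ := us 2
    have a3 : uu κ (S 0) = _ := us 3
    have b : uu κ (S 0) ^ 80 = 1 := mul_left_cancel₀ u0 (by rw [a2, a1, a0] at a3; linear_combination -a3)
    exact ind4 b fun i h => by rw [us, ← pow_mul, mul_comm, pow_mul, h, one_pow]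
  have un : ∀ i, uu κ (S i) ≠ 0 := fun i k => by simpa [k] using u1 i
  set g : Fin 4 → Γ3 := fun i => gg (B i) (cf κ (e i) (S i)) with hg
  have τg : ∀ i, m * sig (g i) * m⁻¹ = g (i + 1) := fun i => by
    simp only [hg, eg, he i, hS i, cf_tw (e2 i) hκ]
  refine ⟨g 0 * (g 1 * g 2 * g 3), Units.mk0 _ u0, Units.ext (by simpa using u1 0), ?_, fun t ht => ?_,
    fun t ht h0 => ?_⟩
  · have : ∀ a b, m * sig (a * b) * m⁻¹ = m * sig a * m⁻¹ * (m * sig b * m⁻¹) := fun a b => by rw [map_mul]; group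
    rw [this, this, this, τg, τg, τg, τg, ← mul_assoc, ← mul_assoc]
    exact (((cm (o 0 1 (by decide)) _ _).mul_right (cm (o 0 2 (by decide)) _ _)).mul_right
      (cm (o 0 3 (by decide)) _ _)).eq.symm
  · have k : ∀ i, Commute (g i) (tor8 t) := fun i =>
      (((tor_x t (ht i).1 _).mul_left (tor_x t (ht i).2 _)).mul_left (tor_x t (ht i).1 _)).mul_left (tor_x t (ht i).2 _)
    exact (k _).mul_left (((k _).mul_left (k _)).mul_left (k _))
  have ct : ∀ i, (ch t (B i) : K3) = uu κ (S i) :=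
    ind4 (by rw [h0]; rfl) fun i k => by rw [ht, us, ← k, Units.val_pow_eq_pow_val]
  have act : ∀ z, Cn B z → ∀ T, rG (tor8 t * (g 0 * (g 1 * g 2 * g 3))) (z + vv B T) =
      z + vv B T + vv B fun i => (uu κ (S i))⁻¹ • ad (S i) (κ • T i - ad (S i) (T i)) := fun z hz T => by
    simp only [rG_mul, hg, vv_g o hz, vv_t hz, ct]
    rw [add_assoc, ← map_add]
    refine congrArg (z + vv B ·) (funext fun i => ?_)
    rw [Pi.add_apply, ← form three0 (e0 i) (un i)]
    fin_cases i <;> simp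
  refine ⟨fun v hv => ?_, ?_⟩
  · obtain ⟨z, hz, ev⟩ := dec o (sup v hv)
    have it : ∀ (n : ℕ) (T : Fin 4 → K3 × K3 × K3), vv B (fun i => ad (S i) (T i)) ∈ M →
        vv B (fun i => uu κ (S i) ^ n • ad (S i) (T i)) ∈ M := fun n T h => by
      induction n with
      | zero => simpa using h
      | succ n ih =>
        have k := M.sub_mem (M.smul_mem (κ ^ 2) ih) (hD _ (hD _ ih))
        rw [vv_br0 o S, vv_br0 o S, ← map_smul, ← map_sub] at k
        convert k using 2
        funext i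
        rw [pow_succ, mul_smul, ← cube three0 κ (S i) (T i), smul_sub, smul_comm]
        simp only [Pi.sub_apply, Pi.smul_apply, ad_smul]
    generalize (fun i => trp (B i) v) = T at ev
    subst ev
    have k' := M.sub_mem (M.smul_mem κ (hD _ hv)) (hD _ (hD _ hv))
    rw [vv_br o hz S T, vv_br0 o S, ← map_smul, ← map_sub] at k'
    rw [act z hz]
    refine M.add_mem hv ?_
    have := it 79 (fun i => κ • T i - ad (S i) (T i)) (by
      convert k' using 2; funext i; simp only [Pi.sub_apply, Pi.smul_apply]; ext <;> simp [ad] <;> ring)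
    convert this using 4 with i
    exact (eq_inv_of_mul_eq_one_left (by rw [← pow_succ, u1])).symm
  · by_contra k
    push Not at k
    refine S0 (funext fun i => nontriv two κ fun T => ?_)
    have := (act 0 (cn0 B) fun _ => T)
    rw [zero_add, k, left_eq_add] at this
    have k2 := vv_tr o (cn0 B) i fun i => (uu κ (S i))⁻¹ • ad (S i) (κ • T - ad (S i) T)
    rw [this, add_zero, ← trL_apply, map_zero] at k2
    exact (smul_eq_zero.1 k2.symm).resolve_left (inv_ne_zero (un i))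

end CL.E81.Fix6
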