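/-
`E₈(3)`, `L₂(81)`: existence of the frames.
-/
import Cfsg.Agent.KSG.E81.Lie0
import Cfsg.Agent.KSG.E82.Frame

set_option autoImplicit false
set_option backward.isDefEq.respectTransparency false

namespace CL.E81
open Module Function Finset CL.SL2Wt CL.Chev CL.AltE Cfsg.Lie
open CL.E82 (R8 val ww)
open CL.E83 (K3 G3)
open Matrix hiding zpow_add zpow_mul zpow_sub one_zpow
open scoped MatrixGroups

namespace FrA
open _root_.CL.E82.Frame (uchr_act' ne_zero' fix_conj g1 g2)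

theorem rG_n (i : Fin 8) (v : V3) : rG ((stS chevE8 K3).n (sm i) 1) v =
    ((nG (sm i) (1 : K3ˣ) : GL chevE8.Idx K3) : Matrix chevE8.Idx chevE8.Idx K3) *ᵥ v := by
  rw [StData.n, map_mul, map_mul, End.mul_apply, End.mul_apply, rG_x, rG_x, rG_x, nG, Units.val_mul, Units.val_mul,
    ← mulVec_mulVec, ← mulVec_mulVec, xg_val, xg_val, rootSys_neg]
  simp

theorem nw_spec (l : List (Fin 8)) :
    (∀ r, ∃ ε : K3, (ε = 1 ∨ ε = -1) ∧
      rG ((stS chevE8 K3).nw l) (ee r) = ε • ee ((l.map (rootSys chevE8).sp).prod r)) ∧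
      ∀ r, rG ((stS chevE8 K3).nw l) (hh r) = hh ((l.map (rootSys chevE8).sp).prod r) := by
  induction l with
  | nil => exact ⟨fun r => ⟨1, .inl rfl, by simp [StData.nw_nil]⟩, by simp [StData.nw_nil]⟩
  | cons i l ih =>
    obtain ⟨h3, h4⟩ := ih
    rw [StData.nw_cons, List.map_cons, List.prod_cons]
    refine ⟨fun r => ?_, fun r => ?_⟩
    · obtain ⟨ε, e1, e2⟩ := h3 r
      rw [map_mul, End.mul_apply, e2, map_smul, rootSys_simple, rG_n, Equiv.Perm.mul_apply, rootSys_sp, nG_bas,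
        one_zpow, Units.val_one, mul_one, smul_smul]
      refine ⟨_, ?_, rfl⟩
      rcases Int.units_eq_one_or (eta (D := chevE8) (sm i) ((l.map (rootSys chevE8).sp).prod r)) with e | e <;>
        rcases e1 with rfl | rfl <;> simp [e]
    · rw [map_mul, End.mul_apply, h4, rootSys_simple, rG_n, Equiv.Perm.mul_apply, rootSys_sp, nG_hv]

theorem ch_act {w : Equiv.Perm R8} (hw : w ∈ (rootSys chevE8).W) (t : Fin 8 → K3ˣ) (r : R8) :
    ch ((rootSys chevE8).act w⁻¹ t) r = ch t (w r) := uchr_act' hw t r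

theorem ch_pow (t : Fin 8 → K3ˣ) (k : ℕ) (r : R8) : ch (t ^ k) r = ch t r ^ k := uchr_pow _ _ _

/-- a torus element is fixed by the twisted Frobenius when its root values are -/
theorem act_eq {w : Equiv.Perm R8} (hw : w ∈ (rootSys chevE8).W) {n : ℕ} {z : K3ˣ} (hz : orderOf z = n)
    {t : Fin 8 → K3ˣ} {f : R8 → ℤ} (ht : ∀ r, ch t r = z ^ f r) (hl : ∀ r, f (w r) ≡ 3 * f r [ZMOD n]) :
    (rootSys chevE8).act w⁻¹ t = t ^ 3 := ch_inj fun r => by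
  rw [ch_act hw, ch_pow, ht, ht, ← zpow_natCast, ← zpow_mul, zpow_eq_zpow_iff_modEq, hz, mul_comm]
  exact hl r

set_option maxRecDepth 20000 in
theorem exists_frm {n : ℕ} {z : K3ˣ} (hz : orderOf z = n) {c : Fin 8 → ℕ} {s : G3} (h : IsCls z c s)
    (l : List (Fin 8)) (hl : ∀ r, val c (piL (D := chevE8) l r) ≡ 3 * val c r [ZMOD n]) :
    ∃ y t, (stS chevE8 K3).nw l = y * (sig y)⁻¹ ∧ y * psi s * y⁻¹ = tor8 t ∧ ∀ r, ch t r = z ^ val c r := by
  obtain ⟨y0, t, e0, ht⟩ := h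
  have h1 := (stS chevE8 K3).acts_nw l
  obtain ⟨x, hx⟩ := alg.lang alg.gf ((stS chevE8 K3).nw l)
  have a1 : (rootSys chevE8).act (l.map (rootSys chevE8).sp).prod⁻¹ t = t ^ 3 :=
    act_eq h1.1 hz ht fun r => by rw [piL_eq]; exact hl r
  have a2 : sig (x⁻¹ * tor8 t * x) = x⁻¹ * tor8 t * x := fix_conj hx ((alg.twE_torHom_iff h1 t).2 a1)
  have a3 : sig (psi s) = psi s := (psi_range _).1 ⟨s, rfl⟩
  have a4 : (orderOf (psi s) : K3) ≠ 0 := ne_zero' alg e0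
  obtain ⟨u, hu, e⟩ := alg.exists_conj_fixed alg.gf a3 a2 a4 (g1 x e0)
  exact ⟨x * u, t, (g2 hx hu e).1, (g2 hx hu e).2, ht⟩

/-- cocharacters of the extra involutions -/
def AZ : Fin 6 → Fin 8 → ℤ := ![![0, 0, 1, 0, 1, 0, 0, 0], ![0, 1, 1, 0, 0, 0, 0, 0], ![0, 1, 0, 0, 0, 0, 0, 1], ![0, 0, 0, 1, 0, 1, 1, 1], ![1, 0, 0, 0, 1, 0, 0, 0], ![0, 1, 1, 0, 1, 0, 1, 0]]

theorem chkT : ∀ a r, val (CT a) (piL (D := chevE8) (LW a) r) ≡ 3 * val (CT a) r [ZMOD (40 : ℕ)] := by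
  decide +kernel

theorem chkZ : ∀ a r, val (BZ a) (piL (D := chevE8) (LW a) r) ≡ 3 * val (BZ a) r [ZMOD (2 : ℕ)] ∧
    AZ a ⬝ᵥ wtv r ≡ val (BZ a) r [ZMOD (2 : ℕ)] := by
  decide +kernel

theorem wW_eq (a : Fin 6) (r : R8) : wW a r = piL (D := chevE8) (LW a) r := piL_eq _ _

theorem ord_neg : orderOf (-1 : K3ˣ) = 2 := by
  refine orderOf_eq_prime (by simp) fun e => ?_
  have h : (-1 : K3) = 1 := by simpa using congrArg Units.val e
  have h3 := three0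
  exact one_ne_zero (α := K3) (by linear_combination h3 + h)

set_option maxRecDepth 20000 in
/-- all the data of a frame of case `a` (with `Acts`) -/
theorem exists_fz {ξ : K3ˣ} (hξ : orderOf ξ = 40) {a : Fin 6} {s : G3} (h : IsCls ξ (CT a) s) :
    ∃ (z : G3) (y m : Γ3) (t t' : Fin 8 → K3ˣ), (stS chevE8 K3).Acts m (wW a) ∧ m = y * (sig y)⁻¹ ∧
      y * psi s * y⁻¹ = tor8 t ∧ (∀ r, ∃ ε : K3, (ε = 1 ∨ ε = -1) ∧ rG m (ee r) = ε • ee (wW a r)) ∧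
      (∀ r, rG m (hh r) = hh (wW a r)) ∧ (∀ r, ch t r = ξ ^ val (CT a) r) ∧ y * psi z * y⁻¹ = tor8 t' ∧
      ∀ r, ch t' r = (-1) ^ val (BZ a) r := by
  obtain ⟨y, t, e1, e2, ht⟩ := exists_frm hξ h (LW a) (chkT a)
  have h1 := (stS chevE8 K3).acts_nw (LW a)
  obtain ⟨t', ht'⟩ : ∃ t', ∀ r, ch t' r = (-1) ^ val (BZ a) r := ⟨fun i => (-1) ^ AZ a i, fun r => by
    rw [ch, uchr_zpow_const, wt_eq_wtv, zpow_eq_zpow_iff_modEq, ord_neg]
    exact (chkZ a r).2⟩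
  have a1 := act_eq h1.1 ord_neg ht' fun r => by rw [piL_eq]; exact (chkZ a r).1
  obtain ⟨g, e⟩ := (psi_range _).2 (fix_conj e1 ((alg.twE_torHom_iff h1 t').2 a1))
  exact ⟨g, y, _, t, t', h1, e1, e2, (nw_spec _).1, (nw_spec _).2, ht, by
    rw [e, show ∀ x : Γ3, y * (y⁻¹ * x * y) * y⁻¹ = x from fun x => by group]; rfl, ht'⟩

end FrA

end CL.E81
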