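/-
`E₈(3)`, `L₂(81)`: frames.
-/
import Cfsg.Agent.KSG.E81.Lie2
import Cfsg.Agent.KSG.E81.FrA
import Cfsg.Agent.KSG.E82.Tw

set_option autoImplicit false
set_option backward.isDefEq.respectTransparency false

namespace CL.E81
open Module Function Finset CL.SL2Wt CL.Chev CL.AltE Cfsg.Lie
open CL.E82 (R8 val ww)
open CL.E83 (K3 G3)
open Matrix hiding zpow_add zpow_mul zpow_sub one_zpow
open scoped MatrixGroups

theorem nw_spec (l : List (Fin 8)) :
    (stS chevE8 K3).Acts ((stS chevE8 K3).nw l) (l.map (rootSys chevE8).sp).prod ∧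
      (∀ r, ∃ ε : K3, (ε = 1 ∨ ε = -1) ∧ rG ((stS chevE8 K3).nw l) (ee r) = ε • ee ((l.map (rootSys chevE8).sp).prod r)) ∧
      ∀ r, rG ((stS chevE8 K3).nw l) (hh r) = hh ((l.map (rootSys chevE8).sp).prod r) :=
  ⟨(stS chevE8 K3).acts_nw l, FrA.nw_spec l⟩

theorem exists_frm {n : ℕ} {z : K3ˣ} (hz : orderOf z = n) {c : Fin 8 → ℕ} {s : G3} (h : IsCls z c s)
    (l : List (Fin 8)) (hl : ∀ r, val c (piL (D := chevE8) l r) ≡ 3 * val c r [ZMOD n]) :
    ∃ y m t, Frm s y m (l.map (rootSys chevE8).sp).prod t ∧ ∀ r, ch t r = z ^ val c r := by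
  obtain ⟨y, t, e1, e2, ht⟩ := FrA.exists_frm hz h l hl
  exact ⟨y, _, t, ⟨(nw_spec l).1, e1, e2, (nw_spec l).2.1, (nw_spec l).2.2⟩, ht⟩

namespace FrX

/-- the inverse Cartan matrix -/
def CI : Fin 8 → Fin 8 → ℤ := ![![4, 5, 7, 10, 8, 6, 4, 2], ![5, 8, 10, 15, 12, 9, 6, 3], ![7, 10, 14, 20, 16, 12, 8, 4],
  ![10, 15, 20, 30, 24, 18, 12, 6], ![8, 12, 16, 24, 20, 15, 10, 5], ![6, 9, 12, 18, 15, 12, 8, 4],
  ![4, 6, 8, 12, 10, 8, 6, 3], ![2, 3, 4, 6, 5, 4, 3, 2]]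

theorem chk : ∀ (i : Fin 8) (r : R8), CI i ⬝ᵥ wtv r = co r i := by decide +kernel

theorem rG_mul (a b : Γ3) (v : V3) : rG (a * b) v = rG a (rG b v) := by rw [map_mul]; rfl

theorem rG_inv (a : Γ3) (v : V3) : rG a⁻¹ (rG a v) = v := by rw [← rG_mul, inv_mul_cancel, map_one]; rfl

theorem rG_inv' (a : Γ3) (v : V3) : rG a (rG a⁻¹ v) = v := by rw [← rG_mul, mul_inv_cancel, map_one]; rfl

theorem ee_inr (r s : R8) : ee r (Sum.inr s) = if s = r then 1 else 0 := by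
  simp only [ee, bas_inr, Fin.val_inj]

theorem hh_inr (r s : R8) : hh r (Sum.inr s) = 0 := rfl

theorem ee_inl (r : R8) (i : Fin 8) : ee r (Sum.inl i) = 0 := bas_inl_of_lt r.2 i

theorem lamL_apply (r : R8) (v : V3) : lamL r v = lam r v := by
  simp only [lamL, lam, LinearMap.sum_apply, LinearMap.smul_apply, pr_apply, smul_eq_mul, mul_comm]

theorem lam_ee (r s : R8) : lam r (ee s) = 0 := by simp only [lam, ee_inl, zero_mul, sum_const_zero]

theorem lam_hh (r s : R8) : lam r (hh s) = (A s r : K3) := by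
  rw [A_eq_sum]
  push_cast
  rfl

theorem lam_Fr (r : R8) (v : V3) : lam r (Fr v) = lam r v ^ 3 := by
  simp only [lam, Fr, ← phi_apply, map_sum, map_mul, map_intCast]

theorem x_comm {r s : R8} (h : 0 ≤ A r s) (c d : K3) : XG r c * XG s d = XG s d * XG r c :=
  have k := (E82.Tw.long r).noComb (s := s) (by rwa [rootSys_pair])
  (stS chevE8 K3).commute_of_not_isComb k.1 k.2 c d

theorem tor_x (t : Fin 8 → K3ˣ) {r : R8} (h : ch t r = 1) (c : K3) : Commute (XG r c) (tor8 t) := by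
  have := alg.r3.torHom_conj' alg.good t r c
  rw [show uchr t ((rootSys chevE8).wt r) = 1 from h, Units.val_one, one_mul, mul_inv_eq_iff_eq_mul] at this
  exact this.symm

theorem tor_cartan (t : Fin 8 → K3ˣ) {v : V3} (h : ∀ r, v (Sum.inr r) = 0) : rG (tor8 t) v = v := by
  funext i
  rw [tor_apply]
  rcases i with i | i
  · exact one_mul _
  · rw [h, mul_zero]

theorem tor_comm (t t' : Fin 8 → K3ˣ) : Commute (tor8 t) (tor8 t') := by
  rw [commute_iff_eq, ← map_mul, ← map_mul, mul_comm]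

end FrX

open FrX hiding rG_mul

/-- every vector of root values is realised (the Cartan matrix is unimodular) -/
theorem exists_tor (z : K3ˣ) (d : Fin 8 → ℕ) : ∃ t : Fin 8 → K3ˣ, ∀ r, ch t r = z ^ val d r :=
  ⟨fun j => z ^ (∑ i : Fin 8, (d i : ℤ) • CI i) j, fun r => by
    rw [ch, uchr_zpow_const, wt_eq_wtv, sum_dotProduct]
    simp only [smul_dotProduct, chk, smul_eq_mul, E82.val, mul_comm]⟩

theorem rG_mul (a b : Γ3) (v : V3) : rG (a * b) v = rG a (rG b v) := FrX.rG_mul a b v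

theorem rG_inj (a : Γ3) : Injective (rG a) := fun u v h => by rw [← rG_inv a u, h, rG_inv]

theorem wW_eq (a : Fin 6) (r : R8) : wW a r = piL (D := chevE8) (LW a) r := FrA.wW_eq a r

theorem wW_chk (a : Fin 6) (r : R8) : val (CT a) (wW a r) ≡ 3 * val (CT a) r [ZMOD 40] ∧
    val (BZ a) (wW a r) ≡ val (BZ a) r [ZMOD 2] := by
  rw [wW_eq]
  refine ⟨FrA.chkT a r, ?_⟩
  have := (FrA.chkZ a r).1
  unfold Int.ModEq at this ⊢
  omega

theorem conj_apply {y γ : Γ3} {g : G3} (h : y * psi g * y⁻¹ = γ) (v : V3) : rG y (rho g v) = rG γ (rG y v) := by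
  rw [rho_apply, ← rG_mul, ← rG_mul, ← h, inv_mul_cancel_right]

section
variable {s : G3} {y m : Γ3} {w : Equiv.Perm R8} {t : Fin 8 → K3ˣ} (Φ : Frm s y m w t)
include Φ

theorem Frm.exists_g {γ : Γ3} (h : m * sig γ * m⁻¹ = γ) : ∃ g : G3, y * psi g * y⁻¹ = γ := by
  obtain ⟨g, e⟩ := (psi_range (y⁻¹ * γ * y)).2 ((twE_conj_iff Φ.lang _).1 (by
    rw [show y * (y⁻¹ * γ * y) * y⁻¹ = γ by group]; exact h))
  exact ⟨g, by rw [e]; group⟩

theorem Frm.exists_t {t' : Fin 8 → K3ˣ} (h : ∀ r, ch t' (w r) = ch t' r ^ 3) : ∃ g : G3, y * psi g * y⁻¹ = tor8 t' := by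
  have e : (rootSys chevE8).act w⁻¹ t' = t' ^ 3 := ch_inj fun r => by rw [FrA.ch_act Φ.acts.1, FrA.ch_pow, h]
  have k := (alg.twE_torHom_iff Φ.acts t').2 (by rw [e])
  rw [twE_apply] at k
  exact Φ.exists_g k

theorem Frm.fr (v : V3) : rG y (Fr v) = rG m (Fr (rG y v)) := by
  rw [Fr_map, ← rG_mul, Φ.lang, inv_mul_cancel_right]

theorem Frm.m_root (r : R8) :
    ∃ ε : K3, (ε = 1 ∨ ε = -1) ∧ rG m (ee r) = ε • ee (w r) ∧
      ∀ u : V3, rG m u (Sum.inr (w r)) = ε * u (Sum.inr r) := by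
  choose ε h1 h2 using Φ.me
  refine ⟨ε r, h1 r, h2 r, fun u => ?_⟩
  conv_lhs => rw [eq_sum u]
  simp only [map_add, map_sum, map_smul, h2, Φ.mh, Pi.add_apply, Finset.sum_apply, Pi.smul_apply, ee_inr, hh_inr,
    smul_eq_mul, mul_zero, sum_const_zero, add_zero, w.injective.eq_iff, mul_ite, mul_one, sum_ite_eq, mem_univ,
    if_true]
  exact mul_comm _ _

theorem Frm.m_lam (r : R8) (u : V3) : lam (w r) (rG m u) = lam r u := by
  choose ε h1 h2 using Φ.me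
  conv_lhs => rw [eq_sum u, ← lamL_apply]
  simp only [map_add, map_sum, map_smul, h2, Φ.mh, lamL_apply, lam_ee, lam_hh, E82.Tw.A_W Φ.acts.1, smul_eq_mul,
    mul_zero, sum_const_zero, zero_add]
  rfl

theorem Frm.fr_root (r : R8) : ∃ ε : K3, (ε = 1 ∨ ε = -1) ∧
    ∀ v, rG y (Fr v) (Sum.inr (w r)) = ε * rG y v (Sum.inr r) ^ 3 := by
  obtain ⟨ε, h1, -, h2⟩ := Φ.m_root r
  exact ⟨ε, h1, fun v => by rw [Φ.fr, h2]; rfl⟩

theorem Frm.fr_lam (v : V3) (r : R8) : lam (w r) (rG y (Fr v)) = lam r (rG y v) ^ 3 := by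
  rw [Φ.fr, Φ.m_lam, lam_Fr]

theorem Frm.eig_iff (c : K3) (v : V3) : rho s v = c • v ↔
    (∀ r, (ch t r : K3) ≠ c → rG y v (Sum.inr r) = 0) ∧ (c ≠ 1 → ∀ i, rG y v (Sum.inl i) = 0) := by
  have e := conj_apply Φ.conj v
  refine ⟨fun h => ⟨fun r hr => ?_, fun hc i => ?_⟩, fun h => rG_inj y ?_⟩
  · have := congrFun e (Sum.inr r)
    rw [h, map_smul, tor_apply, Sum.elim_inr, Pi.smul_apply, smul_eq_mul] at this
    by_contra k
    exact hr (mul_right_cancel₀ k this).symm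
  · have := congrFun e (Sum.inl i)
    rw [h, map_smul, tor_apply, Sum.elim_inl, Pi.smul_apply, smul_eq_mul] at this
    by_contra k
    exact hc (mul_right_cancel₀ k this)
  · rw [e, map_smul]
    funext i
    rw [tor_apply, Pi.smul_apply, smul_eq_mul]
    rcases i with i | i
    · by_cases k : c = 1
      · rw [k]; rfl
      · rw [h.2 k i, mul_zero, mul_zero]
    · by_cases k : (ch t i : K3) = c
      · rw [Sum.elim_inr, k]
      · rw [h.1 i k, mul_zero, mul_zero]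

/-- an element commuting with the torus element commutes with `s` -/
theorem Frm.comm {γ : Γ3} {g : G3} (e : y * psi g * y⁻¹ = γ) (hc : Commute γ (tor8 t)) : Commute g s :=
  psi_inj ((MulAut.conj y).injective (by
    simp only [map_mul, MulAut.conj_apply, e, Φ.conj]
    exact hc))

end

theorem exists_fz {ξ : K3ˣ} (hξ : orderOf ξ = 40) {a : Fin 6} {s : G3} (h : IsCls ξ (CT a) s) :
    ∃ z y m t t', Fz ξ a s z y m t t' := by
  obtain ⟨z, y, m, t, t', h1, h2, h3, h4, h5, h6, h7, h8⟩ := FrA.exists_fz hξ h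
  exact ⟨z, y, m, t, t', hξ, ⟨h1, h2, h3, h4, h5⟩, h6, h7, h8⟩

variable {ξ : K3ˣ} {a : Fin 6} {s z : G3} {y m : Γ3} {t t' : Fin 8 → K3ˣ} (Φ : Fz ξ a s z y m t t')
include Φ

theorem Fz.mem_es (k : ℕ) (v : V3) : v ∈ Es s ξ k ↔
    (∀ r, ¬ val (CT a) r ≡ k [ZMOD 40] → rG y v (Sum.inr r) = 0) ∧
      (¬ k ≡ 0 [MOD 40] → ∀ i, rG y v (Sum.inl i) = 0) := by
  have e1 : ∀ r, (ch t r : K3) = (ξ : K3) ^ k ↔ val (CT a) r ≡ k [ZMOD 40] := fun r => by
    rw [Φ.ht, ← Units.val_pow_eq_pow_val, Units.val_inj, ← zpow_natCast, zpow_eq_zpow_iff_modEq, Φ.ord]; rfl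
  have e2 : (ξ : K3) ^ k = 1 ↔ k ≡ 0 [MOD 40] := by
    rw [← Units.val_pow_eq_pow_val, Units.val_eq_one, pow_eq_one_iff_modEq, Φ.ord]
  rw [End.mem_eigenspace_iff, Φ.frm.eig_iff]
  simp only [ne_eq, e1, e2]

theorem Fz.z_root (v : V3) (r : R8) :
    rG y (rho z v) (Sum.inr r) = (if Even (val (BZ a) r) then 1 else -1) * rG y v (Sum.inr r) := by
  rw [conj_apply Φ.hz, tor_apply, Sum.elim_inr, Φ.ht']
  split_ifs with h
  · rw [h.neg_one_zpow, Units.val_one]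
  · rw [(Int.not_even_iff_odd.1 h).neg_one_zpow, Units.val_neg, Units.val_one]

theorem Fz.z_cartan (v : V3) (i : Fin 8) : rG y (rho z v) (Sum.inl i) = rG y v (Sum.inl i) := by
  rw [conj_apply Φ.hz, tor_apply, Sum.elim_inl, one_mul]

theorem Fz.fr_es {k : ℕ} {v : V3} (hv : v ∈ Es s ξ k) : Fr v ∈ Es s ξ (3 * k) := by
  have _ := Φ.ord
  rw [End.mem_eigenspace_iff] at hv ⊢
  rw [← Fr_rho, hv, Fr_smul, ← pow_mul, mul_comm]

end CL.E81
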