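/-
`E₈(3)`, `L₂(81)`: an element of order 80 in the centraliser of type `A₁⁴T₄`.
-/
import Cfsg.Agent.KSG.E81.Frame

set_option autoImplicit false
set_option backward.isDefEq.respectTransparency false

namespace CL.E81
open Module Function Finset CL.SL2Wt CL.Chev CL.AltE Cfsg.Lie
open CL.E82 (R8 val ww)
open CL.E83 (K3 G3)
open Matrix hiding zpow_add zpow_mul zpow_sub one_zpow
open scoped MatrixGroups

namespace Ord80

/-- the Kac vector -/
def dd : Fin 8 → ℕ := ![5, 0, 0, 1, 0, 2, 0, 41]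

theorem chk : ∀ r : R8, val dd (piL (D := chevE8) (LW 5) r) ≡ 3 * val dd r [ZMOD 80] ∧
    (val (CT 5) r ≡ (0 : ℕ) [ZMOD 40] → val dd r ≡ 0 [ZMOD 80]) := by
  decide +kernel

theorem one : CL.E82.val dd (sm (D := chevE8) (3 : Fin 8)) = 1 := by decide +kernel

theorem u1 {κ C : Type*} [Fintype κ] [CommGroup C] (x : κ → ℤ) : uchr (1 : κ → C) x = 1 := by simp [uchr]

theorem up' {κ C : Type*} [Fintype κ] [CommGroup C] (t : κ → C) (n : ℕ) (x : κ → ℤ) :
    uchr (t ^ n) x = uchr t x ^ n := by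
  simp only [uchr, Pi.pow_apply]
  rw [← Finset.prod_pow]
  exact Finset.prod_congr rfl fun i _ => by rw [← zpow_natCast, ← zpow_natCast, ← zpow_mul, ← zpow_mul, mul_comm]

theorem exζ : ∃ ζ : K3ˣ, orderOf ζ = 80 := by
  have : NeZero ((80 : ℕ) : K3) := ⟨by
    have := three0
    intro h
    have e : (1 : K3) = 0 := by
      push_cast at h
      linear_combination 27 * this - h
    exact one_ne_zero e⟩
  obtain ⟨ζ, hζ⟩ := HasEnoughRootsOfUnity.exists_primitiveRoot K3 80
  refine ⟨(hζ.isUnit (by norm_num)).unit, ?_⟩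
  rw [← orderOf_units, IsUnit.unit_spec, ← hζ.eq_orderOf]

variable {ξ : K3ˣ} {a : Fin 6} {s z : G3} {y m : Γ3} {t t' : Fin 8 → K3ˣ} (Φ : Fz ξ a s z y m t t')
include Φ

theorem ord80 (ha : a = 5) : ∃ g : G3, orderOf g = 80 ∧ Commute g s ∧ ∀ v ∈ Es s ξ 0, rho g v = v := by
  subst ha
  obtain ⟨ζ, hζ⟩ := exζ
  obtain ⟨u, hu⟩ := exists_tor ζ dd
  have cg : ∀ {p q : ℤ}, p ≡ q [ZMOD 80] → ζ ^ p = ζ ^ q := fun h => by
    rw [zpow_eq_zpow_iff_modEq, hζ]; exact h
  obtain ⟨g, hg⟩ := Φ.frm.exists_t (t' := u) fun r => by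
    rw [hu, hu, wW_eq, cg (chk r).1, mul_comm, zpow_mul]
    rfl
  have hp : ∀ n : ℕ, g ^ n = 1 ↔ u ^ n = 1 := fun n => by
    have e : y * psi (g ^ n) * y⁻¹ = tor8 (u ^ n) := by rw [map_pow, map_pow, ← hg, conj_pow]
    refine ⟨fun h => ch_inj fun r => ?_, fun h => psi_inj ?_⟩
    · rw [h, map_one, mul_one, mul_inv_cancel] at e
      have := tor_ee (u ^ n) r
      rw [← e, map_one, End.one_apply] at this
      have h2 := congrFun this (Sum.inr r)
      simp only [Pi.smul_apply, bas_inr, if_true, smul_eq_mul, mul_one] at h2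
      rw [show ch 1 r = 1 from u1 _]
      exact Units.ext h2.symm
    · rw [h, map_one, mul_inv_eq_one, mul_eq_left] at e
      rw [e, map_one]
  have hc : ∀ (n : ℕ) r, ch (u ^ n) r = ch u r ^ n := fun n r => up' _ _ _
  refine ⟨g, ?_, ?_, fun v hv => ?_⟩
  · rw [← hζ, orderOf_eq_orderOf_iff]
    intro n
    rw [hp]
    refine ⟨fun h => ?_, fun h => ch_inj fun r => ?_⟩
    · have := hc n (sm (D := chevE8) (3 : Fin 8))
      rw [h, hu, one, zpow_one] at this
      rw [← this]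
      exact u1 _
    · rw [hc, hu, ← zpow_natCast, ← zpow_mul, mul_comm, zpow_mul, zpow_natCast, h, one_zpow]
      exact (u1 _).symm
  · refine psi_inj ?_
    have := (Commute.all u t).map tor8
    rw [← hg, ← Φ.frm.conj] at this
    have e := this.eq
    rw [conj_mul, conj_mul, mul_left_inj, mul_right_inj] at e
    rw [map_mul, map_mul, e]
  · refine rG_inj y ?_
    rw [conj_apply hg]
    funext i
    rw [tor_apply]
    rcases i with i | r
    · exact one_mul _
    · by_cases h : val (CT 5) r ≡ (0 : ℕ) [ZMOD 40]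
      · rw [Sum.elim_inr, hu, cg ((chk r).2 h), zpow_zero, Units.val_one, one_mul]
      · rw [((Φ.mem_es 0 v).1 hv).1 r h, mul_zero]

end Ord80

end CL.E81
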