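/-
`E₈(3)`, `L₂(81)`: the centraliser of type `A₁⁴T₄`.
-/
import Cfsg.Agent.KSG.E81.Ord80
import Cfsg.Agent.KSG.E81.Fix62

set_option autoImplicit false
set_option backward.isDefEq.respectTransparency false

namespace CL.E81
open Module Function Finset CL.SL2Wt CL.Chev CL.AltE Cfsg.Lie
open CL.E82 (R8 val ww)
open CL.E83 (K3 G3)
open Matrix hiding zpow_add zpow_mul zpow_sub one_zpow
open scoped MatrixGroups

namespace Fix6
/-- the four simple roots -/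
def B4 (i : Fin 4) : R8 := sm (D := chevE8) ((![1, 2, 6, 4] : Fin 4 → Fin 8) i)
/-- the diagonal automorphisms -/
def d6 : Fin 8 → ℕ := ![16, 1, 3, 20, 27, 13, 9, 51]
theorem c1 : ∀ i j, i ≠ j → A (B4 i) (B4 j) = 0 := by decide +kernel
theorem c2 : ∀ i, piL (D := chevE8) (LW 5) (B4 i) = B4 (i + 1) := by decide +kernel
theorem c4 : ∀ r, val (CT 5) r ≡ (0 : ℕ) [ZMOD 40] ↔ ¬ ∀ i, r ≠ B4 i ∧ r ≠ ng (B4 i) := by decide +kernel
theorem c5 : val d6 (B4 0) = 1 ∧ ∀ r, val d6 (piL (D := chevE8) (LW 5) r) ≡ val d6 r * 3 [ZMOD 80] := by decide +kernel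
end Fix6
open Fix6

variable {ξ : K3ˣ} {a : Fin 6} {s z : G3} {y m : Γ3} {t t' : Fin 8 → K3ˣ} (Φ : Fz ξ a s z y m t t')
include Φ

theorem Fz.ord80 (ha : a = 5) : ∃ g : G3, orderOf g = 80 ∧ Commute g s ∧ ∀ v ∈ Es s ξ 0, rho g v = v :=
  Ord80.ord80 Φ ha

/-- `κ + x ∈ GL₂(81)` for a rational `x` with `ad x` stabilising `M` acts as a polynomial in `ad x`. -/
theorem Fz.fix6 (ha : a = 5) (M : Submodule K3 V3) (hM : M ≤ Es s ξ 0) (hF : ∀ v ∈ M, Fr v ∈ M)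
    (hb : ∀ u ∈ M, ∀ v ∈ M, br u v ∈ M) :
    ∃ g : G3, Commute g s ∧ (∀ v ∈ M, rho g v ∈ M) ∧ ∃ v ∈ Es s ξ 0, rho g v ≠ v := by
  subst ha
  have wB : ∀ i, wW 5 (B4 i) = B4 (i + 1) := fun i => (wW_eq _ _).trans (c2 i)
  obtain ⟨γ, u, hu, h1, h2, h3⟩ := core Φ.frm.acts Φ.frm.me Φ.frm.mh c1 wB (M := M.map (rG y))
    (by rintro _ ⟨v, hv, rfl⟩ r hr; exact ((Φ.mem_es 0 v).1 (hM hv)).1 r fun k => (c4 r).1 k hr)
    (by rintro _ ⟨v, hv, rfl⟩; exact ⟨_, hF v hv, Φ.frm.fr v⟩)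
    (by rintro _ ⟨p, hp, rfl⟩ _ ⟨q, hq, rfl⟩; rw [← br_map]; exact Submodule.mem_map_of_mem (hb p hp q hq))
  obtain ⟨τ, hτ⟩ := exists_tor u d6
  have hw : ∀ r, ch τ (wW 5 r) = ch τ r ^ 3 := fun r => by
    obtain ⟨k, e⟩ := (c5.2 r).symm.dvd
    rw [hτ, hτ, wW_eq, ← zpow_natCast, ← zpow_mul, eq_add_of_sub_eq' e, zpow_add, zpow_mul u 80,
      show u ^ (80 : ℤ) = 1 from (zpow_natCast u 80).trans hu, one_zpow, mul_one]
    rfl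
  obtain ⟨k1, T, k2⟩ := h3 τ (fun i => by rw [← wB, hw]) (by rw [hτ, c5.1, zpow_one])
  obtain ⟨g, e⟩ := Φ.frm.exists_g h1
  obtain ⟨g', e'⟩ := Φ.frm.exists_t hw
  have E : y * psi (g' * g) * y⁻¹ = tor8 τ * γ := by rw [← e, ← e', map_mul]; group
  have t1 : ∀ r, (¬ ∀ i, r ≠ B4 i ∧ r ≠ ng (B4 i)) → ch t r = 1 := fun r h => by
    rw [Φ.ht, ← zpow_zero ξ, zpow_eq_zpow_iff_modEq, Φ.ord]; exact (c4 r).2 h
  have iv : ∀ v, rG y (rG y⁻¹ v) = v := fun v => by simpa only [inv_inv] using rG_inv y⁻¹ v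
  refine ⟨g' * g, Φ.frm.comm E (Commute.mul_left ((Commute.all _ _).map tor8)
    (h2 t fun i => ⟨t1 _ fun k => (k i).1 rfl, t1 _ fun k => (k i).2 rfl⟩)), fun v hv => ?_,
    rG y⁻¹ (vv B4 T), (Φ.mem_es 0 _).2 ⟨fun r hr => ?_, fun h => (h rfl).elim⟩, fun k => k2 ?_⟩
  · obtain ⟨v', hv', k⟩ := k1 _ ⟨v, hv, rfl⟩
    rwa [← Fix6.rG_inj y (k.trans (conj_apply E v).symm)]
  · have := not_not.1 (mt (c4 r).2 hr)
    simp [iv, vv_apply, Finset.sum_apply, sl_apply, Fix6.vec, e_e, h_r, (this _).1, (this _).2]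
  · have := conj_apply E (rG y⁻¹ (vv B4 T))
    rw [k, iv] at this
    exact this.symm

end CL.E81
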