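/-
`E₈(3)`, `L₂(81)`: the invariant form.
-/
import Cfsg.Agent.KSG.E81.Lie1
import Cfsg.Agent.KSG.E82.Form

set_option autoImplicit false
set_option backward.isDefEq.respectTransparency false

namespace CL.E81
open Module Function Finset CL.SL2Wt CL.Chev CL.AltE Cfsg.Lie
open CL.E82 (R8 val ww)
open CL.E83 (K3 G3)
open Matrix hiding zpow_add zpow_mul zpow_sub one_zpow
open scoped MatrixGroups

namespace FormX
open CL.E82.FormX (As cinv)
open CL.E82.L1 (of_add A_add)

theorem tab : ∀ r s : Fin 240, (Good.C chevE8).add r s < 240 →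
    (Good.C chevE8).M1 r s = -(Good.C chevE8).M1 r (239 - (Good.C chevE8).add r s) := by
  decide +kernel

theorem M1_cyc {r s t : R8} (c : co (ng t) = co r + co s) :
    (Good.C chevE8).M1 r s = -(Good.C chevE8).M1 r t := by
  have a1 := add_eq_of_co c
  have h2 : ((ng t : R8) : ℕ) = 240 - 1 - t := ng_val' t
  have h3 : (t : ℕ) < 240 := t.2
  have := tab r s (by rw [a1]; exact (ng t).2)
  rw [a1] at this
  rw [this, h2]
  congr 2
  omega

theorem lamL_apply (r : R8) (v : V3) :
    lamL r v = ∑ i : Fin 8, (A (sm (D := chevE8) i) r : K3) * v (Sum.inl i) := by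
  simp [lamL, pr_apply]

theorem kap_apply (u v : V3) : kap u v = ∑ r : R8, u (Sum.inr r) * v (Sum.inr (ng r)) +
    ∑ i : Fin 8, u (Sum.inl i) * lamL (sm i) v := by
  simp [kap, pr_apply]

theorem symm (u v : V3) : kap u v = kap v u := by
  rw [kap_apply, kap_apply]
  refine congrArg₂ (· + ·) ?_ ?_
  · exact Fintype.sum_equiv Fin.revPerm _ _ fun r => by
      change _ = v (Sum.inr (ng r)) * u (Sum.inr (ng (ng r)))
      rw [ng_ng, mul_comm]
  · simp only [lamL_apply, Finset.mul_sum]
    rw [Finset.sum_comm]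
    exact Finset.sum_congr rfl fun i _ => Finset.sum_congr rfl fun j _ => by
      rw [As (sm j) (sm i)]; ring

theorem ee_inr (r s : R8) : ee r (Sum.inr s) = if s = r then 1 else 0 := by
  simp [bas_inr, Fin.val_inj]

theorem ee_inl (r : R8) (i : Fin 8) : ee r (Sum.inl i) = 0 := bas_inl_of_lt r.2 i

theorem kap_ee (r : R8) (v : V3) : kap (ee r) v = v (Sum.inr (ng r)) := by
  simp [kap_apply, ee_inr, ee_inl]

theorem kap_hh (r : R8) (v : V3) : kap (hh r) v = lamL r v := by
  have e1 : ∀ s : R8, hh r (Sum.inr s) = 0 := fun _ => rfl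
  have e2 : ∀ i : Fin 8, hh r (Sum.inl i) = (cor r i : K3) := fun _ => rfl
  simp only [kap_apply, e1, e2, zero_mul, Finset.sum_const_zero, zero_add, lamL_apply, Finset.mul_sum]
  rw [Finset.sum_comm]
  refine Finset.sum_congr rfl fun j _ => ?_
  rw [As (sm j) r, A_eq_sum r]
  push_cast
  rw [Finset.sum_mul]
  exact Finset.sum_congr rfl fun i _ => by rw [As (sm j) (sm i)]; ring

theorem lam_ee (r s : R8) : lamL r (ee s) = 0 := by simp [lamL_apply, ee_inl]

theorem lam_hh (r s : R8) : lamL r (hh s) = (A s r : K3) := by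
  have e2 : ∀ i : Fin 8, hh s (Sum.inl i) = (cor s i : K3) := fun _ => rfl
  rw [lamL_apply, A_eq_sum s]
  push_cast
  exact Finset.sum_congr rfl fun i _ => by rw [e2, mul_comm]

theorem ext {W : Type} [AddCommGroup W] [Module K3 W] {f g : V3 →ₗ[K3] W} (h1 : ∀ r, f (ee r) = g (ee r))
    (h2 : ∀ r, f (hh r) = g (hh r)) : f = g := LinearMap.ext fun v => by
  rw [eq_sum v]
  simp only [map_add, map_sum, map_smul, h1, h2]

theorem x_add {r s u : R8} (h : co u = co r + co s) (t : K3) :
    rG (XG r t) (ee s) = ee s + (((Good.C chevE8).M1 r s : K3) * t) • ee u := by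
  obtain ⟨e, h1, h2⟩ := of_add h
  have a1 := add_eq_of_co h
  have a2 : ¬ (Good.C chevE8).add r u < chevE8.nroots := fun k => by
    obtain ⟨k, hk⟩ := (add_lt_iff r u).1 k
    have := (of_add hk).1
    rw [A_add h, A_self, e] at this
    omega
  rw [rG_x, xR_bas_other r s h1 h2, a1, if_pos u.2, if_neg a2, add_zero]

theorem br_add {r s u : R8} (h : co u = co r + co s) :
    br (ee r) (ee s) = ((Good.C chevE8).M1 r s : K3) • ee u := by
  rw [br_ee, adE, LinearMap.sub_apply, x_add h, x_add h, add_sub_add_left_eq_sub, ← sub_smul]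
  congr 1
  linear_combination (-((Good.C chevE8).M1 r s : K3)) * three0

theorem br_ee_hh (r s : R8) : br (ee r) (hh s) = (-(A s r : K3)) • ee r := by
  rw [br_anti, br_hh_ee, neg_smul]

theorem z3 {r s t : R8} (h : co (ng t) ≠ co r + co s) : br (ee r) (ee s) (Sum.inr (ng t)) = 0 := by
  rcases root_cases r s with rfl | ⟨u, e, -⟩ | e
  · rw [br_ee_ng]; rfl
  · rw [br_add e, Pi.smul_apply, ee_inr, if_neg fun c : ng t = u => h (by rw [c, e]), smul_zero]
  · rw [br_ee_zero e]; rfl

theorem eh (r s t : R8) : kap (br (ee r) (ee s)) (hh t) = -kap (ee s) (br (ee r) (hh t)) := by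
  rw [symm, kap_hh, kap_ee, br_ee_hh, Pi.smul_apply, ee_inr]
  by_cases c : s = ng r
  · rw [c, br_ee_ng, lam_hh, ng_ng, if_pos rfl, As r t, smul_eq_mul, mul_one, neg_neg]
  · rw [if_neg fun e => c (by rw [← e, ng_ng]), smul_zero, neg_zero]
    rcases root_cases r s with e | ⟨u, e, -⟩ | e
    · exact absurd e c
    · rw [br_add e, map_smul, lam_ee, smul_zero]
    · rw [br_ee_zero e, map_zero]

/-- `ad e_r` is skew for the form. -/
theorem adj (r : R8) (u v : V3) : kap (br (ee r) u) v = -kap u (br (ee r) v) := by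
  have : kap ∘ₗ br (ee r) = -kap.compl₂ (br (ee r)) := by
    refine ext (fun s => ext (fun t => ?_) fun t => eh r s t) fun s => ext (fun t => ?_) fun t => ?_
    · change kap (br (ee r) (ee s)) (ee t) = -kap (ee s) (br (ee r) (ee t))
      rw [symm, kap_ee, kap_ee]
      by_cases c : co (ng t) = co r + co s
      · have c' : co (ng s) = co r + co t := by
          rw [co_ng] at c ⊢
          linear_combination c
        rw [br_add c, br_add c', Pi.smul_apply, Pi.smul_apply, ee_inr, ee_inr, if_pos rfl, if_pos rfl, M1_cyc c]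
        push_cast
        rw [neg_smul]
      · rw [z3 c, z3 fun c' => c (by
          rw [co_ng] at c' ⊢
          linear_combination c'), neg_zero]
    · change kap (br (ee r) (hh s)) (ee t) = -kap (hh s) (br (ee r) (ee t))
      rw [symm (hh s), eh, neg_neg, symm]
    · change kap (br (ee r) (hh s)) (hh t) = -kap (hh s) (br (ee r) (hh t))
      rw [br_ee_hh, br_ee_hh, map_smul, map_smul, LinearMap.smul_apply, kap_ee, kap_hh, lam_ee, smul_zero, neg_zero]
      exact smul_zero _
  exact LinearMap.congr_fun₂ this u v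

theorem sq (r : R8) (v : V3) : br (ee r) (br (ee r) v) = v (Sum.inr (ng r)) • ee r := by
  have : br (ee r) ∘ₗ br (ee r) = (pr (Sum.inr (ng r))).smulRight (ee r) := by
    refine ext (fun s => ?_) fun s => ?_
    · change br (ee r) (br (ee r) (ee s)) = ee s (Sum.inr (ng r)) • ee r
      rw [ee_inr]
      rcases root_cases r s with rfl | ⟨u, e, e'⟩ | e
      · rw [br_ee_ng, br_ee_hh, A_self, if_pos rfl]
        congr 1
        push_cast
        linear_combination (-1 : K3) * three0
      · rw [br_add e, map_smul, br_ee_zero, smul_zero, if_neg (of_add e).2.2.symm, zero_smul]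
        rw [A_add e, A_self, e']
        norm_num
      · rw [br_ee_zero e, map_zero, if_neg, zero_smul]
        rintro rfl
        rw [A_ng_right, A_self] at e
        omega
    · change br (ee r) (br (ee r) (hh s)) = (0 : K3) • ee r
      rw [br_ee_hh, map_smul, br_self, smul_zero, zero_smul]
  exact LinearMap.congr_fun this v

theorem inv (γ : Γ3) : ∀ u v, kap (rG γ u) (rG γ v) = kap u v := by
  refine ind_Γ (P := fun γ => ∀ u v, kap (rG γ u) (rG γ v) = kap u v) (by simp) (fun r c u v => ?_)
    (fun a b ha hb u v => by rw [map_mul, End.mul_apply, End.mul_apply, ha, hb]) γ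
  have e5 : kap u (ee r) = u (Sum.inr (ng r)) := by rw [symm, kap_ee]
  have e1 : kap (br (ee r) u) (br (ee r) v) = -(v (Sum.inr (ng r)) * u (Sum.inr (ng r))) := by
    rw [adj, sq, map_smul, e5, smul_eq_mul]
  have e2 : kap (br (ee r) u) (ee r) = 0 := by rw [adj, br_self, map_zero, neg_zero]
  have e3 : kap (ee r) (br (ee r) v) = 0 := by
    rw [← neg_eq_zero, ← adj, br_self, map_zero, LinearMap.zero_apply]
  have e4 : kap (ee r) (ee r) = 0 := by rw [kap_ee, ee_inr, if_neg (ng_ne r)]
  rw [x_apply, x_apply]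
  simp only [map_add, map_sub, map_smul, LinearMap.add_apply, LinearMap.sub_apply, LinearMap.smul_apply,
    smul_eq_mul, e1, e2, e3, e4, e5]
  rw [adj, kap_ee]
  linear_combination (-(c ^ 2 * u (Sum.inr (ng r)) * v (Sum.inr (ng r)))) * three0

theorem nd {u : V3} (h : ∀ v, kap u v = 0) : u = 0 := by
  funext i
  rcases i with k | r
  · have e : ∀ j : Fin 8, ∑ i : Fin 8, (A (sm (D := chevE8) i) (sm j) : K3) * u (Sum.inl i) = 0 := fun j => by
      rw [← lamL_apply, ← kap_hh, symm, h]
    obtain ⟨P, hP⟩ : ∃ P : Matrix (Fin 8) (Fin 8) ℤ, ∀ i k : Fin 8,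
      ∑ j : Fin 8, A (sm (D := chevE8) i) (sm j) * P j k = if i = k then 1 else 0 := ⟨_, cinv⟩
    have k1 : ∑ j : Fin 8, (∑ i : Fin 8, (A (sm (D := chevE8) i) (sm j) : K3) * u (Sum.inl i)) * (P j k : K3) =
        ∑ i : Fin 8, ((∑ j : Fin 8, A (sm (D := chevE8) i) (sm j) * P j k : ℤ) : K3) * u (Sum.inl i) := by
      push_cast
      simp only [Finset.sum_mul]
      rw [Finset.sum_comm]
      exact Finset.sum_congr rfl fun i _ => Finset.sum_congr rfl fun j _ => by ring
    simp only [e, hP] at k1
    simpa using k1.symm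
  · have := h (ee (ng r))
    rwa [symm, kap_ee, ng_ng] at this

end FormX

/-- PROOF: port of KSG/E82/Form (`adj`: kap [e_r,u] v = - kap u [e_r,v]; needs N(r,s) = N(s,u) for r+s+u = 0: library or
`decide +kernel` on the table, or from `xR` being orthogonal). -/
theorem kap_symm (u v : V3) : kap u v = kap v u := FormX.symm u v

theorem kap_map (γ : Γ3) (u v : V3) : kap (rG γ u) (rG γ v) = kap u v := FormX.inv γ u v

theorem kap_nd {u : V3} (h : ∀ v, kap u v = 0) : u = 0 := FormX.nd h

theorem kap_rho (g : G3) (u v : V3) : kap (rho g u) (rho g v) = kap u v := by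
  simp only [rho_apply]; exact kap_map _ u v

theorem finrank_pp (N : Submodule K3 V3) : finrank K3 N + finrank K3 (pp N) = 248 := by
  have inj : Injective kap := (injective_iff_map_eq_zero _).2 fun u e =>
    kap_nd fun v => LinearMap.congr_fun e v
  have sur : Surjective kap := (LinearMap.injective_iff_surjective_of_finrank_eq_finrank
    (Subspace.dual_finrank_eq (K := K3) (V := V3)).symm).1 inj
  have e : finrank K3 (pp N) = finrank K3 N.dualAnnihilator :=
    ((LinearEquiv.ofBijective kap ⟨inj, sur⟩).ofSubmodule' N.dualAnnihilator).finrank_eq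
  rw [e, Subspace.finrank_add_finrank_dualAnnihilator_eq, finrank_V3]

end CL.E81
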