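/-
The adjoint module of `E₈` is irreducible for the root elements, over any field.
-/
import Cfsg.Agent.KSG.E82.Irr

set_option autoImplicit false
set_option backward.isDefEq.respectTransparency false

namespace CL.E81.IrrG
open Module Function Finset CL.SL2Wt CL.Chev CL.AltE Cfsg.Lie
open Matrix hiding zpow_add zpow_mul zpow_sub one_zpow
open CL.E82 (R8 root_cases)
open CL.E82.Irr (top up A_top ng_top B AB ne_of)
open CL.E82.L1 (of_add A_add)

variable {K : Type} [Field K]

/-- `x_r(1) - 1` -/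
noncomputable def D (K : Type) [Field K] (r : R8) : End K (chevE8.Idx → K) := (xR chevE8 K r 1).mulVecLin - 1

theorem D_apply (r : R8) (v : chevE8.Idx → K) : D K r v = xR chevE8 K r 1 *ᵥ v - v := by
  rw [D, LinearMap.sub_apply, mulVecLin_apply, End.one_apply]

theorem eq_sum (v : chevE8.Idx → K) : v = ∑ r : R8, v (Sum.inr r) • bas chevE8 K r +
    ∑ i : Fin 8, v (Sum.inl i) • hv K (sm (D := chevE8) i) := by
  have e : ∀ i : Fin 8, hv K (sm (D := chevE8) i) = Pi.single (Sum.inl i) 1 := fun i => funext fun j => by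
    rcases j with j | j
    · simp [hv, cor_sm, Pi.single_apply]
    · simp [hv]
  simp only [e, bas_root]
  rw [add_comm]
  exact (pi_eq_sum_univ' v).trans (Fintype.sum_sum_type _)

theorem e_inr (r u : R8) : bas chevE8 K r (Sum.inr u) = if u = r then 1 else 0 := by
  rw [bas_inr]; simp only [Fin.ext_iff]

theorem D_add {r s u : R8} (h : co u = co r + co s) :
    ∃ c : K, c ≠ 0 ∧ D K r (bas chevE8 K s) = c • bas chevE8 K u := by
  obtain ⟨e, h1, h2⟩ := of_add h
  have a1 := add_eq_of_co h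
  have a2 : ¬ (Good.C chevE8).add r u < chevE8.nroots := fun k => by
    obtain ⟨k, hk⟩ := (add_lt_iff r u).1 k
    have := (of_add hk).1
    rw [A_add h, A_self, e] at this
    omega
  refine ⟨(((Good.C chevE8).M1 r s : ℤ) : K), ?_, ?_⟩
  · rw [← N_eq_M1 h]
    rcases N_unit r s u h (fun m hm => by
      have hm' : co s = co r + co m := by rw [hm]; abel
      have := A_add hm' r
      rw [(of_add hm').1, A_self, e] at this
      omega) with k | k <;> rw [k] <;> simp
  · rw [D_apply, xR_bas_other r s h1 h2, a1, if_pos u.2, if_neg a2, mul_one, add_zero, add_sub_cancel_left]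

theorem D_zero {r s : R8} (h : 0 ≤ A r s) : D K r (bas chevE8 K s) = 0 := by
  rw [D_apply, sub_eq_zero]
  by_cases h1 : s = r
  · rw [h1, xR_bas_self]
  have h2 : s ≠ ng r := by rintro rfl; rw [A_ng_right, A_self] at h; omega
  rw [xR_bas_other r s h1 h2, if_neg, add_zero]
  intro k
  obtain ⟨k, hk⟩ := (add_lt_iff r s).1 k
  have := (of_add hk).1
  omega

theorem D_ng (r : R8) : D K r (bas chevE8 K (ng r)) = hv K r - bas chevE8 K r := by
  rw [D_apply, xR_bas_ng, one_smul, one_pow, one_smul]; abel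

theorem D_hv (r s : R8) : D K r (hv K s) = (-(A s r : K)) • bas chevE8 K r := by
  rw [D_apply, xR_hv, mul_one, neg_smul]; abel

theorem D_co {r s u : R8} (h : co u = co r + co s) :
    ∃ c : K, c ≠ 0 ∧ ∀ v, D K r v (Sum.inr u) = v (Sum.inr s) * c := by
  obtain ⟨c, c0, hc⟩ := D_add (K := K) h
  refine ⟨c, c0, fun v => ?_⟩
  have h1 : ∀ s' : R8, s' ≠ s → D K r (bas chevE8 K s') (Sum.inr u) = 0 := fun s' ne => by
    rcases root_cases r s' with rfl | ⟨u', e, -⟩ | e
    · rw [D_ng, Pi.sub_apply, e_inr, if_neg (ne_of h), sub_zero]; rfl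
    · obtain ⟨d, -, hd⟩ := D_add (K := K) e
      rw [hd, Pi.smul_apply, e_inr, if_neg, smul_zero]
      rintro rfl
      exact ne (co_injective (add_left_cancel (e.symm.trans h)))
    · rw [D_zero e]; rfl
  conv_lhs => rw [eq_sum v]
  simp only [map_add, map_sum, map_smul, D_hv, Pi.add_apply, Finset.sum_apply, Pi.smul_apply, e_inr,
    if_neg (ne_of h), smul_zero, sum_const_zero, add_zero]
  rw [sum_eq_single s (fun s' _ ne => by rw [h1 s' ne, smul_zero]) (by simp), hc, Pi.smul_apply, e_inr, if_pos rfl,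
    smul_eq_mul, smul_eq_mul, mul_one]

theorem of_fix {v : chevE8.Idx → K} (h : ∀ r : R8, Pos r → xR chevE8 K r 1 *ᵥ v = v) :
    v = v (Sum.inr top) • bas chevE8 K top := by
  have h0 : ∀ r : R8, Pos r → D K r v = 0 := fun r a => by rw [D_apply, h r a, sub_self]
  have h1 : ∀ s, s ≠ top → v (Sum.inr s) = 0 := fun s hs => by
    obtain ⟨r, u, a, -, c⟩ := up hs
    obtain ⟨d, d0, hd⟩ := D_co (K := K) c
    have := hd v
    rw [h0 r a] at this
    exact (mul_eq_zero.1 this.symm).resolve_right d0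
  have h2 : ∑ r : R8, v (Sum.inr r) • bas chevE8 K r = v (Sum.inr top) • bas chevE8 K top :=
    sum_eq_single top (fun s _ ne => by rw [h1 s ne, zero_smul]) (by simp)
  have h3 : ∀ j : Fin 8, ∑ i : Fin 8, v (Sum.inl i) * (A (sm (D := chevE8) i) (sm j) : K) = 0 := fun j => by
    have := congrFun (h0 _ (pos_sm j)) (Sum.inr (sm j))
    rw [eq_sum v, h2] at this
    simp only [map_add, map_sum, map_smul, D_hv, D_zero (A_top j), smul_zero, zero_add, Finset.sum_apply,
      Pi.smul_apply, e_inr, if_true, smul_eq_mul, mul_one, mul_neg, sum_neg_distrib, Pi.zero_apply,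
      neg_eq_zero] at this
    exact this
  have h4 : ∀ k : Fin 8, v (Sum.inl k) = 0 := fun k => by
    have : ∑ j : Fin 8, (∑ i : Fin 8, v (Sum.inl i) * (A (sm (D := chevE8) i) (sm j) : K)) * (B j k : K) =
        v (Sum.inl k) := by
      simp only [sum_mul]
      rw [sum_comm]
      simp only [mul_assoc, ← mul_sum, ← Int.cast_mul, ← Int.cast_sum, AB]
      simp
    rw [← this]
    simp [h3]
  conv_lhs => rw [eq_sum v, h2]
  rw [sum_eq_zero fun i _ => by rw [h4 i, zero_smul], add_zero]

/-- a subspace stable under the root elements and containing a nonzero vector fixed by the positive ones is all -/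
theorem eq_top (U : Submodule K (chevE8.Idx → K)) (h : ∀ r : R8, ∀ v ∈ U, xR chevE8 K r 1 *ᵥ v ∈ U)
    {w : chevE8.Idx → K} (hw : w ∈ U) (w0 : w ≠ 0) (hf : ∀ r : R8, Pos r → xR chevE8 K r 1 *ᵥ w = w) : U = ⊤ := by
  have h1 := of_fix hf
  have h2 : bas chevE8 K top ∈ U := by
    refine (U.smul_mem_iff (s := w (Sum.inr top)) fun e => w0 ?_).1 (h1 ▸ hw)
    rw [h1, e, zero_smul]
  have h3 : ∀ r, ∀ x ∈ U, D K r x ∈ U := fun r x hx => U.sub_mem (h _ x hx) hx
  have h4 : ∀ s : R8, bas chevE8 K s ∈ U := fun s => by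
    induction s using WellFoundedGT.induction with
    | ind s ih =>
    by_cases c : s = top
    · exact c ▸ h2
    obtain ⟨r, u, -, a, e⟩ := up c
    obtain ⟨d, d0, hd⟩ := D_add (K := K) (r := ng r) (s := u) (u := s) (by rw [co_ng, e]; abel)
    exact (U.smul_mem_iff d0).1 (hd ▸ h3 (ng r) _ (ih u a))
  have h5 : ∀ r : R8, hv K r ∈ U := fun r => by
    have := U.add_mem (h3 r _ (h4 (ng r))) (h4 r)
    rwa [D_ng, sub_add_cancel] at this
  refine eq_top_iff.2 fun x _ => ?_
  rw [eq_sum x]
  exact U.add_mem (U.sum_mem fun r _ => U.smul_mem _ (h4 r)) (U.sum_mem fun i _ => U.smul_mem _ (h5 _))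

end CL.E81.IrrG
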