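/-
`E₈(3)`, `L₂(81)`: irreducibility of the adjoint module.
-/
import Cfsg.Agent.KSG.E81.Defs
import Cfsg.Agent.KSG.E81.IrrG

set_option autoImplicit false
set_option backward.isDefEq.respectTransparency false

namespace CL.E81.Irr0
open Module Function Finset CL.SL2Wt CL.Chev CL.AltE Cfsg.Lie
open CL.E82 (R8 val ww)
open CL.E83 (K3 G3)
open Matrix hiding zpow_add zpow_mul zpow_sub one_zpow
open scoped MatrixGroups

theorem rho_x (r : R8) (v : V3) : rho ((stG chevE8 (ZMod 3)).x r 1) v = xR chevE8 K3 r 1 *ᵥ v := by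
  rw [rho_apply, psi_x, map_one, rG_x]

theorem irr (U : Submodule K3 V3) (h : ∀ g, ∀ v ∈ U, rho g v ∈ U) : U = ⊥ ∨ U = ⊤ := by
  classical
  rcases eq_or_ne U ⊥ with h0 | h0
  · exact .inl h0
  right
  obtain ⟨v, hv, v0⟩ := Submodule.exists_mem_ne_zero_of_ne_bot h0
  let b : (stG chevE8 (ZMod 3)).U →* End K3 U :=
    ⟨⟨fun g => (rho g).restrict (h g), by ext; simp⟩, fun g g' => by ext; simp⟩
  let _ := DistribMulAction.compHom U b
  obtain ⟨w, w0, hw⟩ := Blk.exists_fixed_ne_zero (P := (stG chevE8 (ZMod 3)).U) (V := U) Nat.prime_three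
    (stG_good.isPGroup_U (p := 3)) (fun x => by rw [← Nat.cast_smul_eq_nsmul K3, CharP.cast_eq_zero, zero_smul])
    (v := ⟨v, hv⟩) fun e => v0 (congrArg Subtype.val e)
  exact IrrG.eq_top U (fun r x hx => rho_x r x ▸ h _ x hx) w.2 (fun e => w0 (Subtype.ext e)) fun r hr =>
    (rho_x r w).symm.trans (congrArg Subtype.val
      (hw ⟨_, (stG chevE8 (ZMod 3)).x_mem_XS (T := {r | (rootSys chevE8).IsPos r}) (ht_pos_of_pos r hr) 1⟩))

end CL.E81.Irr0
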