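/-
`E₈(3)`, `L₂(81)`: irreducibility, and the stabiliser argument.
-/
import Cfsg.Agent.KSG.E81.Lie1
import Cfsg.Agent.KSG.E81.Irr0

set_option autoImplicit false
set_option backward.isDefEq.respectTransparency false

namespace CL.E81
open Module Function Finset CL.SL2Wt CL.Chev CL.AltE Cfsg.Lie
open CL.E82 (R8 val ww)
open CL.E83 (K3 G3)
open Matrix hiding zpow_add zpow_mul zpow_sub one_zpow
open scoped MatrixGroups

/-- PROOF: port of KSG/E82/Irr (reuse its tables `CL.E82.Irr.up, A_top, ng_top, AB`); U is stable under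
`br (ee r) = rho (x r (-1)) - rho (x r 1)`. -/
theorem irr (U : Submodule K3 V3) (h : ∀ g, ∀ v ∈ U, rho g v ∈ U) : U = ⊥ ∨ U = ⊤ := by
  exact Irr0.irr U h

/-- PROOF: the stabiliser of `U` is a subgroup (G3 is finite, or `rho g` is injective on a finite-dimensional space),
proper by `irr`, and contains `H`. -/
theorem stab {H : Subgroup G3} (hH : IsCoatom H) {U : Submodule K3 V3} (h0 : U ≠ ⊥) (h1 : U ≠ ⊤)
    (hU : ∀ h ∈ H, ∀ v ∈ U, rho h v ∈ U) {g : G3} (hg : ∀ v ∈ U, rho g v ∈ U) : g ∈ H := by
  let S : Subgroup G3 :=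
    { carrier := {x | U.map (rho x) = U}
      one_mem' := by
        change U.map (rho 1) = U
        rw [map_one]
        exact Submodule.map_id U
      mul_mem' := fun {a b} ha hb => by
        change U.map (rho (a * b)) = U
        rw [map_mul, End.mul_eq_comp, Submodule.map_comp, show U.map (rho b) = U from hb]
        exact ha
      inv_mem' := fun {a} ha => by
        change U.map (rho a⁻¹) = U
        conv_lhs => rw [← show U.map (rho a) = U from ha]
        rw [← Submodule.map_comp, ← End.mul_eq_comp, ← map_mul, inv_mul_cancel, map_one]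
        exact Submodule.map_id U }
  have key : ∀ x, (∀ v ∈ U, rho x v ∈ U) → x ∈ S := fun x hx => by
    refine Submodule.eq_of_le_of_finrank_eq (Submodule.map_le_iff_le_comap.2 hx) ?_
    refine (LinearEquiv.finrank_eq (Submodule.equivMapOfInjective _ (fun u v e => ?_) U)).symm
    have := congrArg (rho x⁻¹) e
    rwa [← End.mul_apply, ← End.mul_apply, ← map_mul, inv_mul_cancel, map_one] at this
  have le : H ≤ S := fun x hx => key x (hU x hx)
  rcases le.eq_or_lt with e | e
  · exact e ▸ key g hg
  · have t := hH.2 S e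
    refine ((irr U fun x v hv => ?_).elim h0 h1).elim
    have : x ∈ S := t ▸ Subgroup.mem_top x
    exact (show U.map (rho x) = U from this) ▸ Submodule.mem_map_of_mem hv

end CL.E81
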