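/-
`E₈(3)`, `L₂(81)`: symmetries of the weight multiplicities.
-/
import Cfsg.Agent.KSG.E81.Defs

set_option autoImplicit false

namespace CL.E81.PerpC

theorem md (n r : ℕ) {k k' : ℕ} (h : k % n = k' % n) : cw n r k = cw n r k' := by
  simp only [cw, h]

/-- the weights as a list -/
def wl (n r : ℕ) : List ℕ :=
  ((List.range 81).filter fun j => decide (j % 3 ≤ r % 3 ∧ j / 3 % 3 ≤ r / 3 % 3 ∧ j / 9 % 3 ≤ r / 9 % 3 ∧
    j / 27 ≤ r / 27)).map fun j => (r + (n - 2) * j) % n

theorem cw_eq (n r k : ℕ) : cw n r k = (wl n r).countP fun x => decide (x = k % n) := by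
  rw [wl, List.countP_map, List.countP_filter, cw, JJ, Finset.filter_filter, Finset.card_def,
    Finset.filter_val, ← Multiset.countP_eq_card_filter]
  change List.countP _ (List.range 81) = _
  congr 1
  funext j
  simp [Bool.and_comm]

theorem gen {n a b r r' : ℕ} (hab : a * b % n = 1 % n)
    (h : List.Perm (wl n r') ((wl n r).map fun x => b * x % n)) (hw : ∀ x ∈ wl n r, x % n = x) (k : ℕ) :
    cw n r' k = cw n r (a * k) := by
  rw [cw_eq, cw_eq, h.countP_eq, List.countP_map]
  refine List.countP_congr fun x hx => ?_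
  simp only [Function.comp, decide_eq_true_eq]
  have hab' : a * b ≡ 1 [MOD n] := hab
  constructor
  · intro e
    have e' : b * x ≡ k [MOD n] := e
    rw [← hw x hx]
    have h1 : a * (b * x) ≡ a * k [MOD n] := e'.mul_left a
    have h2 : a * b * x ≡ 1 * x [MOD n] := hab'.mul_right x
    rw [one_mul, mul_assoc] at h2
    exact h2.symm.trans h1
  · intro e
    have e' : x ≡ a * k [MOD n] := by rw [← hw x hx] at e; exact e
    have h1 : b * x ≡ b * (a * k) [MOD n] := e'.mul_left b
    have h2 : a * b * k ≡ 1 * k [MOD n] := hab'.mul_right k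
    rw [one_mul, mul_comm a b, mul_assoc] at h2
    exact h1.trans h2

theorem hw (n r : ℕ) : ∀ x ∈ wl n r, x % n = x := fun x hx => by
  obtain ⟨j, -, rfl⟩ := List.mem_map.1 hx
  exact Nat.mod_mod _ _

theorem p1 : ∀ r < 81, List.Perm (wl 80 r) ((wl 80 r).map fun x => 79 * x % 80) := by decide +kernel
theorem p2 : ∀ r < 81, List.Perm (wl 82 r) ((wl 82 r).map fun x => 81 * x % 82) := by decide +kernel
theorem p3 : ∀ r < 81, List.Perm (wl 80 (tw r)) ((wl 80 r).map fun x => 3 * x % 80) := by decide +kernel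
theorem p4 : ∀ r < 81, List.Perm (wl 82 (tw r)) ((wl 82 r).map fun x => 3 * x % 82) := by decide +kernel

theorem a1 {r : ℕ} (hr : r < 81) (k : ℕ) : cw 80 r k = cw 80 r (79 * k) := gen (by norm_num) (p1 r hr) (hw _ _) k
theorem a2 {r : ℕ} (hr : r < 81) (k : ℕ) : cw 82 r k = cw 82 r (81 * k) := gen (by norm_num) (p2 r hr) (hw _ _) k
theorem a3 {r : ℕ} (hr : r < 81) (k : ℕ) : cw 80 (tw r) k = cw 80 r (27 * k) :=
  gen (by norm_num) (p3 r hr) (hw _ _) k
theorem a4 {r : ℕ} (hr : r < 81) (k : ℕ) : cw 82 (tw r) k = cw 82 r (55 * k) :=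
  gen (by norm_num) (p4 r hr) (hw _ _) k

end CL.E81.PerpC
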