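/-
`E₈(3)`, `L₂(81)`: orthogonal complements and Frobenius twists of submodules.
-/
import Cfsg.Agent.KSG.E81.RR
import Cfsg.Agent.KSG.E81.Form
import Cfsg.Agent.KSG.E81.PerpC

set_option autoImplicit false
set_option backward.isDefEq.respectTransparency false

namespace CL.E81
open Module Function Finset CL.SL2Wt CL.Chev CL.AltE Cfsg.Lie
open CL.E82 (R8 val ww)
open CL.E83 (K3 G3)
open Matrix hiding zpow_add zpow_mul zpow_sub one_zpow
open scoped MatrixGroups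

namespace Perp

section gen
variable {K V : Type*} [Field K] [AddCommGroup V] [Module K V]

/-- the projection onto an eigenspace -/
noncomputable def pj (n : ℕ) (A : End K V) (μ : K) : End K V := (n : K)⁻¹ • ∑ i ∈ range n, (μ⁻¹) ^ i • A ^ i

theorem pj_apply (n : ℕ) (A : End K V) (μ : K) (v : V) :
    pj n A μ v = (n : K)⁻¹ • ∑ i ∈ range n, (μ⁻¹) ^ i • (A ^ i) v := by
  simp [pj, LinearMap.sum_apply]

theorem pj_self {n : ℕ} (hn : (n : K) ≠ 0) {A : End K V} {μ : K} (hμ : μ ≠ 0) {v : V}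
    (hv : v ∈ A.eigenspace μ) : pj n A μ v = v := by
  have h1 : A v = μ • v := End.mem_eigenspace_iff.1 hv
  have h2 : ∀ i : ℕ, (A ^ i) v = μ ^ i • v := fun i => by
    induction i with
    | zero => simp
    | succ i ih => rw [pow_succ', End.mul_apply, ih, map_smul, h1, smul_smul, pow_succ]
  have h3 : ∀ i ∈ range n, (μ⁻¹) ^ i • (A ^ i) v = v := fun i _ => by
    rw [h2, smul_smul, ← mul_pow, inv_mul_cancel₀ hμ, one_pow, one_smul]
  rw [pj_apply, sum_congr rfl h3, sum_const, card_range, ← Nat.cast_smul_eq_nsmul K, smul_smul,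
    inv_mul_cancel₀ hn, one_smul]

theorem pj_mem {n : ℕ} {A : End K V} (hA : A ^ n = 1) {μ : K} (hμ : μ ≠ 0) (hμn : μ ^ n = 1) (v : V) :
    pj n A μ v ∈ A.eigenspace μ := by
  rw [End.mem_eigenspace_iff, pj_apply, map_smul, smul_comm μ]
  congr 1
  have h1 := sum_range_succ (fun i => (μ⁻¹) ^ i • (A ^ i) v) n
  have h2 := sum_range_succ' (fun i => (μ⁻¹) ^ i • (A ^ i) v) n
  have h3 : (μ⁻¹) ^ n • (A ^ n) v = (μ⁻¹) ^ 0 • (A ^ 0) v := by
    rw [hA, inv_pow, hμn, inv_one, pow_zero, pow_zero]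
  rw [h1, h3, add_left_inj] at h2
  rw [map_sum, h2, smul_sum]
  refine sum_congr rfl fun i _ => ?_
  rw [map_smul, smul_smul, pow_succ' A, End.mul_apply, pow_succ, mul_comm μ, mul_assoc,
    inv_mul_cancel₀ hμ, mul_one]

theorem pj_inv (n : ℕ) {A : End K V} (μ : K) {N : Submodule K V} (hN : ∀ v ∈ N, A v ∈ N) {v : V}
    (hv : v ∈ N) : pj n A μ v ∈ N := by
  have h2 : ∀ i : ℕ, (A ^ i) v ∈ N := fun i => by
    induction i with
    | zero => simpa using hv
    | succ i ih => rw [pow_succ', End.mul_apply]; exact hN _ ih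
  rw [pj_apply]
  exact N.smul_mem _ (N.sum_mem fun i _ => N.smul_mem _ (h2 i))

theorem pj_adj (n : ℕ) (B : V →ₗ[K] V →ₗ[K] K) {A A' : End K V} (h : ∀ u v, B (A u) v = B u (A' v)) (μ : K)
    (u v : V) : B (pj n A μ u) v = B u (pj n A' μ v) := by
  have h2 : ∀ (i : ℕ) (u v : V), B ((A ^ i) u) v = B u ((A' ^ i) v) := fun i => by
    induction i with
    | zero => simp
    | succ i ih => intro u v; rw [pow_succ', End.mul_apply, h, ih, pow_succ, End.mul_apply]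
  simp only [pj_apply, map_smul, map_sum, LinearMap.smul_apply, LinearMap.sum_apply, h2]

theorem split [FiniteDimensional K V] {π : End K V} {M U : Submodule K V} (h1 : ∀ v ∈ M, π v ∈ U)
    (h2 : ∀ v ∈ U, π v = v) (h3 : U ≤ M) (h4 : LinearMap.ker π ≤ M) :
    finrank K M = finrank K U + finrank K (LinearMap.ker π) := by
  have e1 : U ⊔ LinearMap.ker π = M := by
    refine le_antisymm (sup_le h3 h4) fun v hv => Submodule.mem_sup.2 ⟨π v, h1 v hv, v - π v, ?_, by simp⟩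
    rw [LinearMap.mem_ker, map_sub, h2 _ (h1 v hv), sub_self]
  have e2 : U ⊓ LinearMap.ker π = ⊥ := eq_bot_iff.2 fun v hv => by
    have := h2 v hv.1
    rw [LinearMap.mem_ker.1 hv.2] at this
    exact this.symm
  have := Submodule.finrank_sup_add_finrank_inf_eq U (LinearMap.ker π)
  rw [e1, e2, finrank_bot] at this
  omega

theorem dim_gen [FiniteDimensional K V] (B : V →ₗ[K] V →ₗ[K] K) (P : Submodule K V → Submodule K V)
    (hP : ∀ N v, v ∈ P N ↔ ∀ u ∈ N, B v u = 0) (hd : ∀ N : Submodule K V, finrank K N + finrank K (P N) = finrank K V)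
    {n : ℕ} (hn : (n : K) ≠ 0) {A A' : End K V} (hA : A ^ n = 1) (hA' : A' ^ n = 1)
    (h : ∀ u v, B (A u) v = B u (A' v)) {μ : K} (hμ : μ ≠ 0) (hμn : μ ^ n = 1) {N : Submodule K V}
    (hN : ∀ v ∈ N, A' v ∈ N) :
    finrank K ↥(N ⊓ A'.eigenspace μ) + finrank K ↥(P N ⊓ A.eigenspace μ) = finrank K (A.eigenspace μ) := by
  have e1 := split (π := pj n A μ) (M := ⊤) (U := A.eigenspace μ) (fun v _ => pj_mem hA hμ hμn v)
    (fun v hv => pj_self hn hμ hv) le_top le_top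
  have c1 : ∀ v ∈ P (N ⊓ A'.eigenspace μ), pj n A μ v ∈ P N ⊓ A.eigenspace μ := fun v hv => by
    refine Submodule.mem_inf.2 ⟨?_, pj_mem hA hμ hμn v⟩
    rw [hP] at hv ⊢
    intro u hu
    rw [pj_adj n B h]
    exact hv _ (Submodule.mem_inf.2 ⟨pj_inv n μ hN hu, pj_mem hA' hμ hμn u⟩)
  have c2 : P N ⊓ A.eigenspace μ ≤ P (N ⊓ A'.eigenspace μ) := fun v hv => by
    have h1 := (Submodule.mem_inf.1 hv).1
    rw [hP] at h1 ⊢
    exact fun u hu => h1 u (Submodule.mem_inf.1 hu).1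
  have c3 : LinearMap.ker (pj n A μ) ≤ P (N ⊓ A'.eigenspace μ) := fun v hv => by
    rw [hP]
    intro u hu
    rw [← pj_self hn hμ (Submodule.mem_inf.1 hu).2, ← pj_adj n B h, LinearMap.mem_ker.1 hv, map_zero,
      LinearMap.zero_apply]
  have e2 := split c1 (fun v hv => pj_self hn hμ (Submodule.mem_inf.1 hv).2) c2 c3
  have e3 := hd (N ⊓ A'.eigenspace μ)
  rw [finrank_top] at e1
  omega

end gen

set_option maxRecDepth 20000 in
theorem dim_pp {n : ℕ} (hn : (n : K3) ≠ 0) {A A' : End K3 V3} (hA : A ^ n = 1) (hA' : A' ^ n = 1)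
    (h : ∀ u v, kap (A u) v = kap u (A' v)) {μ : K3} (hμ : μ ≠ 0) (hμn : μ ^ n = 1) {N : Submodule K3 V3}
    (hN : ∀ v ∈ N, A' v ∈ N) :
    finrank K3 ↥(N ⊓ A'.eigenspace μ) + finrank K3 ↥(pp N ⊓ A.eigenspace μ) = finrank K3 (A.eigenspace μ) :=
  dim_gen kap pp (fun _ _ => mem_pp) (fun N => (finrank_pp N).trans finrank_V3.symm) hn hA hA' h hμ hμn hN

theorem dim_fr {A B : Submodule K3 V3} (h : ∀ v, v ∈ B ↔ ∃ u ∈ A, Fr u = v) : finrank K3 A = finrank K3 B := by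
  have : Fact (Nat.Prime 3) := ⟨Nat.prime_three⟩
  let j : A →+ B := AddMonoidHom.mk' (fun u => ⟨Fr u, (h _).2 ⟨u, u.2, rfl⟩⟩) fun a b => Subtype.ext (Fr_add _ _)
  have hj : Bijective j := ⟨fun a b e => Subtype.ext (Fr_inj (congrArg Subtype.val e)), fun v => by
    obtain ⟨u, hu, e⟩ := (h v).1 v.2
    exact ⟨⟨u, hu⟩, Subtype.ext e⟩⟩
  have hi : Bijective (phi : K3 → K3) := ⟨phi.injective, fun y => by
    obtain ⟨x, hx⟩ := IsAlgClosed.exists_pow_nat_eq y (n := 3) (by norm_num)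
    exact ⟨x, by rw [phi_apply, hx]⟩⟩
  have := rank_eq_of_equiv_equiv (phi : K3 → K3) (AddEquiv.ofBijective j hj) hi fun c m =>
    Subtype.ext (by
      change Fr (c • (m : V3)) = phi c • Fr m
      rw [Fr_smul, phi_apply])
  simp only [finrank, this]

section
variable {F : Type*} [Field F] (θ : SL(2, F) →* G3)

theorem eig_inv (g : SL(2, F)) {μ ν : K3} (h : μ * ν = 1) :
    (rh θ g⁻¹).eigenspace μ = (rh θ g).eigenspace ν := by
  have key : ∀ (g : SL(2, F)) (μ ν : K3), μ * ν = 1 → (rh θ g⁻¹).eigenspace μ ≤ (rh θ g).eigenspace ν :=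
    fun g μ ν h v hv => by
      have h1 := congrArg (rh θ g) (End.mem_eigenspace_iff.1 hv)
      rw [← End.mul_apply, ← map_mul, mul_inv_cancel, map_one, End.one_apply, map_smul] at h1
      rw [End.mem_eigenspace_iff]
      conv_rhs => rw [h1]
      rw [smul_smul, mul_comm, h, one_smul]
  refine le_antisymm (key g μ ν h) ?_
  have := key g⁻¹ ν μ (by rw [mul_comm, h])
  rwa [inv_inv] at this

theorem adj (g : SL(2, F)) (u v : V3) : kap (rh θ g u) v = kap u (rh θ g⁻¹ v) := by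
  have h1 : ∀ (g : SL(2, F)) (x : V3), rh θ g x = rho (θ g) x := fun _ _ => rfl
  have h2 : rh θ g (rh θ g⁻¹ v) = v := by
    rw [← End.mul_apply (rh θ g) (rh θ g⁻¹), ← map_mul, mul_inv_cancel, map_one, End.one_apply]
  rw [← kap_rho (θ g) u (rh θ g⁻¹ v), ← h1 g u, ← h1 g (rh θ g⁻¹ v), h2]

theorem dim1 {N : Submodule K3 V3} (hN : Inv (rh θ) N) {n : ℕ} (hn : (n + 1 : ℕ) % 3 = 1 ∨ (n + 1 : ℕ) % 3 = 2)
    {g : SL(2, F)} (hg : orderOf g = n + 1) {ζ : K3ˣ} (hζ : orderOf ζ = n + 1) (k : ℕ) :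
    finrank K3 ↥(N ⊓ (rh θ g).eigenspace ((ζ : K3) ^ (n * k))) +
      finrank K3 ↥(pp N ⊓ (rh θ g).eigenspace ((ζ : K3) ^ k)) = finrank K3 ((rh θ g).eigenspace ((ζ : K3) ^ k)) := by
  have h0 : ((n + 1 : ℕ) : K3) ≠ 0 := fun e => by
    have := (CharP.cast_eq_zero_iff K3 3 _).1 e
    omega
  have h1 : (ζ : K3) ^ (n + 1) = 1 := by rw [← hζ, ← Units.val_pow_eq_pow_val, pow_orderOf_eq_one, Units.val_one]
  have h2 : g ^ (n + 1) = 1 := by rw [← hg, pow_orderOf_eq_one]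
  rw [← eig_inv θ g (μ := (ζ : K3) ^ k) (by
    rw [← pow_add, show k + n * k = (n + 1) * k by ring, pow_mul, h1, one_pow])]
  exact dim_pp h0 (by rw [← map_pow, h2, map_one]) (by rw [← map_pow, inv_pow, h2, inv_one, map_one])
    (adj θ g) (pow_ne_zero _ ζ.ne_zero) (by rw [← pow_mul, mul_comm, pow_mul, h1, one_pow]) (hN g⁻¹)

theorem dim2 (N : Submodule K3 V3) (g : SL(2, F)) {μ ν : K3} (h : μ ^ 3 = ν) :
    finrank K3 ↥(N ⊓ (rh θ g).eigenspace μ) = finrank K3 ↥(frS N ⊓ (rh θ g).eigenspace ν) := by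
  have key : ∀ u : V3, u ∈ (rh θ g).eigenspace μ ↔ Fr u ∈ (rh θ g).eigenspace ν := fun u => by
    rw [End.mem_eigenspace_iff, End.mem_eigenspace_iff, ← h, ← Fr_smul]
    change rho (θ g) u = _ ↔ rho (θ g) (Fr u) = _
    rw [← Fr_rho, Fr_inj.eq_iff]
  refine dim_fr fun v => ⟨fun hv => ?_, ?_⟩
  · obtain ⟨u, hu, rfl⟩ := mem_frS.1 hv.1
    exact ⟨u, ⟨hu, (key u).2 hv.2⟩, rfl⟩
  · rintro ⟨u, hu, rfl⟩
    exact ⟨mem_frS.2 ⟨u, hu.1, rfl⟩, (key u).1 hu.2⟩

end

end Perp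

variable {F : Type*} [Field F] [Fintype F] (D : Dt F) (θ : SL(2, F) →* G3)

omit [Fintype F] in
theorem pp_inv {N : Submodule K3 V3} (hN : Inv (rh θ) N) : Inv (rh θ) (pp N) := by
  intro g v hv
  refine mem_pp.2 fun u hu => ?_
  rw [Perp.adj]
  exact mem_pp.1 hv _ (hN _ u hu)

/-- PROOF: `RR_eq`/`cw_unique`: dim (pp N ⊓ Wt k) + dim (N ⊓ Wt (-k)) = dim Wt k (kap pairs Wt k with Wt (-k) perfectly and
kills the other pairs), cw n r k = cw n r (n - k); the same for `Ws`.  A generic lemma for an isometry A with A^n = 1. -/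
theorem RR_pp {N : Submodule K3 V3} (hN : Inv (rh θ) N) :
    RR D (rh θ) N + RR D (rh θ) (pp N) = RR D (rh θ) ⊤ := by
  obtain ⟨a1, a2, a3⟩ := RR_spec D (rh θ) hN
  obtain ⟨b1, b2, b3⟩ := RR_spec D (rh θ) (pp_inv θ hN)
  refine (RR_eq D (rh θ) ⟨fun r hr => (Multiset.mem_add.1 hr).elim (a1 r) (b1 r), fun k => ?_, fun k => ?_⟩).symm
  · rw [top_inf_eq, Multiset.map_add, Multiset.sum_add, ← b2,
      Multiset.map_congr rfl fun r hr => PerpC.a1 (a1 r hr) k, ← a2]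
    exact (Perp.dim1 θ hN (n := 79) (by norm_num) D.ord_t D.hζ k).symm
  · rw [top_inf_eq, Multiset.map_add, Multiset.sum_add, ← b3,
      Multiset.map_congr rfl fun r hr => PerpC.a2 (a1 r hr) k, ← a3]
    exact (Perp.dim1 θ hN (n := 81) (by norm_num) D.ord_s D.hη k).symm

omit [Fintype F] in
theorem frS_inv {N : Submodule K3 V3} (hN : Inv (rh θ) N) : Inv (rh θ) (frS N) := by
  intro g v hv
  obtain ⟨u, hu, rfl⟩ := mem_frS.1 hv
  exact mem_frS.2 ⟨_, hN g u hu, Fr_rho (θ g) u⟩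

/-- PROOF: `Fr` is a semilinear bijection from N ⊓ Wt k onto frS N ⊓ Wt (3k); 3 is a unit modulo 80 and 82;
cw n (tw r) (3 k) = cw n r k by `decide +kernel`. -/
theorem RR_fr {N : Submodule K3 V3} (hN : Inv (rh θ) N) : RR D (rh θ) (frS N) = (RR D (rh θ) N).map tw := by
  obtain ⟨a1, a2, a3⟩ := RR_spec D (rh θ) hN
  have h1 : (D.ζ : K3) ^ 80 = 1 := by rw [← D.hζ, ← Units.val_pow_eq_pow_val, pow_orderOf_eq_one, Units.val_one]
  have h2 : (D.η : K3) ^ 82 = 1 := by rw [← D.hη, ← Units.val_pow_eq_pow_val, pow_orderOf_eq_one, Units.val_one]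
  refine RR_eq D (rh θ) ⟨fun r hr => ?_, fun k => ?_, fun k => ?_⟩
  · obtain ⟨x, hx, rfl⟩ := Multiset.mem_map.1 hr
    have := a1 x hx
    unfold tw
    omega
  · rw [Multiset.map_map, Function.comp_def, Multiset.map_congr rfl fun r hr => PerpC.a3 (a1 r hr) k, ← a2]
    exact (Perp.dim2 θ N D.t (by
      rw [← pow_mul, show 27 * k * 3 = 80 * k + k by ring, pow_add, pow_mul, h1, one_pow, one_mul])).symm
  · rw [Multiset.map_map, Function.comp_def, Multiset.map_congr rfl fun r hr => PerpC.a4 (a1 r hr) k, ← a3]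
    exact (Perp.dim2 θ N D.s (by
      rw [← pow_mul, show 55 * k * 3 = 82 * (2 * k) + k by ring, pow_add, pow_mul, h2, one_pow, one_mul])).symm

end CL.E81
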