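/-
`E₈(3)`, `L₂(81)`: lattice arguments with the invariant form.
-/
import Cfsg.Agent.KSG.E81.Perp

set_option autoImplicit false
set_option backward.isDefEq.respectTransparency false

namespace CL.E81
open Module Function Finset CL.SL2Wt CL.Chev CL.AltE Cfsg.Lie
open CL.E82 (R8 val ww)
open CL.E83 (K3 G3)
open Matrix hiding zpow_add zpow_mul zpow_sub one_zpow
open scoped MatrixGroups

variable {F : Type*} [Field F] [Fintype F] (D : Dt F) (θ : SL(2, F) →* G3)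

namespace Lat

omit [Fintype F] in
theorem top : Inv (rh θ) ⊤ := fun _ _ _ => trivial

omit [Fintype F] in
theorem bot : Inv (rh θ) ⊥ := fun g v hv => by
  rw [(Submodule.mem_bot K3).1 hv, map_zero]; exact Submodule.zero_mem _

omit [Fintype F] in
theorem inf {A B : Submodule K3 V3} (hA : Inv (rh θ) A) (hB : Inv (rh θ) B) : Inv (rh θ) (A ⊓ B) :=
  fun g v hv => ⟨hA g v hv.1, hB g v hv.2⟩

omit [Fintype F] in
theorem sup {A B : Submodule K3 V3} (hA : Inv (rh θ) A) (hB : Inv (rh θ) B) : Inv (rh θ) (A ⊔ B) := by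
  intro g v hv
  obtain ⟨x, hx, y, hy, rfl⟩ := Submodule.mem_sup.1 hv
  rw [map_add]
  exact Submodule.add_mem_sup (hA g x hx) (hB g y hy)

theorem cL_add (A B : Multiset ℕ) : cL (A + B) = cL A + cL B := by
  simp only [cL, Multiset.count_add]; ring

theorem cnt_pp {N : Submodule K3 V3} (hN : Inv (rh θ) N) (a : ℕ) :
    (RR D (rh θ) N).count a + (RR D (rh θ) (pp N)).count a = (RR D (rh θ) ⊤).count a := by
  rw [← Multiset.count_add, RR_pp D θ hN]

theorem cnt_mod {A B : Submodule K3 V3} (hA : Inv (rh θ) A) (hB : Inv (rh θ) B) (a : ℕ) :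
    (RR D (rh θ) (A ⊓ B)).count a + (RR D (rh θ) (A ⊔ B)).count a =
      (RR D (rh θ) A).count a + (RR D (rh θ) B).count a := by
  rw [← Multiset.count_add, RR_mod D (rh θ) hA hB, Multiset.count_add]

theorem cnt_le {A B : Submodule K3 V3} (hA : Inv (rh θ) A) (hB : Inv (rh θ) B) (h : A ≤ B) (a : ℕ) :
    (RR D (rh θ) A).count a ≤ (RR D (rh θ) B).count a :=
  Multiset.count_le_of_le a (RR_mono D (rh θ) hA hB h)

end Lat

/-- PROOF: N minimal (finrank) among the invariant subspaces with a ∈ RR N.  Let b ≠ a, b ∈ RR N, count b ⊤ = 1; M ≤ N minimal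
with b ∈ RR M.  M = N is impossible (`exists_cover`: RR N = RR N' + {r}, neither a nor b in RR N').  So a ∉ RR M, a ∈ RR (pp M),
b ∉ RR (pp M) (`RR_pp`); `RR_mod`, `RR_mono` give a ∈ RR (N ⊓ pp M), so N ≤ pp M and b ∈ RR (pp M). -/
theorem lat {a : ℕ} (ha : (RR D (rh θ) ⊤).count a = 1) : ∃ N, Inv (rh θ) N ∧ a ∈ RR D (rh θ) N ∧
    ∀ b ∈ RR D (rh θ) N, b = a ∨ 2 ≤ (RR D (rh θ) ⊤).count b := by
  obtain ⟨N, hN⟩ := exists_minimal_of_wellFoundedLT
    (fun N : Submodule K3 V3 => Inv (rh θ) N ∧ a ∈ RR D (rh θ) N)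
    ⟨⊤, Lat.top θ, Multiset.count_pos.1 (by omega)⟩
  obtain ⟨hI, haN⟩ := hN.prop
  refine ⟨N, hI, haN, fun b hb => ?_⟩
  by_contra hc
  obtain ⟨hba, h2⟩ := not_or.1 hc
  obtain ⟨M, hM⟩ := exists_minimal_of_wellFoundedLT
    (fun M : Submodule K3 V3 => Inv (rh θ) M ∧ M ≤ N ∧ b ∈ RR D (rh θ) M) ⟨N, hI, le_rfl, hb⟩
  obtain ⟨hMI, hMN, hbM⟩ := hM.prop
  by_cases haM : a ∈ RR D (rh θ) M
  · have hNM : N ≤ M := hN.le_of_le ⟨hMI, haM⟩ hMN
    have h0 : N ≠ ⊥ := fun h => by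
      rw [(RR_zero D (rh θ) hI).2 h] at haN
      exact Multiset.notMem_zero _ haN
    obtain ⟨N', hlt, hI', r, hr⟩ := exists_cover D (rh θ) hI h0
    have h3 : a ∉ RR D (rh θ) N' := fun h => hlt.not_ge (hN.le_of_le ⟨hI', h⟩ hlt.le)
    have h4 : b ∉ RR D (rh θ) N' := fun h =>
      hlt.not_ge (hNM.trans (hM.le_of_le ⟨hI', hlt.le, h⟩ (hlt.le.trans hNM)))
    rw [hr, Multiset.mem_add, Multiset.mem_singleton] at haN hb
    exact hba ((hb.resolve_left h4).trans (haN.resolve_left h3).symm)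
  · have hP := pp_inv θ hMI
    have e1 := Lat.cnt_pp D θ hMI a
    have e2 := Lat.cnt_pp D θ hMI b
    have e3 := Lat.cnt_mod D θ hI hP a
    have e4 := Lat.cnt_le D θ (Lat.sup θ hI hP) (Lat.top θ) le_top a
    have e5 := Multiset.count_eq_zero.2 haM
    have e6 := Multiset.count_pos.2 haN
    have e7 := Multiset.count_pos.2 hbM
    have e8 := Multiset.count_pos.2 hb
    have h3 : N ≤ N ⊓ pp M :=
      hN.le_of_le ⟨Lat.inf θ hI hP, Multiset.count_pos.1 (by omega)⟩ inf_le_left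
    have e9 := Lat.cnt_le D θ hI hP (h3.trans inf_le_right) b
    omega

/-- PROOF: `RR_pp` gives equality for all N; take N minimal with count 0 + cL ≠ 0 and `exists_cover`. -/
theorem selfd (h : ∀ N, Inv (rh θ) N → (RR D (rh θ) N).count 0 ≤ cL (RR D (rh θ) N))
    (e : (RR D (rh θ) ⊤).count 0 = cL (RR D (rh θ) ⊤)) : (RR D (rh θ) ⊤).count 0 = 0 := by
  have key : ∀ N, Inv (rh θ) N → (RR D (rh θ) N).count 0 = cL (RR D (rh θ) N) := by
    intro N hN
    have e1 := Lat.cnt_pp D θ hN 0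
    have e2 := h N hN
    have e3 := h _ (pp_inv θ hN)
    have e4 := Lat.cL_add (RR D (rh θ) N) (RR D (rh θ) (pp N))
    rw [RR_pp D θ hN] at e4
    omega
  by_contra h0
  obtain ⟨N, hN⟩ := exists_minimal_of_wellFoundedLT
    (fun N : Submodule K3 V3 => Inv (rh θ) N ∧ (RR D (rh θ) N).count 0 ≠ 0) ⟨⊤, Lat.top θ, h0⟩
  obtain ⟨hI, hc⟩ := hN.prop
  have hb : N ≠ ⊥ := fun hb => by
    rw [(RR_zero D (rh θ) hI).2 hb] at hc
    exact hc rfl
  obtain ⟨N', hlt, hI', r, hr⟩ := exists_cover D (rh θ) hI hb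
  have h3 : (RR D (rh θ) N').count 0 = 0 := by
    by_contra h3
    exact hlt.not_ge (hN.le_of_le ⟨hI', h3⟩ hlt.le)
  have h4 : r = 0 := by
    by_contra h4
    rw [hr, Multiset.count_add, h3, Multiset.count_singleton, if_neg (Ne.symm h4)] at hc
    exact hc rfl
  subst h4
  have e1 := key N hI
  have e2 := key N' hI'
  have e3 : cL {0} = 0 := by decide
  rw [e1, hr, Lat.cL_add, ← e2, h3, e3] at hc
  exact hc rfl

/-- PROOF: J = sSup of the simple submodules N with RR N = {r}, r ∈ L; J lies in the sum of the weight spaces ≠ k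
(or: pp N ⊇ .. : every simple N of such a type is orthogonal to Wt (80 - k)..), so J ≠ ⊤ and pp J ≠ ⊥ (`finrank_pp`); a simple
N ≤ pp J of type r ∈ L would satisfy N ≤ pp N, so count r ⊤ ≥ 2 (`RR_pp`, `RR_mono`). -/
theorem exists_other (L : List ℕ) (hL : ∀ r ∈ L, (RR D (rh θ) ⊤).count r ≤ 1) {k : ℕ} (hk : ∀ r ∈ L, cw 80 r k = 0)
    (h0 : Wt D (rh θ) k ≠ ⊥) : ∃ N r, Sm (rh θ) N ∧ RR D (rh θ) N = {r} ∧ r ∉ L := by
  by_contra hc
  have hall : ∀ N r, Sm (rh θ) N → RR D (rh θ) N = {r} → r ∈ L := fun N r h1 h2 => by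
    by_contra h3
    exact hc ⟨N, r, h1, h2, h3⟩
  obtain ⟨J, hJ⟩ := exists_maximal_of_wellFoundedGT
    (fun N : Submodule K3 V3 => Inv (rh θ) N ∧ ∀ r ∈ RR D (rh θ) N, r ∈ L)
    ⟨⊥, Lat.bot θ, fun r hr => by
      rw [(RR_zero D (rh θ) (Lat.bot θ)).2 rfl] at hr
      exact absurd hr (Multiset.notMem_zero _)⟩
  obtain ⟨hI, hJL⟩ := hJ.prop
  have hP := pp_inv θ hI
  have h1 : pp J ≠ ⊥ := by
    intro h
    have e1 := finrank_pp J
    have e2 := finrank_pp ⊤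
    rw [h, finrank_bot] at e1
    have e3 : J = ⊤ := Submodule.eq_of_le_of_finrank_le le_top (by omega)
    refine h0 ((Submodule.eq_bot_iff _).2 fun v hv => ?_)
    refine wt_zero D (rh θ) hI (k := k) ?_ (e3 ▸ Submodule.mem_top) hv
    refine Multiset.sum_eq_zero fun x hx => ?_
    obtain ⟨r, hr, rfl⟩ := Multiset.mem_map.1 hx
    exact hk r (hJL r hr)
  obtain ⟨U, hU, hS⟩ := exists_sm (rh θ) hP h1
  obtain ⟨r, -, -, -, hr⟩ := Sm.simp D (rh θ) hS
  have hrL := hall U r hS hr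
  have h2 : J ⊔ U ≤ J := by
    refine hJ.le_of_ge ⟨Lat.sup θ hI hS.1, fun b hb => ?_⟩ le_sup_left
    have e1 := Lat.cnt_mod D θ hI hS.1 b
    have e2 := Multiset.count_pos.2 hb
    by_cases hbJ : b ∈ RR D (rh θ) J
    · exact hJL b hbJ
    · have e3 := Multiset.count_eq_zero.2 hbJ
      have e4 : b ∈ RR D (rh θ) U := Multiset.count_pos.1 (by omega)
      rw [hr, Multiset.mem_singleton] at e4
      rwa [e4]
  have e1 := Lat.cnt_pp D θ hI r
  have e2 := Lat.cnt_le D θ hS.1 hI (le_sup_right.trans h2) r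
  have e3 := Lat.cnt_le D θ hS.1 hP hU r
  have e4 := hL r hrL
  rw [hr, Multiset.count_singleton_self] at e2 e3
  omega

end CL.E81
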