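/-
`E₈(3)`, `L₂(81)`: the extra involution.
-/
import Cfsg.Agent.KSG.E81.Frame

set_option autoImplicit false
set_option backward.isDefEq.respectTransparency false

namespace CL.E81
open Module Function Finset CL.SL2Wt CL.Chev CL.AltE Cfsg.Lie
open CL.E82 (R8 val ww)
open CL.E83 (K3 G3)
open Matrix hiding zpow_add zpow_mul zpow_sub one_zpow
open scoped MatrixGroups

namespace Zel

theorem c1 : ∀ a : Fin 6, a ≠ 5 → (∃ r : R8, ¬ Even (val (BZ a) r)) ∧
    ∃ r : R8, ¬ (Even (val (BZ a) r) ↔ Even (val (CT a) r)) := by decide +kernel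

theorem c2 : ∀ (a : Fin 6) (r : R8), val (CT a) r ≡ (0 : ℕ) [ZMOD 40] → Even (val (BZ a) r) := by decide +kernel

theorem c3 : ∀ k < 40, k ∉ X8 → (∀ r : R8, val (CT 0) r ≡ k [ZMOD 40] → Even (val (BZ 0) r)) ∨
    ¬ k ≡ 0 [MOD 40] ∧ ∀ r : R8, val (CT 0) r ≡ k [ZMOD 40] → ¬ Even (val (BZ 0) r) := by decide +kernel

theorem ch_mul (u u' : Fin 8 → K3ˣ) (r : R8) : ch (u * u') r = ch u r * ch u' r := uchr_mul _ _ _

theorem ch_one (r : R8) : ch 1 r = 1 := by
  have := ch_mul 1 1 r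
  rwa [mul_one, left_eq_mul] at this

theorem ch_eq {u u' : Fin 8 → K3ˣ} (e : tor8 u = tor8 u') (r : R8) : ch u r = ch u' r := by
  have := tor_ee u r
  rw [e, tor_ee] at this
  have h := congrFun this (Sum.inr r)
  rw [Pi.smul_apply, Pi.smul_apply, LA.ee_inr, if_pos rfl, smul_eq_mul, smul_eq_mul, mul_one, mul_one] at h
  exact Units.ext h.symm

theorem neg_ne : (-1 : K3ˣ) ≠ 1 := fun e => by
  have h : (-1 : K3) = 1 := congrArg Units.val e
  have h3 := three0
  exact one_ne_zero (α := K3) (by linear_combination h3 + h)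

theorem zp (n : ℤ) : (-1 : K3ˣ) ^ n = 1 ↔ Even n := by
  rcases Int.even_or_odd n with h | h
  · simp [h, h.neg_one_zpow]
  · simp [h.neg_one_zpow, neg_ne, Int.not_even_iff_odd.2 h]

end Zel
open Zel

variable {ξ : K3ˣ} {a : Fin 6} {s z : G3} {y m : Γ3} {t t' : Fin 8 → K3ˣ} (Φ : Fz ξ a s z y m t t')
include Φ

theorem Fz.comm : Commute z s := by
  refine psi_inj ((MulAut.conj y).injective ?_)
  simp only [map_mul (MulAut.conj y), map_mul psi]
  simp only [MulAut.conj_apply]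
  rw [Φ.hz, Φ.frm.conj, ← map_mul, ← map_mul, mul_comm]

theorem Fz.sq : z ^ 2 = 1 := by
  refine psi_inj ((MulAut.conj y).injective ?_)
  simp only [map_pow, map_one]
  rw [MulAut.conj_apply, Φ.hz, ← map_pow, ch_inj (t := t' ^ 2) (t' := 1) fun r => ?_, map_one]
  rw [pow_two, ch_mul, Φ.ht', ← mul_zpow, neg_mul_neg, one_mul, _root_.one_zpow, ch_one]

/-- PROOF: compare the root values on the simple roots: BZ a ≠ 0 and BZ a ≠ CT a modulo 2 (ξ^20 = -1). -/
theorem Fz.ne (ha : a ≠ 5) : z ≠ 1 ∧ z ≠ s ^ 20 := by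
  obtain ⟨⟨r, h1⟩, r', h2⟩ := c1 a ha
  refine ⟨fun e => h1 ((zp _).1 ?_), fun e => h2 ?_⟩
  · have := Φ.hz
    rw [e, map_one, mul_one, mul_inv_cancel, ← map_one tor8] at this
    rw [← Φ.ht', ← ch_eq this r, ch_one]
  · have := Φ.hz
    rw [e, map_pow, ← conj_pow, Φ.frm.conj, ← map_pow] at this
    have e20 : ξ ^ 20 = -1 := by
      have h40 : (ξ ^ 20) ^ 2 = 1 := by
        have := pow_orderOf_eq_one ξ
        rwa [Φ.ord, show 40 = 20 * 2 from rfl, pow_mul] at this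
      rcases mul_self_eq_one_iff.1 ((pow_two _).symm.trans (congrArg Units.val h40 : ((ξ ^ 20 : K3ˣ) : K3) ^ 2 = 1)) with h | h
      · exact absurd (orderOf_dvd_of_pow_eq_one (Units.ext h)) (by rw [Φ.ord]; decide)
      · exact Units.ext h
    have k := ch_eq this r'
    rw [ch, uchr_pow, ← ch, Φ.ht, Φ.ht', ← zpow_natCast, ← _root_.zpow_mul, mul_comm, _root_.zpow_mul, zpow_natCast, e20] at k
    rw [← zp, ← zp, k]

/-- PROOF: roots of weight 0 have even BZ-value (`decide +kernel`). -/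
theorem Fz.fix0 {v : V3} (hv : v ∈ Es s ξ 0) : rho z v = v := by
  refine rG_inj y (funext ?_)
  rintro (i | r)
  · exact Φ.z_cartan v i
  · rw [Φ.z_root]
    by_cases h : val (CT a) r ≡ (0 : ℕ) [ZMOD 40]
    · rw [if_pos (c2 a r h), one_mul]
    · rw [((Φ.mem_es 0 v).1 hv).1 r h, mul_zero]

theorem Fz.scal (ha : a = 0) {k : ℕ} (hk : k < 40) (hX : k ∉ X8) :
    ∃ ε : K3, ∀ v ∈ Es s ξ k, rho z v = ε • v := by
  subst ha
  rcases c3 k hk hX with c | ⟨c0, c⟩
  · refine ⟨1, fun v hv => rG_inj y (funext ?_)⟩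
    rw [one_smul]
    rintro (i | r)
    · exact Φ.z_cartan v i
    · rw [Φ.z_root]
      by_cases h : val (CT 0) r ≡ k [ZMOD 40]
      · rw [if_pos (c r h), one_mul]
      · rw [((Φ.mem_es k v).1 hv).1 r h, mul_zero]
  · refine ⟨-1, fun v hv => rG_inj y (funext ?_)⟩
    rw [map_smul]
    rintro (i | r)
    · rw [Φ.z_cartan, Pi.smul_apply, ((Φ.mem_es k v).1 hv).2 c0, smul_zero]
    · rw [Φ.z_root, Pi.smul_apply, smul_eq_mul]
      by_cases h : val (CT 0) r ≡ k [ZMOD 40]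
      · rw [if_neg (c r h)]
      · rw [((Φ.mem_es k v).1 hv).1 r h, mul_zero, mul_zero]

end CL.E81
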