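/-
`E₈(3)`, `L₂(81)`: stabilisers.
-/
import Cfsg.Agent.KSG.E81.Irr
import Cfsg.Agent.KSG.E81.Cen
import Cfsg.Agent.KSG.E81.RR
import Cfsg.Agent.KSG.E81.Zel

set_option autoImplicit false
set_option backward.isDefEq.respectTransparency false

namespace CL.E81
open Module Function Finset CL.SL2Wt CL.Chev CL.AltE Cfsg.Lie
open CL.E82 (R8 val ww)
open CL.E83 (K3 G3)
open Matrix hiding zpow_add zpow_mul zpow_sub one_zpow
open scoped MatrixGroups

variable {F : Type*} [Field F] [Fintype F] {D : Dt F} {H : Subgroup G3} {θ : SL(2, F) →* G3} {a : Fin 6}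
  (S : Su D H θ a) {z : G3} {y m : Γ3} {t t' : Fin 8 → K3ˣ}
include S

omit S in
theorem M0.mul (g h : G3) (v : V3) : rho (g * h) v = rho g (rho h v) := by rw [map_mul]; rfl

omit S in
theorem M0.map_map (g : G3) (N : Submodule K3 V3) : (N.map (rho g)).map (rho g⁻¹) = N := by
  rw [← Submodule.map_comp, ← Module.End.mul_eq_comp, ← map_mul, inv_mul_cancel, map_one]
  exact Submodule.map_id N

omit S in
theorem M0.grp {G : Type*} [Group G] (h x : G) : h * (h⁻¹ * x * h⁻¹⁻¹) = x * h := by group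

theorem M0.swap {h : G3} (hh : h ∈ H) (g : SL(2, F)) : ∃ g', ∀ v, rh θ g (rho h v) = rho h (rh θ g' v) := by
  obtain ⟨g', e⟩ := S.emb.norm h⁻¹ (H.inv_mem hh) g
  refine ⟨g', fun v => ?_⟩
  change rho (θ g) (rho h v) = rho h (rho (θ g') v)
  rw [← M0.mul, ← M0.mul, ← e, M0.grp]

omit S in
theorem M0.two : ∀ a : Fin 6, (((RL a : Multiset ℕ)).map (cw 80 · 2)).sum ≠ 0 := by decide +kernel

omit S in
theorem wt_es (D : Dt F) (θ : SL(2, F) →* G3) (k : ℕ) : Wt D (rh θ) (2 * k) = Es (θ D.t) (D.ζ ^ 2) k := by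
  rw [Wt, Es, pow_mul, Units.val_pow_eq_pow_val]
  rfl

theorem Su.fz : ∃ z y m t t', Fz (D.ζ ^ 2) a (θ D.t) z y m t t' :=
  exists_fz D.hξ S.cls

theorem Su.le {N : Submodule K3 V3} (hN : Inv (rh θ) N) : RR D (rh θ) N ≤ (RL a : Multiset ℕ) :=
  S.rr ▸ RR_mono D _ hN (fun _ _ _ => Submodule.mem_top) le_top

theorem Su.map_inv {h : G3} (hh : h ∈ H) {N : Submodule K3 V3} (hN : Inv (rh θ) N) : Inv (rh θ) (N.map (rho h)) := by
  rintro g _ ⟨u, hu, rfl⟩
  obtain ⟨g', e⟩ := M0.swap S hh g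
  exact ⟨_, hN g' u hu, (e u).symm⟩

theorem Su.map_sm {h : G3} (hh : h ∈ H) {N : Submodule K3 V3} (hN : Sm (rh θ) N) :
    Sm (rh θ) (N.map (rho h)) ∧ finrank K3 (N.map (rho h)) = finrank K3 N := by
  have m2 : ∀ U : Submodule K3 V3, (U.map (rho h⁻¹)).map (rho h) = U := fun U => by
    rw [← Submodule.map_comp, ← Module.End.mul_eq_comp, ← map_mul, mul_inv_cancel, map_one]
    exact Submodule.map_id U
  refine ⟨⟨S.map_inv hh hN.1, fun e => hN.2.1 ?_, fun U hU hl => ?_⟩, le_antisymm (Submodule.finrank_map_le _ _) ?_⟩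
  · rw [← M0.map_map h N, e, Submodule.map_bot]
  · refine (hN.2.2 _ (S.map_inv (H.inv_mem hh) hU) ((Submodule.map_mono hl).trans (M0.map_map h N).le)).imp
      (fun e => ?_) fun e => ?_
    · rw [← m2 U, e, Submodule.map_bot]
    · rw [← m2 U, e]
  · conv_lhs => rw [← M0.map_map h N]
    exact Submodule.finrank_map_le _ _

/-- PROOF: `cen_t`, `Fz.comm, sq, ne`. -/
theorem Su.zout (ha : a ≠ 5) (Φ : Fz (D.ζ ^ 2) a (θ D.t) z y m t t') : z ∉ H := fun hz =>
  ((cen_t D S.emb).1 z hz Φ.comm Φ.sq).elim (Φ.ne ha).1 (Φ.ne ha).2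

/-- PROOF: U = sSup {N | P N} is stable under H and z, non-zero, and lies in the range of ρ t - ζ^k (an invariant N with
N ⊓ Wt k = ⊥ is mapped onto itself), which is proper as Wt k ≠ ⊥ (`S.rr`, `Ty.dim_t`); `stab`, `zout`. -/
theorem Su.kill (ha : a ≠ 5) (Φ : Fz (D.ζ ^ 2) a (θ D.t) z y m t t') (P : Submodule K3 V3 → Prop)
    (hP : ∀ h ∈ H, ∀ N, P N → P (N.map (rho h))) {N0 : Submodule K3 V3} (h0 : P N0) (h1 : N0 ≠ ⊥) {k : ℕ}
    (hk : (((RL a : Multiset ℕ)).map (cw 80 · k)).sum ≠ 0)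
    (hN : ∀ N, P N → Inv (rh θ) N ∧ ((RR D (rh θ) N).map (cw 80 · k)).sum = 0)
    (hz : ∀ N, P N → ∀ v ∈ N, rho z v ∈ N) : False := by
  have st : ∀ g : G3, (∀ N, P N → ∀ v ∈ N, rho g v ∈ sSup {N | P N}) →
      ∀ v ∈ sSup {N | P N}, rho g v ∈ sSup {N | P N} := fun g hg =>
    show sSup {N | P N} ≤ (sSup {N | P N}).comap (rho g) from sSup_le fun N n v hv => hg N n v hv
  let f : End K3 V3 := rh θ D.t - ((D.ζ : K3) ^ k) • 1
  have kf : ∀ v, f v = 0 ↔ v ∈ Wt D (rh θ) k := fun v => by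
    rw [Module.End.mem_eigenspace_iff]; exact sub_eq_zero
  have le : sSup {N | P N} ≤ LinearMap.range f := sSup_le fun N n v hv => by
    have i : ∀ x ∈ N, f x ∈ N := fun x hx => N.sub_mem ((hN N n).1 _ x hx) (N.smul_mem _ hx)
    obtain ⟨x, e⟩ := LinearMap.surjective_of_injective (f := f.restrict i)
      ((injective_iff_map_eq_zero _).2 fun x e => Subtype.ext
        (wt_zero D _ (hN N n).1 (hN N n).2 x.2 ((kf x).1 (congrArg Subtype.val e)))) ⟨v, hv⟩
    exact ⟨x, congrArg Subtype.val e⟩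
  refine S.zout ha Φ (stab S.max (U := sSup {N | P N}) (fun e => h1 (eq_bot_iff.2 (e ▸ le_sSup h0))) (fun e => hk ?_)
    (fun h hh => st h fun N n v hv => le_sSup (s := {N | P N}) (hP h hh N n) (Submodule.mem_map_of_mem hv))
    (st z fun N n v hv => le_sSup (s := {N | P N}) n (hz N n v hv)))
  have i := LinearMap.injective_iff_surjective.2 (LinearMap.range_eq_top.1 (top_le_iff.1 (e ▸ le)))
  rw [← S.rr, ← (RR_top D (rh θ)).dim_t D _ k, Submodule.finrank_eq_zero, eq_bot_iff]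
  exact fun v hv => (injective_iff_map_eq_zero _).1 i v ((kf v).2 hv)

/-- PROOF: K = {v | ∀ g, rh θ g v = v} is H-stable, ≠ ⊤ (weight 2 or 4 occurs), fixed by z (`Fz.fix0`). -/
theorem Su.noFix (ha : a ≠ 5) : NoFix (rh θ) := fun v hv => by_contra fun n => by
  obtain ⟨z, y, m, t, t', Φ⟩ := S.fz
  refine S.kill ha Φ (fun N => ∀ u ∈ N, ∀ g, rh θ g u = u) ?_ (N0 := K3 ∙ v) ?_
    (by rwa [Ne, Submodule.span_singleton_eq_bot]) (M0.two a) (fun N p => ?_) fun N p u hu => ?_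
  · rintro h hh N p _ ⟨u, hu, rfl⟩ g
    obtain ⟨g', e⟩ := M0.swap S hh g
    rw [e, p u hu]
  · intro u hu g
    obtain ⟨c, rfl⟩ := Submodule.mem_span_singleton.1 hu
    rw [map_smul, hv]
  · have i : Inv (rh θ) N := fun g u hu => by rwa [p u hu]
    refine ⟨i, ?_⟩
    rw [← (RR_spec D _ i).2.1 2, Submodule.finrank_eq_zero, eq_bot_iff]
    rintro u ⟨hu, h2⟩
    have e := Module.End.mem_eigenspace_iff.1 h2
    rw [p u hu, ← sub_eq_zero] at e
    refine (smul_eq_zero.1 (show (1 - (D.ζ : K3) ^ 2) • u = 0 by rwa [sub_smul, one_smul])).resolve_left fun e => ?_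
    have := orderOf_dvd_of_pow_eq_one (x := D.ζ) (n := 2) (Units.ext (sub_eq_zero.1 e).symm)
    rw [D.hζ] at this
    omega
  · rwa [Φ.fix0 (Module.End.mem_eigenspace_iff.2 (by rw [pow_zero, one_smul]; exact p u hu _))]

end CL.E81
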