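/-
`E₈(3)`, `L₂(81)`: purity in the regular cases.
-/
import Cfsg.Agent.KSG.E81.Frame

set_option autoImplicit false
set_option backward.isDefEq.respectTransparency false

namespace CL.E81
open Module Function Finset CL.SL2Wt CL.Chev CL.AltE Cfsg.Lie
open CL.E82 (R8 val ww)
open CL.E83 (K3 G3)
open Matrix hiding zpow_add zpow_mul zpow_sub one_zpow
open scoped MatrixGroups

namespace P45

/-- the twisting permutations -/
def wN (a r : ℕ) : ℕ := (if a = 3 then 80421391281647510459045091358477453634650591071853908782403534379355976844636464811260273100828029504419934587756992944774938265943468779344857169929497558880017832512058324163757215612186620892915687597880745741577289769796086771686179676432526417814472464610413269659356534966740359268069554299411092421171427742376012391895285082563122932919809809674830995527292316430802469201942745822927085767518198205560612105676743743296625182712770841397187376441413147745898833036428151664716053184144226902898825787237436337301897779935492477676844215057179509556083873997364291971095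 else 34254739022657566763710350174200409209429825955145035740643133766513610611527038507690870123414170505147045701994121500162660547655437912815089497728314316740446779157248102803614599188579096759173001468250730296072212153595210876028425005362395039748709292399634369649898968385325852691227840078858821059085531028798400899472660904471197429939813271641446111277634081968409129480673046731290865708659915473408216948439407372710209547215946007028174332932134083935050084157498750948293710310558165511782092329720224298137740056487561303197781718889942471695231365029925728393875) >>> (8 * r) % 256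
/-- the even roots -/
def bN (a r : ℕ) : Bool := Nat.testBit (if a = 3 then 683979575266450188435086241054445174425117185403685043735196833613109446 else 1583108485908663131822512532837775422809347570315740604766090529792525991) r
/-- the seven roots of weight `k` -/
def P (a k i : ℕ) : ℕ := (if a = 3 then [0, 39836966253721976, 0, 45761190923894909, 0, 0, 0, 0, 0, 51984551813029378, 0, 0, 0, 57636123554744070, 0, 0, 0, 0, 0, 0, 0, 0, 0, 0, 0, 0, 0, 65839001909603363, 0, 0, 0, 66798974715248695, 0, 0, 0, 0, 0, 32210654414789709, 0, 33625764719847522] else [0, 45754559376554240, 0, 46324140876724737, 0, 0, 0, 0, 0, 49447909532535813, 0, 0, 0, 57636106205597706, 0, 0, 0, 0, 0, 0, 0, 0, 0, 0, 0, 0, 0, 64703305350392867, 0, 0, 0, 65974397064921920, 0, 0, 0, 0, 0, 67120187251383371, 0, 67402748972786253]).getD k 0 >>> (8 * i) % 256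
/-- the exceptional support -/
def S0 (a k : ℕ) : ℕ := if a = 3 then 128 else [0, 55, 0, 59, 0, 0, 0, 0, 0, 31, 0, 0, 0, 122, 0, 0, 0, 0, 0, 0, 0, 0, 0, 0, 0, 0, 0, 47, 0, 0, 0, 124, 0, 0, 0, 0, 0, 110, 0, 118].getD k 0
/-- eight independent roots -/
def RN (k l : ℕ) : ℕ := [0, 2565523992832704915, 0, 8781786806331639194, 0, 0, 0, 0, 0, 8829181584140874811, 0, 0, 0, 6013826056092934769, 0, 0, 0, 0, 0, 0, 0, 0, 0, 0, 0, 0, 0, 10520852376263817472, 0, 0, 0, 7383213660179317520, 0, 0, 0, 0, 0, 17272655140248314717, 0, 12998490634378961013].getD k 0 >>> (8 * l) % 256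
/-- the inverse matrix -/
def MN (k i l : ℕ) : ℕ := [0, 178976011037844964534010833418099704202, 0, 203539429577465391623136288896132212112, 0, 0, 0, 0, 0, 43909116344198499456109936273007076758, 0, 0, 0, 1329603230421174906336238170753115672, 0, 0, 0, 0, 0, 0, 0, 0, 0, 0, 0, 0, 0, 11033794245265347919418617122537569, 0, 0, 0, 6657924501168751030165461329618769994, 0, 0, 0, 0, 0, 85073382336811047515256213026393980933, 0, 129778237815069953406359416869903958597].getD k 0 >>> (2 * (8 * i + l)) % 4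

/-- sum of two roots -/
def ad (r s : ℕ) : ℕ := (Good.C chevE8).add r s
/-- index pairs -/
def PR : List (ℕ × ℕ) := (List.range 7).flatMap fun i => (List.range 7).map fun j => (i, j)
/-- tables of sums -/
abbrev Tab := List ((ℕ × ℕ) × List (ℕ × ℕ))
/-- the table of two families of roots -/
def ed (p q : ℕ → ℕ) : Tab :=
  (PR.filter fun x => Nat.blt (ad (p x.1) (q x.2)) 240).map fun x =>
    (x, PR.filter fun y => Nat.beq (ad (p y.1) (q y.2)) (ad (p x.1) (q x.2)) && !(Nat.beq y.1 x.1 && Nat.beq y.2 x.2))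
/-- the criterion -/
def ok (E : Tab) (S B : ℕ) : Bool :=
  E.all fun e => !(S.testBit e.1.1 && B.testBit e.1.2) || e.2.any fun o => S.testBit o.1 && B.testBit o.2
/-- the criterion for the three twists -/
def ok3 (w p q : ℕ → ℕ) (S B : ℕ) : Bool :=
  ok (ed p fun i => w (q i)) S B && (ok (ed p fun i => w (w (q i))) S B && ok (ed p fun i => w (w (w (q i)))) S B)
/-- the enumeration -/
def fin (a k : ℕ) : Bool := (List.range 128).all fun S => !ok3 (wN a) (P a k) (P a k) S S ||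
  (((List.range 7).all fun i => !S.testBit i || bN a (P a k i)) ||
  (((List.range 7).all fun i => !S.testBit i || !bN a (P a k i)) || (Nat.beq S (S0 a k) ||
  (List.range 128).all fun B => Nat.beq B 0 || !(ok3 (wN a) (P a k) (P a (40 - k)) S B &&
    (ok3 (wN a) (P a (40 - k)) (P a k) B S && ok3 (wN a) (P a (40 - k)) (P a (40 - k)) B B)))))

theorem chk3 : ∀ k ∈ X8, fin 3 k = true := by decide +kernel
theorem chk4 : ∀ k ∈ X8, fin 4 k = true := by decide +kernel

theorem chkW : ∀ a ∈ ([3, 4] : List (Fin 6)), ∀ r : R8, (piL (D := chevE8) (LW a) r : ℕ) = wN a r ∧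
    (bN a r = true ↔ Even (val (BZ a) r)) ∧ ¬ val (CT a) r ≡ (0 : ℕ) [ZMOD 40] ∧
    ∀ k ∈ X8, val (CT a) r ≡ k [ZMOD 40] → ∃ i < 7, P a k i = r := by decide +kernel

theorem chkX : ∀ k ∈ X8, 40 - k ∈ X8 ∧ ¬ k ≡ 0 [MOD 40] ∧ ¬ 3 * k ≡ 0 [MOD 40] ∧ ¬ 3 * (3 * k) ≡ 0 [MOD 40] ∧
    ¬ 3 * (3 * (3 * k)) ≡ 0 [MOD 40] ∧ ∀ a ∈ ([3, 4] : List (Fin 6)), ∀ i < 7, P a k i < 240 := by decide +kernel

theorem chkM : ∀ k ∈ X8, (∀ l : Fin 8, ∃ i < 7, (S0 4 k).testBit i = true ∧ (wN 4 (P 4 k i) = RN k l ∨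
      wN 4 (wN 4 (P 4 k i)) = RN k l ∨ wN 4 (wN 4 (wN 4 (P 4 k i))) = RN k l)) ∧
    ∀ i j : Fin 8, (∑ l : Fin 8, (MN k i l : ℤ) * (Good.C chevE8).wt j (RN k l)) % 3 = if j = i then 1 else 0 := by
  decide +kernel

theorem mem_PR {x : ℕ × ℕ} : x ∈ PR ↔ x.1 < 7 ∧ x.2 < 7 := by
  obtain ⟨i, j⟩ := x
  simp [PR]

theorem eq_sum' {u : V3} (hu : ∀ i, u (Sum.inl i) = 0) : u = ∑ r : R8, u (Sum.inr r) • ee r := by
  conv_lhs => rw [eq_sum u]
  simp [hu]

theorem pair {u v : V3} (hu : ∀ i, u (Sum.inl i) = 0) (hv : ∀ i, v (Sum.inl i) = 0) (h : br u v = 0) {r s w : R8}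
    (hw : co w = co r + co s) (ur : u (Sum.inr r) ≠ 0) (vs : v (Sum.inr s) ≠ 0) :
    ∃ r' s', ¬ (r' = r ∧ s' = s) ∧ u (Sum.inr r') ≠ 0 ∧ v (Sum.inr s') ≠ 0 ∧ co w = co r' + co s' := by
  by_contra! hn
  have h1 : br u v (Sum.inr w) =
      ∑ x : R8 × R8, u (Sum.inr x.1) * v (Sum.inr x.2) * br (ee x.1) (ee x.2) (Sum.inr w) := by
    rw [Fintype.sum_prod_type]
    conv_lhs => rw [eq_sum' hu, map_sum, LinearMap.sum_apply, Finset.sum_apply]
    refine Finset.sum_congr rfl fun a _ => ?_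
    conv_lhs => rw [eq_sum' hv, map_sum, Finset.sum_apply]
    refine Finset.sum_congr rfl fun b _ => ?_
    rw [map_smul, map_smul, LinearMap.smul_apply, smul_smul, Pi.smul_apply, smul_eq_mul, mul_comm (v _)]
  rw [h, Finset.sum_eq_single (r, s)] at h1
  · obtain ⟨ε, hε, e⟩ := br_ee_add hw
    simp only [e, Pi.smul_apply, LA.ee_inr, if_true, smul_eq_mul, mul_one, Pi.zero_apply] at h1
    exact mul_ne_zero (mul_ne_zero ur vs) (by rcases hε with rfl | rfl <;> simp) h1.symm
  · rintro ⟨r', s'⟩ - ne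
    by_contra h0
    have h2 := hn r' s' (fun a b => ne (Prod.ext a b)) (left_ne_zero_of_mul (left_ne_zero_of_mul h0))
      (right_ne_zero_of_mul (left_ne_zero_of_mul h0))
    apply right_ne_zero_of_mul h0
    rcases root_cases r' s' with rfl | ⟨w', hw', -⟩ | h3
    · rw [br_ee_ng]; rfl
    · obtain ⟨ε, -, e⟩ := br_ee_add hw'
      rw [e, Pi.smul_apply, LA.ee_inr, if_neg fun e' : w = w' => h2 (e' ▸ hw'), smul_zero]
    · rw [br_ee_zero h3]; rfl
  · simp

/-- the support of `u` is the mask `S` in the family `p` -/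
structure Sup (u : V3) (p : ℕ → ℕ) (S : ℕ) : Prop where
  car : ∀ i, u (Sum.inl i) = 0
  lt : ∀ i < 7, p i < 240
  mem : ∀ r : R8, u (Sum.inr r) ≠ 0 → ∃ i < 7, p i = r
  bit : ∀ i < 7, ∀ r : R8, p i = r → (S.testBit i = true ↔ u (Sum.inr r) ≠ 0)

theorem Sup.ok {u v : V3} {p q : ℕ → ℕ} {S B : ℕ} (hu : Sup u p S) (hv : Sup v q B) (h : br u v = 0) :
    ok (ed p q) S B = true := by
  simp only [P45.ok, ed, List.all_map, List.all_eq_true, List.mem_filter, mem_PR, Function.comp_apply,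
    Bool.or_eq_true, Bool.not_eq_true', List.any_eq_true, Bool.and_eq_true, Nat.blt_eq, Nat.beq_eq, and_imp]
  intro x h1 h2 h3
  by_cases hb : (S.testBit x.1 && B.testBit x.2) = false
  · exact Or.inl hb
  right
  rw [Bool.not_eq_false, Bool.and_eq_true] at hb
  obtain ⟨r', s', ne, ur, vs, e⟩ := pair hu.car hv.car h (r := ⟨p x.1, hu.lt _ h1⟩) (s := ⟨q x.2, hv.lt _ h2⟩)
    (w := ⟨ad (p x.1) (q x.2), h3⟩) (coN_add (D := chevE8) (hu.lt _ h1) (hv.lt _ h2) h3)
    ((hu.bit _ h1 _ rfl).1 hb.1) ((hv.bit _ h2 _ rfl).1 hb.2)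
  obtain ⟨i, hi, ei⟩ := hu.mem _ ur
  obtain ⟨j, hj, ej⟩ := hv.mem _ vs
  refine ⟨(i, j), ⟨⟨hi, hj⟩, ?_, ?_⟩, (hu.bit _ hi _ ei).2 ur, (hv.bit _ hj _ ej).2 vs⟩
  · simp only [ei, ej]
    exact add_eq_of_coN (D := chevE8) r'.2 s'.2 h3 e
  · rw [← Bool.not_eq_true, Bool.and_eq_true, Nat.beq_eq, Nat.beq_eq]
    rintro ⟨rfl, rfl⟩
    exact ne ⟨Fin.ext ei.symm, Fin.ext ej.symm⟩

theorem exists_sup {u : V3} {p : ℕ → ℕ} (car : ∀ i, u (Sum.inl i) = 0) (lt : ∀ i < 7, p i < 240)
    (mem : ∀ r : R8, u (Sum.inr r) ≠ 0 → ∃ i < 7, p i = r) : ∃ S < 128, Sup u p S := by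
  classical
  refine ⟨Nat.ofBits fun i : Fin 7 => decide (u (Sum.inr ⟨p i, lt i i.2⟩) ≠ 0), Nat.ofBits_lt_two_pow _,
    car, lt, mem, fun i hi r e => ?_⟩
  rw [Nat.testBit_ofBits_lt _ _ hi, decide_eq_true_iff]
  obtain rfl : r = ⟨p i, lt i hi⟩ := Fin.ext e.symm
  rfl

theorem Sup.step {s : G3} {y m : Γ3} {w : Equiv.Perm R8} {t : Fin 8 → K3ˣ} (Φ : Frm s y m w t) {wn : ℕ → ℕ}
    (hw : ∀ r : R8, (w r : ℕ) = wn r) {e : V3} {p : ℕ → ℕ} {S : ℕ} (h : Sup (rG y e) p S)
    (car : ∀ i, rG y (Fr e) (Sum.inl i) = 0) : Sup (rG y (Fr e)) (fun i => wn (p i)) S := by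
  have k : ∀ r, rG y (Fr e) (Sum.inr (w r)) ≠ 0 ↔ rG y e (Sum.inr r) ≠ 0 := fun r => by
    obtain ⟨ε, hε, h1⟩ := Φ.fr_root r
    rw [h1]
    rcases hε with rfl | rfl <;> simp
  refine ⟨car, fun i hi => ?_, fun r hr => ?_, fun i hi r hr => ?_⟩
  · exact hw ⟨p i, h.lt i hi⟩ ▸ (w ⟨p i, h.lt i hi⟩).2
  · obtain ⟨r, rfl⟩ := w.surjective r
    obtain ⟨i, hi, e⟩ := h.mem r ((k r).1 hr)
    exact ⟨i, hi, by rw [e, hw]⟩
  · obtain rfl : r = w ⟨p i, h.lt i hi⟩ := Fin.ext (by rw [hw]; exact hr.symm)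
    rw [k]
    exact h.bit i hi _ rfl

theorem lam_zero {H u : V3} (hH : ∀ r : R8, H (Sum.inr r) = 0) {p : ℕ → ℕ} {S : ℕ} (hu : Sup u p S)
    (h : br H u = 0) {i : ℕ} (hi : i < 7) (hS : S.testBit i = true) {n : ℕ} (e : p i = n) :
    ∑ j : Fin 8, H (Sum.inl j) * (((Good.C chevE8).wt j n : ℤ) : K3) = 0 := by
  subst e
  obtain ⟨r, hr⟩ : ∃ r : R8, p i = r := ⟨⟨p i, hu.lt i hi⟩, rfl⟩
  have h0 := (hu.bit i hi r hr).1 hS
  have h1 : br H u (Sum.inr r) = u (Sum.inr r) * lam r H := by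
    conv_lhs => rw [eq_sum' hu.car, map_sum, Finset.sum_apply, Finset.sum_eq_single r (fun b _ hb => by
      rw [map_smul, br_cartan_ee hH, smul_smul, Pi.smul_apply, LA.ee_inr, if_neg hb.symm, smul_zero])
      (fun h => absurd (Finset.mem_univ _) h)]
    rw [map_smul, br_cartan_ee hH, smul_smul, Pi.smul_apply, LA.ee_inr, if_pos rfl, smul_eq_mul, mul_one]
  rw [h] at h1
  have h2 := (mul_eq_zero.1 h1.symm).resolve_left h0
  rw [hr]
  simpa only [lam, A_sm'] using h2

theorem car_zero {H : V3} {k : ℕ} (hk : k ∈ X8)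
    (h : ∀ l : Fin 8, ∑ j : Fin 8, H (Sum.inl j) * (((Good.C chevE8).wt j (RN k l) : ℤ) : K3) = 0) (i : Fin 8) :
    H (Sum.inl i) = 0 := by
  have h1 : ∀ j : Fin 8, ∑ l : Fin 8, (MN k i l : K3) * (((Good.C chevE8).wt j (RN k l) : ℤ) : K3) =
      if j = i then 1 else 0 := fun j => by
    have h2 := congrArg (Int.cast : ℤ → K3) (Int.emod_add_mul_ediv
      (∑ l : Fin 8, (MN k i l : ℤ) * (Good.C chevE8).wt j (RN k l)) 3)
    rw [(chkM k hk).2 i j] at h2
    push_cast at h2
    rw [← h2, three0, zero_mul, add_zero]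
  have h3 : ∑ l : Fin 8, (MN k i l : K3) * ∑ j : Fin 8, H (Sum.inl j) *
      (((Good.C chevE8).wt j (RN k l) : ℤ) : K3) = 0 := by simp [h]
  simp only [Finset.mul_sum] at h3
  rw [Finset.sum_comm] at h3
  simp only [mul_left_comm _ (H _), ← Finset.mul_sum, h1, mul_ite, mul_one, mul_zero, Finset.sum_ite_eq',
    Finset.mem_univ, if_true] at h3
  exact h3

end P45

variable {ξ : K3ˣ} {a : Fin 6} {s z : G3} {y m : Γ3} {t t' : Fin 8 → K3ˣ} (Φ : Fz ξ a s z y m t t')
include Φ

/-- PROOF: no root has weight 0, so y h is in the Cartan subalgebra.  Let S, B be the supports of y e, y f (subsets of the 7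
roots of weight k, -k); w^j S, w^j B are the supports of y Fr^j e, y Fr^j f (`Frm.fr_root`).  Criterion ok(P,Q) for [u,v] = 0 with
supports P, Q: if r ∈ P, r' ∈ Q and r + r' = u is a root then u = r2 + r2' for a second pair (coordinate u of the bracket,
`br_ee_add`).  Enumerate the 127 supports S (bit masks, precomputed tables of sums, `decide +kernel`): ok(S, w^j S), j = 1,2,3,
leaves two supports with both BZ-parities for a = 3 and one for a = 4.  a = 3: for them no non-empty B satisfies ok(S, w^j B),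
ok(B, w^j S), ok(B, w^j B).  a = 4: the 15 roots of w S ∪ w² S ∪ w³ S have rank 8 modulo 3, and lam r' (y h) = 0 on them
(`br_cartan_ee`), so h = 0.  (One may reduce to k = 1, 39 by applying Fr, or check all eight k.) -/
theorem Fz.pur45 (ha : a = 3 ∨ a = 4) {k : ℕ} (hk : k ∈ X8) {e f h : V3} (he : e ∈ Es s ξ k) (hf : f ∈ Es s ξ (40 - k))
    (hh0 : h ∈ Es s ξ 0) (f0 : f ≠ 0) (h0 : h ≠ 0) (h1 : ∀ j ∈ [1, 2, 3], br e (Fr^[j] e) = 0 ∧ br e (Fr^[j] f) = 0 ∧
      br f (Fr^[j] e) = 0 ∧ br f (Fr^[j] f) = 0 ∧ br h (Fr^[j] e) = 0) : rho z e = e ∨ rho z e = -e := by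
  have ha' : a ∈ ([3, 4] : List (Fin 6)) := by simpa using ha
  have cW := P45.chkW a ha'
  have hw : ∀ r : R8, (wW a r : ℕ) = P45.wN a r := fun r => by rw [wW_eq]; exact (cW r).1
  have sup : ∀ {k : ℕ}, k ∈ X8 → ∀ {e : V3}, e ∈ Es s ξ k → ∃ S < 128, P45.Sup (rG y e) (P45.P a k) S ∧
      P45.Sup (rG y (Fr^[1] e)) (fun i => P45.wN a (P45.P a k i)) S ∧
      P45.Sup (rG y (Fr^[2] e)) (fun i => P45.wN a (P45.wN a (P45.P a k i))) S ∧
      P45.Sup (rG y (Fr^[3] e)) (fun i => P45.wN a (P45.wN a (P45.wN a (P45.P a k i)))) S := fun {k} hk {e} he => by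
    obtain ⟨-, c0, c1, c2, c3, lt⟩ := P45.chkX k hk
    have e1 := Φ.fr_es he
    have e2 := Φ.fr_es e1
    have e3 := Φ.fr_es e2
    obtain ⟨S, hS, s0⟩ := P45.exists_sup (((Φ.mem_es _ _).1 he).2 c0) (lt a ha') fun r hr =>
      (cW r).2.2.2 k hk (by_contra fun hn => hr (((Φ.mem_es _ _).1 he).1 r hn))
    have s1 := s0.step Φ.frm hw (((Φ.mem_es _ _).1 e1).2 c1)
    have s2 := s1.step Φ.frm hw (((Φ.mem_es _ _).1 e2).2 c2)
    exact ⟨S, hS, s0, s1, s2, s2.step Φ.frm hw (((Φ.mem_es _ _).1 e3).2 c3)⟩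
  obtain ⟨S, hS, s0, s1, s2, s3⟩ := sup hk he
  obtain ⟨B, hB, b0, b1, b2, b3⟩ := sup (P45.chkX k hk).1 hf
  have tr : ∀ {u v : V3}, br u v = 0 → br (rG y u) (rG y v) = 0 := fun h => by rw [← br_map, h, map_zero]
  obtain ⟨a1, a2, a3, a4, a5⟩ := h1 1 (by simp)
  obtain ⟨c1, c2, c3, c4, c5⟩ := h1 2 (by simp)
  obtain ⟨d1, d2, d3, d4, d5⟩ := h1 3 (by simp)
  have hfin : P45.fin a k = true := by
    rcases ha with rfl | rfl
    exacts [P45.chk3 k hk, P45.chk4 k hk]
  have h2 := List.all_eq_true.1 hfin S (List.mem_range.2 hS)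
  simp only [P45.ok3, s0.ok s1 (tr a1), s0.ok s2 (tr c1), s0.ok s3 (tr d1), Bool.and_self, Bool.not_true,
    Bool.false_or, Bool.or_eq_true, List.all_eq_true, List.mem_range, Nat.beq_eq] at h2
  rcases h2 with h2 | h2 | h2 | h2
  · refine Or.inl (rG_inj y (funext fun x => ?_))
    rcases x with i | r
    · exact Φ.z_cartan e i
    · rw [Φ.z_root]
      by_cases h3 : rG y e (Sum.inr r) = 0
      · rw [h3, mul_zero]
      · obtain ⟨i, hi, ei⟩ := s0.mem r h3
        have := h2 i hi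
        rw [(s0.bit i hi r ei).2 h3, ei, (cW r).2.1] at this
        rw [if_pos (this.resolve_left (by simp)), one_mul]
  · refine Or.inr (rG_inj y (funext fun x => ?_))
    rw [map_neg, Pi.neg_apply]
    rcases x with i | r
    · rw [Φ.z_cartan e i, s0.car, neg_zero]
    · rw [Φ.z_root]
      by_cases h3 : rG y e (Sum.inr r) = 0
      · rw [h3, mul_zero, neg_zero]
      · obtain ⟨i, hi, ei⟩ := s0.mem r h3
        have := h2 i hi
        rw [(s0.bit i hi r ei).2 h3, ei] at this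
        rw [if_neg fun h4 => by simp [(cW r).2.1.2 h4] at this, neg_one_mul]
  · rcases ha with rfl | rfl
    · exact absurd h2 hS.ne
    have hH : ∀ r : R8, rG y h (Sum.inr r) = 0 := fun r => ((Φ.mem_es _ _).1 hh0).1 r (cW r).2.2.1
    refine absurd (rG_inj y (funext fun x => ?_)) h0
    rw [map_zero]
    rcases x with i | r
    · refine P45.car_zero hk (fun l => ?_) i
      obtain ⟨j, hj, hb, e1 | e1 | e1⟩ := (P45.chkM k hk).1 l
      · exact P45.lam_zero hH s1 (tr a5) hj (h2 ▸ hb) e1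
      · exact P45.lam_zero hH s2 (tr c5) hj (h2 ▸ hb) e1
      · exact P45.lam_zero hH s3 (tr d5) hj (h2 ▸ hb) e1
    · exact hH r
  · have h3 := h2 B hB
    simp only [s0.ok b1 (tr a2), s0.ok b2 (tr c2), s0.ok b3 (tr d2), b0.ok s1 (tr a3), b0.ok s2 (tr c3),
      b0.ok s3 (tr d3), b0.ok b1 (tr a4), b0.ok b2 (tr c4), b0.ok b3 (tr d4), Bool.and_self, Bool.not_true,
      Bool.false_eq_true, or_false] at h3
    refine absurd (rG_inj y (funext fun x => ?_)) f0
    rw [map_zero]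
    rcases x with i | r
    · exact b0.car i
    · by_contra h4
      obtain ⟨i, hi, ei⟩ := b0.mem r h4
      simpa [h3] using (b0.bit i hi r ei).2 h4


end CL.E81
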