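/-
`E₈(3)`, `L₂(81)`: purity in the first case, by a table of sums of roots.
-/
import Cfsg.Agent.KSG.E81.Pur45

set_option autoImplicit false
set_option backward.isDefEq.respectTransparency false

namespace CL.E81.Pur1b
open Module Function Finset CL.SL2Wt CL.Chev CL.AltE Cfsg.Lie
open CL.E82 (R8 val ww)
open CL.E83 (K3 G3)
open Matrix hiding zpow_add zpow_mul zpow_sub one_zpow
open scoped MatrixGroups

/-- the roots of weight `k` -/
def LK (k : ℕ) : List ℕ := [[87, 91, 92, 96, 97, 98, 102, 103, 104, 108, 109, 113, 126, 130, 131, 135, 136, 137, 141, 142, 143, 147, 148, 152], [121, 123, 127, 132, 138, 144, 149, 153, 156], [124, 128, 133, 139, 145, 150, 154, 157], [159, 162, 163, 164, 165, 169, 170, 174, 184], [166, 171, 175, 178, 185, 188, 194, 204], [167, 172, 176, 179, 186, 189, 195, 205], [181, 191, 197, 200, 207, 210, 214, 219], [120], [122], [125, 129, 134, 140, 146,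 151, 155, 158, 226], [160], [161], [168, 173, 177, 180, 187, 190, 196, 206], [0, 182, 192, 198, 201, 208, 211, 215, 220], [183, 193, 199, 202, 209, 212, 216, 221], [203, 213, 217, 218, 222, 223, 224, 225], [227], [228], [229, 230, 231, 232, 233, 234, 235, 236], [237], [1, 238], [2], [3, 4, 5, 6, 7, 8, 9, 10], [11], [12], [14, 15, 16, 17, 21, 22, 26, 36], [18, 23, 27, 30, 37, 40, 46, 56], [19, 24, 28, 31, 38, 41, 47, 57, 239], [33, 43, 49, 52, 59, 62, 66, 71], [78], [79], [13, 81, 84, 88, 93, 99, 105, 110, 114], [117], [119], [20, 25, 29, 32, 39, 42, 48, 58], [34, 44, 50, 53, 60, 63, 67, 72], [35, 45, 51, 54, 61, 64, 68, 73], [55, 65, 69, 70, 74, 75, 76, 77, 80], [82, 85, 89, 94, 100, 106, 111, 115], [83, 86, 90, 95, 101, 107, 112, 116, 118]].getD k []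
/-- the even root of weight `k` -/
def be (k : ℕ) : R8 := ⟨[0, 121, 0, 159, 0, 0, 0, 0, 0, 226, 0, 0, 0, 0, 0, 0, 0, 0, 0, 0, 0, 0, 0, 0, 0, 0, 0, 239, 0, 0, 0, 13, 0, 0, 0, 0, 0, 80, 0, 118].getD k 0 % 240, Nat.mod_lt _ (by norm_num)⟩
/-- the sum of `r` and `s` is a root which arises only once -/
def uq (L L' : List ℕ) (r s : ℕ) : Prop :=
  P45.ad r s < 240 ∧ ∀ r' ∈ L, ∀ s' ∈ L', P45.ad r' s' = P45.ad r s → r' = r ∧ s' = s
instance (L L' : List ℕ) (r s : ℕ) : Decidable (uq L L' r s) := by unfold uq; infer_instance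

theorem chk1 : ∀ r : R8, (r : ℕ) ∈ LK (val (CT 0) r % 40).toNat ∧
    ∀ k ∈ X8, (r : ℕ) ∈ LK k → (Even (val (BZ 0) r) ↔ r = be k) := by decide +kernel

theorem chk2 : ∀ k ∈ X8, k % 40 = k ∧ 40 - k ∈ X8 ∧ 40 - (40 - k) = k ∧ ¬ k ≡ 0 [MOD 40] ∧ ¬ 3 * k ≡ 0 [MOD 40] ∧
    ¬ 38 * k % 40 ≡ 0 [MOD 40] ∧ piL (D := chevE8) (LW 0) (be k) = be (3 * k % 40) ∧
    (∀ r ∈ LK k, r ≠ be k → uq (LK k) (LK (3 * (40 - k) % 40)) r (be (3 * (40 - k) % 40))) ∧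
    ∀ s ∈ LK (38 * k % 40 % 40), uq (LK k) (LK (38 * k % 40 % 40)) (be k) s := by decide +kernel

theorem key {u v : V3} (hu : ∀ i, u (Sum.inl i) = 0) (hv : ∀ i, v (Sum.inl i) = 0) (h : br u v = 0) {L L' : List ℕ}
    (mu : ∀ r : R8, u (Sum.inr r) ≠ 0 → (r : ℕ) ∈ L) (mv : ∀ r : R8, v (Sum.inr r) ≠ 0 → (r : ℕ) ∈ L') {r s : R8}
    (ur : u (Sum.inr r) ≠ 0) (vs : v (Sum.inr s) ≠ 0) (q : uq L L' r s) : False := by
  obtain ⟨r', s', ne, a, b, e⟩ := P45.pair hu hv h (w := ⟨P45.ad r s, q.1⟩)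
    (coN_add (D := chevE8) r.2 s.2 q.1) ur vs
  have := q.2 _ (mu _ a) _ (mv _ b) (add_eq_of_coN (D := chevE8) r'.2 s'.2 q.1 e)
  exact ne ⟨Fin.ext this.1, Fin.ext this.2⟩

variable {ξ : K3ˣ} {s z : G3} {y m : Γ3} {t t' : Fin 8 → K3ˣ}

theorem supp (Φ : Fz ξ 0 s z y m t t') {k : ℕ} {e : V3} (he : e ∈ Es s ξ k) (r : R8)
    (hr : rG y e (Sum.inr r) ≠ 0) : (r : ℕ) ∈ LK (k % 40) := by
  have h1 : val (CT 0) r ≡ k [ZMOD 40] := by_contra fun hn => hr (((Φ.mem_es _ _).1 he).1 r hn)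
  have h2 : (val (CT 0) r % 40).toNat = k % 40 := by unfold Int.ModEq at h1; omega
  exact h2 ▸ (chk1 r).1

theorem half (Φ : Fz ξ 0 s z y m t t') {k : ℕ} (hk : k ∈ X8) {e f : V3} (he : e ∈ Es s ξ k)
    (hf : f ∈ Es s ξ (40 - k)) (h : br e (Fr f) = 0) {r : R8} (hr : rG y e (Sum.inr r) ≠ 0) (ne : r ≠ be k) :
    rG y f (Sum.inr (be (40 - k))) = 0 := by
  by_contra h0
  obtain ⟨c1, c2, -, c4, -, -, -, c8, -⟩ := chk2 k hk
  obtain ⟨-, -, -, -, d5, -, d7, -⟩ := chk2 _ c2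
  have f1 := Φ.fr_es hf
  have me := supp Φ he
  rw [c1] at me
  obtain ⟨ε, hε, h1⟩ := Φ.frm.fr_root (be (40 - k))
  have h2 := h1 f
  rw [wW_eq, d7] at h2
  refine key (((Φ.mem_es _ _).1 he).2 c4) (((Φ.mem_es _ _).1 f1).2 d5) (by rw [← br_map, h, map_zero]) me
    (supp Φ f1) hr ?_ (c8 r (me r hr) fun e => ne (Fin.ext e))
  rw [h2]
  rcases hε with rfl | rfl <;> simpa using h0

theorem odd (Φ : Fz ξ 0 s z y m t t') {k : ℕ} (hk : k ∈ X8) {e : V3} (he : e ∈ Es s ξ k)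
    (h : rG y e (Sum.inr (be k)) = 0) : rho z e = -e := by
  obtain ⟨c1, -, -, c4, -⟩ := chk2 k hk
  refine rG_inj y (funext fun x => ?_)
  rw [map_neg, Pi.neg_apply]
  rcases x with i | r
  · rw [Φ.z_cartan e i, ((Φ.mem_es _ _).1 he).2 c4, neg_zero]
  · rw [Φ.z_root]
    by_cases h3 : rG y e (Sum.inr r) = 0
    · rw [h3, mul_zero, neg_zero]
    · rw [if_neg fun h4 => h3 (((chk1 r).2 k hk (c1 ▸ supp Φ he r h3)).1 h4 ▸ h), neg_one_mul]

theorem ex (Φ : Fz ξ 0 s z y m t t') {k : ℕ} (hk : ¬ k ≡ 0 [MOD 40]) {e : V3} (he : e ∈ Es s ξ k) (e0 : e ≠ 0) :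
    ∃ r, rG y e (Sum.inr r) ≠ 0 := by
  by_contra! h
  refine e0 (rG_inj y (funext fun x => ?_))
  rw [map_zero]
  rcases x with i | r
  exacts [((Φ.mem_es _ _).1 he).2 hk i, h r]

variable {a : Fin 6} (Φ : Fz ξ a s z y m t t')
include Φ

theorem pur1 (ha : a = 0) {k : ℕ} (hk : k ∈ X8) {e f : V3} (he : e ∈ Es s ξ k) (hf : f ∈ Es s ξ (40 - k)) (f0 : f ≠ 0)
    (h1 : br e (Fr f) = 0) (h2 : br f (Fr e) = 0) : rho z e = e ∨ rho z e = -e := by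
  subst ha
  obtain ⟨c1, c2, c3, -⟩ := chk2 k hk
  by_cases hx : ∃ r, rG y e (Sum.inr r) ≠ 0 ∧ r ≠ be k
  · obtain ⟨r, hr, ne⟩ := hx
    have h3 := half Φ hk he hf h1 hr ne
    obtain ⟨r', hr'⟩ := ex Φ (chk2 _ c2).2.2.2.1 hf f0
    have h4 := half Φ c2 hf (c3.symm ▸ he) h2 hr' fun e => hr' (e ▸ h3)
    rw [c3] at h4
    exact Or.inr (odd Φ hk he h4)
  · push Not at hx
    refine Or.inl (rG_inj y (funext fun x => ?_))
    rcases x with i | r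
    · exact Φ.z_cartan e i
    · rw [Φ.z_root]
      by_cases h3 : rG y e (Sum.inr r) = 0
      · rw [h3, mul_zero]
      · rw [if_pos (((chk1 r).2 k hk (c1 ▸ supp Φ he r h3)).2 (hx r h3)), one_mul]

theorem purL (ha : a = 0) {k : ℕ} (hk : k ∈ X8) {v u : V3} (hv : v ∈ Es s ξ k) (hu : u ∈ Es s ξ (38 * k % 40))
    (u0 : u ≠ 0) (h : br v u = 0) : rho z v = -v := by
  subst ha
  obtain ⟨c1, -, -, c4, -, c6, -, -, c9⟩ := chk2 k hk
  refine odd Φ hk hv (by_contra fun h0 => ?_)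
  obtain ⟨r, hr⟩ := ex Φ c6 hu u0
  have mv := supp Φ hv
  rw [c1] at mv
  exact key (((Φ.mem_es _ _).1 hv).2 c4) (((Φ.mem_es _ _).1 hu).2 c6) (by rw [← br_map, h, map_zero]) mv
    (supp Φ hu) h0 hr (c9 r (supp Φ hu r hr))

end CL.E81.Pur1b
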