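/-
`E₈(3)`, `L₂(81)`: purity in the first case.
-/
import Cfsg.Agent.KSG.E81.Frame
import Cfsg.Agent.KSG.E81.Pur1b

set_option autoImplicit false
set_option backward.isDefEq.respectTransparency false

namespace CL.E81
open Module Function Finset CL.SL2Wt CL.Chev CL.AltE Cfsg.Lie
open CL.E82 (R8 val ww)
open CL.E83 (K3 G3)
open Matrix hiding zpow_add zpow_mul zpow_sub one_zpow
open scoped MatrixGroups

variable {ξ : K3ˣ} {a : Fin 6} {s z : G3} {y m : Γ3} {t t' : Fin 8 → K3ˣ} (Φ : Fz ξ a s z y m t t')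
include Φ

/-- PROOF: for k ∈ X8 there is exactly one root β k of weight k with even BZ-value (8 odd ones).  Write vectors of weight k as
x + c e_(β k), x odd.  The odd part of [e, Fr f] is [x, c' e_(β (-3k))] + [c e_(β k), x']; A (β k) r' = 0 for the odd roots
r' of weight -3k, and A (β (-3k)) r = -1 for the odd roots r of weight k, so x(e) = 0 or c'(Fr f) = 0, i.e. c(f) = 0
(`Frm.fr_root`, w (β k) = β (3k)).  Symmetrically x(f) = 0 or c(e) = 0.  If x(e) ≠ 0 then c(f) = 0, x(f) ≠ 0, c(e) = 0.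
(Look at single coordinates of the bracket: the coordinate β' + r.) -/
theorem Fz.pur1 (ha : a = 0) {k : ℕ} (hk : k ∈ X8) {e f : V3} (he : e ∈ Es s ξ k) (hf : f ∈ Es s ξ (40 - k)) (f0 : f ≠ 0)
    (h1 : br e (Fr f) = 0) (h2 : br f (Fr e) = 0) : rho z e = e ∨ rho z e = -e := 
  Pur1b.pur1 Φ ha hk he hf f0 h1 h2

/-- PROOF: all roots r of weight -2k are odd and A (β k) r = -1; the odd part of [v,u] is c [e_(β k), u]. -/
theorem Fz.purL (ha : a = 0) {k : ℕ} (hk : k ∈ X8) {v u : V3} (hv : v ∈ Es s ξ k) (hu : u ∈ Es s ξ (38 * k % 40))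
    (u0 : u ≠ 0) (h : br v u = 0) : rho z v = -v := 
  Pur1b.purL Φ ha hk hv hu u0 h

end CL.E81
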