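/-
Eigenvalue multiplicities on a tensor product.
-/
import Cfsg.Agent.KSG.E81.Defs

set_option autoImplicit false
set_option backward.isDefEq.respectTransparency false

namespace CL.E81.TenG
open Module Function Finset CL.AltE

theorem tens {K : Type} [Field K] [IsAlgClosed K] {W₁ W₂ : Type} [AddCommGroup W₁] [Module K W₁] [FiniteDimensional K W₁]
    [AddCommGroup W₂] [Module K W₂] [FiniteDimensional K W₂] (A : End K W₁) (B : End K W₂) {n : ℕ} (n0 : (n : K) ≠ 0)
    (hA : A ^ n = 1) (hB : B ^ n = 1) {ζ : K} (hζ : IsPrimitiveRoot ζ n) (j : ℕ) :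
    finrank K (End.eigenspace (TensorProduct.map A B) (ζ ^ j)) =
      ∑ k ∈ range n, finrank K (A.eigenspace (ζ ^ k)) * finrank K (B.eigenspace (ζ ^ (j + (n - k)))) := by
  classical
  have : NeZero n := ⟨fun h => n0 (by rw [h, Nat.cast_zero])⟩
  obtain ⟨I, _, v, d, li, sp, hd⟩ := exists_eb_top (J := Unit) (fun _ => A) (fun _ _ => Commute.refl _) n0 fun _ => hA
  obtain ⟨I', _, v', d', li', sp', hd'⟩ := exists_eb_top (J := Unit) (fun _ => B) (fun _ _ => Commute.refl _) n0 fun _ => hB
  have dm : ∀ μ, finrank K (A.eigenspace μ) = #{i | d () i = μ} := fun μ => by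
    have := finrank_inf₁ li (hd ()) μ (fun i => d () i = μ) fun _ => Iff.rfl
    rwa [sp, top_inf_eq] at this
  have dm' : ∀ μ, finrank K (B.eigenspace μ) = #{i | d' () i = μ} := fun μ => by
    have := finrank_inf₁ li' (hd' ()) μ (fun i => d' () i = μ) fun _ => Iff.rfl
    rwa [sp', top_inf_eq] at this
  let b := Basis.mk li sp.ge
  let b' := Basis.mk li' sp'.ge
  have h1 := finrank_inf₁ (b.tensorProduct b').linearIndependent (f := TensorProduct.map A B)
    (d := fun p => d () p.1 * d' () p.2) (fun p => by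
      rw [Basis.tensorProduct_apply', TensorProduct.map_tmul, Basis.mk_apply, Basis.mk_apply, hd, hd',
        TensorProduct.smul_tmul_smul]) (ζ ^ j) (fun p => d () p.1 * d' () p.2 = ζ ^ j) fun _ => Iff.rfl
  rw [Basis.span_eq, top_inf_eq] at h1
  have h2 : ∀ i, ∃ k < n, ζ ^ k = d () i := fun i => hζ.eq_pow_of_pow_eq_one (by
    have := (End.hasEigenvector_iff.2 ⟨End.mem_eigenspace_iff.2 (hd () i), li.ne_zero i⟩).pow_apply n
    rw [hA, End.one_apply] at this
    exact smul_left_injective K (li.ne_zero i) (this.symm.trans (one_smul K _).symm))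
  choose κ hκ eκ using h2
  rw [h1, card_filter, Fintype.sum_prod_type, ← sum_fiberwise_of_maps_to (g := κ) fun i _ => mem_range.2 (hκ i)]
  refine sum_congr rfl fun k hk => ?_
  have hk' := mem_range.1 hk
  rw [dm, dm', card_eq_sum_ones, sum_mul, one_mul]
  refine sum_congr (filter_congr fun i _ => ?_) fun i hi => ?_
  · rw [← eκ]
    exact ⟨fun h => by rw [h], fun h => hζ.pow_inj (hκ i) hk' h⟩
  · have e : ζ ^ k * ζ ^ (j + (n - k)) = ζ ^ j := by
      rw [← pow_add, show k + (j + (n - k)) = j + n by omega, pow_add, hζ.pow_eq_one, mul_one]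
    rw [card_filter]
    refine sum_congr rfl fun j _ => if_congr ?_ rfl rfl
    dsimp only
    rw [(mem_filter.1 hi).2, ← e]
    exact mul_right_inj' (pow_ne_zero _ (hζ.ne_zero (NeZero.ne n)))

end CL.E81.TenG
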