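/-
`E₈(3)`, `L₂(81)`: equivariant bilinear maps.
-/
import Cfsg.Agent.KSG.E81.RR
import Cfsg.Agent.KSG.E81.TenG
import Cfsg.Agent.KSG.E81.TyA

set_option autoImplicit false
set_option backward.isDefEq.respectTransparency false

namespace CL.E81
open Module Function Finset CL.SL2Wt CL.Chev CL.AltE Cfsg.Lie
open CL.E82 (R8 val ww)
open CL.E83 (K3 G3)
open Matrix hiding zpow_add zpow_mul zpow_sub one_zpow
open scoped MatrixGroups

variable {F : Type*} [Field F] [Fintype F] (D : Dt F) {W : Type} [AddCommGroup W] [Module K3 W]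
  [FiniteDimensional K3 W] (ρ : SL(2, F) →* End K3 W)

namespace Ten

section
variable {W₁ W₂ : Type} [AddCommGroup W₁] [Module K3 W₁]
  [FiniteDimensional K3 W₁] [AddCommGroup W₂] [Module K3 W₂] [FiniteDimensional K3 W₂]
  (ρ₁ : SL(2, F) →* End K3 W₁) (ρ₂ : SL(2, F) →* End K3 W₂)

/-- tensor product -/
noncomputable def tp : SL(2, F) →* End K3 (TensorProduct K3 W₁ W₂) := Representation.tprod ρ₁ ρ₂

omit [Fintype F] [FiniteDimensional K3 W₁] [FiniteDimensional K3 W₂] in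
theorem tp_tmul (g : SL(2, F)) (u : W₁) (v : W₂) : tp ρ₁ ρ₂ g (u ⊗ₜ v) = ρ₁ g u ⊗ₜ ρ₂ g v := rfl

theorem n0 {n : ℕ} (hn : ¬ 3 ∣ n) : (n : K3) ≠ 0 := mt (CharP.cast_eq_zero_iff K3 3 n).1 hn

theorem dim_t (j : ℕ) : finrank K3 (Wt D (tp ρ₁ ρ₂) j) =
    ∑ k ∈ range 80, finrank K3 (Wt D ρ₁ k) * finrank K3 (Wt D ρ₂ (j + (80 - k))) :=
  TenG.tens (ρ₁ D.t) (ρ₂ D.t) (n0 (n := 80) (by norm_num)) (by rw [← map_pow, ← D.ord_t, pow_orderOf_eq_one, map_one])
    (by rw [← map_pow, ← D.ord_t, pow_orderOf_eq_one, map_one])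
    (IsPrimitiveRoot.coe_units_iff.2 (D.hζ ▸ IsPrimitiveRoot.orderOf D.ζ)) j

theorem dim_s (j : ℕ) : finrank K3 (Ws D (tp ρ₁ ρ₂) j) =
    ∑ k ∈ range 82, finrank K3 (Ws D ρ₁ k) * finrank K3 (Ws D ρ₂ (j + (82 - k))) :=
  TenG.tens (ρ₁ D.s) (ρ₂ D.s) (n0 (n := 82) (by norm_num)) (by rw [← map_pow, ← D.ord_s, pow_orderOf_eq_one, map_one])
    (by rw [← map_pow, ← D.ord_s, pow_orderOf_eq_one, map_one])
    (IsPrimitiveRoot.coe_units_iff.2 (D.hη ▸ IsPrimitiveRoot.orderOf D.η)) j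

omit [FiniteDimensional K3 W₁] [FiniteDimensional K3 W₂] in
theorem eig_map {j : W₁ →ₗ[K3] W₂} (hj : Injective j) {X : End K3 W₁} {Y : End K3 W₂} (h : ∀ x, j (X x) = Y (j x))
    (μ : K3) : finrank K3 ↥(LinearMap.range j ⊓ Y.eigenspace μ) = finrank K3 ↥(⊤ ⊓ X.eigenspace μ) := by
  have e : Submodule.map j (⊤ ⊓ X.eigenspace μ) = LinearMap.range j ⊓ Y.eigenspace μ := by
    ext y
    simp only [top_inf_eq, Submodule.mem_map, Submodule.mem_inf, LinearMap.mem_range, End.mem_eigenspace_iff]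
    constructor
    · rintro ⟨x, hx, rfl⟩
      exact ⟨⟨x, rfl⟩, by rw [← h, hx, map_smul]⟩
    · rintro ⟨⟨x, rfl⟩, hx⟩
      exact ⟨x, hj (by rw [h, hx, map_smul]), rfl⟩
  rw [← e]
  exact (Submodule.equivMapOfInjective j hj _).finrank_eq.symm

omit [FiniteDimensional K3 W₂] in
/-- an equivariant embedding preserves the type -/
theorem RR_inj {j : W₁ →ₗ[K3] W₂} (hj : Injective j) (h : ∀ g x, j (ρ₁ g x) = ρ₂ g (j x)) :
    RR D ρ₂ (LinearMap.range j) = RR D ρ₁ ⊤ := by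
  obtain ⟨h1, h2, h3⟩ := RR_spec D ρ₁ (N := ⊤) fun _ _ _ => trivial
  exact RR_eq D ρ₂ ⟨h1, fun k => (eig_map hj (h _) _).trans (h2 k), fun k => (eig_map hj (h _) _).trans (h3 k)⟩

omit [FiniteDimensional K3 W₂] in
/-- the type of an equivariant image -/
theorem RR_range {f : W₁ →ₗ[K3] W₂} (h : ∀ g x, f (ρ₁ g x) = ρ₂ g (f x)) :
    RR D ρ₂ (LinearMap.range f) ≤ RR D ρ₁ ⊤ := by
  have hU : Inv ρ₁ (LinearMap.ker f) := fun g x hx => by
    rw [LinearMap.mem_ker, h, LinearMap.mem_ker.1 hx, map_zero]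
  rw [RR_quo D ρ₁ hU, ← Submodule.range_liftQ _ f le_rfl,
    RR_inj D (quoR ρ₁ _ hU) ρ₂ (LinearMap.ker_eq_bot.1 (Submodule.ker_liftQ_eq_bot _ f le_rfl le_rfl)) fun g x => by
      obtain ⟨x, rfl⟩ := Submodule.mkQ_surjective _ x
      rw [quoR_mk]
      exact h g x]
  exact Multiset.le_add_left _ _

end

theorem cw_mod (n r k : ℕ) : cw n r (k % n) = cw n r k := by
  rw [cw, cw, Nat.mod_mod]

/-- fast evaluation -/
def cv (n r k : ℕ) : ℕ := TyA.hist n r >>> (8 * k) % 256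

theorem cw_cv {n r k : ℕ} (hn : n ∈ [80, 82]) (hr : r < 81) (hk : k < n) : cw n r k = cv n r k := by
  simp only [List.mem_cons, List.not_mem_nil, or_false] at hn
  rcases hn with rfl | rfl
  · exact TyA.cw80 r hr k hk
  · exact TyA.cw82 r hr k hk

theorem conv_cv {n a c : ℕ} (hn : n ∈ [80, 82]) (ha : a < 81) (hc : c < 81) {k : ℕ} (hk : k < n) :
    ∑ i ∈ range n, cw n a i * cw n c ((k + n - i) % n) = ∑ i ∈ range n, cv n a i * cv n c ((k + n - i) % n) :=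
  sum_congr rfl fun i hi => by rw [cw_cv hn ha (mem_range.1 hi), cw_cv hn hc (Nat.mod_lt _ (by omega))]

theorem chk3 : ∀ a ∈ [2, 6, 18, 54], ∀ c ∈ [2, 6, 18, 54], a ≠ c → ∀ n ∈ [80, 82], ∀ k < n,
    cw n (a + c) k = ∑ i ∈ range n, cw n a i * cw n c ((k + n - i) % n) := by
  have : ∀ a ∈ [2, 6, 18, 54], ∀ c ∈ [2, 6, 18, 54], a ≠ c → ∀ n ∈ [80, 82], ∀ k < n,
      cv n (a + c) k = ∑ i ∈ range n, cv n a i * cv n c ((k + n - i) % n) := by
    decide +kernel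
  intro a ha c hc h n hn k hk
  have h1 := this a ha c hc h n hn k hk
  simp only [List.mem_cons, List.not_mem_nil, or_false] at ha hc
  rw [conv_cv hn (by omega) (by omega) hk, cw_cv hn (by omega) hk, h1]

/-- the factors of `L(a) ⊗ L(a)` -/
def TT (a : ℕ) : List ℕ := EV.filter fun r => r % 3 ≤ 2 * (a % 3) ∧ r / 3 % 3 ≤ 2 * (a / 3 % 3) ∧
  r / 9 % 3 ≤ 2 * (a / 9 % 3) ∧ r / 27 ≤ 2 * (a / 27)

theorem EV_lt : ∀ r ∈ EV, r < 81 := by decide

theorem chkL : ∀ a ∈ [4, 12, 36, 28, 10, 30, 40], ∀ n ∈ [80, 82], ∀ k < n,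
    ((TT a).map (cw n · k)).sum = ∑ i ∈ range n, cw n a i * cw n a ((k + n - i) % n) := by
  have : ∀ a ∈ [4, 12, 36, 28, 10, 30, 40], ∀ n ∈ [80, 82], ∀ k < n,
      ((TT a).map (cv n · k)).sum = ∑ i ∈ range n, cv n a i * cv n a ((k + n - i) % n) := by
    decide +kernel
  intro a ha n hn k hk
  have h1 := this a ha n hn k hk
  simp only [List.mem_cons, List.not_mem_nil, or_false] at ha
  rw [conv_cv hn (by omega) (by omega) hk, ← h1]
  exact congrArg _ (List.map_congr_left fun r hr => cw_cv hn (EV_lt r (List.mem_filter.1 hr).1) hk)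

end Ten

omit [Fintype F] [FiniteDimensional K3 W] in
theorem map₂_inv (B : W →ₗ[K3] W →ₗ[K3] W) (hB : ∀ g u v, B (ρ g u) (ρ g v) = ρ g (B u v)) {A C : Submodule K3 W}
    (hA : Inv ρ A) (hC : Inv ρ C) : Inv ρ (Submodule.map₂ B A C) := by
  intro g v hv
  refine (Submodule.map₂_le (f := B) (p := A) (q := C) (r := (Submodule.map₂ B A C).comap (ρ g))).2
    (fun m hm n hn => ?_) hv
  rw [Submodule.mem_comap, ← hB]
  exact Submodule.apply_mem_map₂ B (hA g m hm) (hC g n hn)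

/-- PROOF: the representation on A ⊗ C maps onto `map₂ B A C` (kernel invariant, `RR_quo`, transport along the
isomorphism through the dimensions of `TyN`); the dimensions of its weight spaces are convolutions (cf. `CL.E82.Ten.tens`),
so its type is T by `cw_unique`. -/
theorem ten (B : W →ₗ[K3] W →ₗ[K3] W) (hB : ∀ g u v, B (ρ g u) (ρ g v) = ρ g (B u v)) {A C : Submodule K3 W}
    (hA : Inv ρ A) (hC : Inv ρ C) {a c : ℕ} (ha : RR D ρ A = {a}) (hc : RR D ρ C = {c}) {T : Multiset ℕ}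
    (hT : ∀ r ∈ T, r < 81) (h : ∀ n ∈ [80, 82], ∀ k < n,
      (T.map (cw n · k)).sum = ∑ i ∈ range n, cw n a i * cw n c ((k + n - i) % n)) :
    RR D ρ (Submodule.map₂ B A C) ≤ T := by
  have hb : ∀ g x, TensorProduct.lift (B.domRestrict₁₂ A C) (Ten.tp (subR ρ A hA) (subR ρ C hC) g x) =
      ρ g (TensorProduct.lift (B.domRestrict₁₂ A C) x) := fun g x =>
    LinearMap.congr_fun (TensorProduct.ext'
      (g := TensorProduct.lift (B.domRestrict₁₂ A C) ∘ₗ Ten.tp (subR ρ A hA) (subR ρ C hC) g)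
      (h := ρ g ∘ₗ TensorProduct.lift (B.domRestrict₁₂ A C)) fun u v => hB g u v) x
  have h1 := Ten.RR_range D _ ρ hb
  have h2 : LinearMap.range (TensorProduct.lift (B.domRestrict₁₂ A C)) = Submodule.map₂ B A C := by
    refine le_antisymm ?_ (Submodule.map₂_le.2 fun m hm n hn => ⟨⟨m, hm⟩ ⊗ₜ ⟨n, hn⟩, rfl⟩)
    rintro _ ⟨x, rfl⟩
    induction x using TensorProduct.induction_on with
    | zero => rw [map_zero]; exact zero_mem _
    | tmul u v => exact Submodule.apply_mem_map₂ B u.2 v.2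
    | add x y hx hy => rw [map_add]; exact add_mem hx hy
  have t1 := RR_ty D ρ hA
  have t2 := RR_ty D ρ hC
  rw [ha] at t1
  rw [hc] at t2
  have t3 := RR_top D (Ten.tp (subR ρ A hA) (subR ρ C hC))
  rw [h2, cw_unique t3.1 hT (fun k hk => ?_) fun k hk => ?_] at h1
  · exact h1
  · rw [← t3.dim_t, Ten.dim_t, h 80 (by simp) k hk]
    refine sum_congr rfl fun i hi => ?_
    rw [t1.dim_t, t2.dim_t, Ten.cw_mod, Nat.add_sub_assoc (mem_range.1 hi).le k]
    simp only [Multiset.map_singleton, Multiset.sum_singleton]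
  · rw [← t3.dim_s, Ten.dim_s, h 82 (by simp) k hk]
    refine sum_congr rfl fun i hi => ?_
    rw [t1.dim_s, t2.dim_s, Ten.cw_mod, Nat.add_sub_assoc (mem_range.1 hi).le k]
    simp only [Multiset.map_singleton, Multiset.sum_singleton]

/-- PROOF: `ten` with T = {a + c}, `decide +kernel`. -/
theorem ten3 (B : W →ₗ[K3] W →ₗ[K3] W) (hB : ∀ g u v, B (ρ g u) (ρ g v) = ρ g (B u v)) {A C : Submodule K3 W}
    (hA : Inv ρ A) (hC : Inv ρ C) {a c : ℕ} (ha : RR D ρ A = {a}) (hc : RR D ρ C = {c}) (h1 : a ∈ [2, 6, 18, 54])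
    (h2 : c ∈ [2, 6, 18, 54]) (h : a ≠ c) : RR D ρ (Submodule.map₂ B A C) ≤ {a + c} := by
  refine ten D ρ B hB hA hC ha hc (fun r hr => ?_) fun n hn k hk => ?_
  · rw [Multiset.mem_singleton.1 hr]
    simp only [List.mem_cons, List.not_mem_nil, or_false] at h1 h2
    omega
  · rw [Multiset.map_singleton, Multiset.sum_singleton]
    exact Ten.chk3 a h1 c h2 h n hn k hk

/-- PROOF: `ten` with T = all r whose digits are 0 or 2 at the non-zero digits of a, 0 elsewhere. -/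
theorem tenL (B : W →ₗ[K3] W →ₗ[K3] W) (hB : ∀ g u v, B (ρ g u) (ρ g v) = ρ g (B u v)) {A : Submodule K3 W}
    (hA : Inv ρ A) {a : ℕ} (ha : RR D ρ A = {a}) (h1 : a ∈ [4, 12, 36, 28, 10, 30, 40]) :
    ∀ r ∈ RR D ρ (Submodule.map₂ B A A), r ∈ EV := by
  have e : ∀ r ∈ (Ten.TT a : Multiset ℕ), r ∈ EV := fun r hr => (List.mem_filter.1 (Multiset.mem_coe.1 hr)).1
  have := ten D ρ B hB hA hA ha ha (T := (Ten.TT a : Multiset ℕ)) (fun r hr => Ten.EV_lt r (e r hr)) fun n hn k hk => by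
    rw [Multiset.map_coe, Multiset.sum_coe]
    exact Ten.chkL a h1 n hn k hk
  exact fun r hr => e r (Multiset.mem_of_le this hr)

end CL.E81
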