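/-
`E₈(3)`, `L₂(81)`: no three-dimensional simple submodule.
-/
import Cfsg.Agent.KSG.E81.M0
import Cfsg.Agent.KSG.E81.Perp
import Cfsg.Agent.KSG.E81.Ten
import Cfsg.Agent.KSG.E81.Pur1
import Cfsg.Agent.KSG.E81.Pur45

set_option autoImplicit false
set_option maxRecDepth 100000
set_option backward.isDefEq.respectTransparency false

namespace CL.E81
open Module Function Finset CL.SL2Wt CL.Chev CL.AltE Cfsg.Lie
open CL.E82 (R8 val ww)
open CL.E83 (K3 G3)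
open Matrix hiding zpow_add zpow_mul zpow_sub one_zpow
open scoped MatrixGroups

variable {F : Type*} [Field F] [Fintype F] {D : Dt F} {H : Subgroup G3} {θ : SL(2, F) →* G3} {a : Fin 6}
  (S : Su D H θ a) {z : G3} {y m : Γ3} {t t' : Fin 8 → K3ˣ}
include S

/-- PROOF: N_j = frS^[j] N is invariant of type tw^[j] r ≠ r (`frS_inv`, `RR_fr`); `ten3` (B = br, `br_rho`):
RR (map₂ br N N_j) ≤ {r + r'} and ≤ RL a (`S.le`), r + r' ∉ RL a, so map₂ = ⊥ (`RR_zero`). -/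
theorem Su.comm3 (ha : a = 0 ∨ a = 3 ∨ a = 4) {N : Submodule K3 V3} (hN : Inv (rh θ) N) {r : ℕ}
    (hr : RR D (rh θ) N = {r}) (h : r ∈ [2, 6, 18, 54]) {j : ℕ} (hj : j ∈ [1, 2, 3]) {u v : V3} (hu : u ∈ N) (hv : v ∈ N) :
    br u (Fr^[j] v) = 0 := by
  have key : ∀ i, Inv (rh θ) (frS^[i] N) ∧ RR D (rh θ) (frS^[i] N) = {tw^[i] r} ∧ Fr^[i] v ∈ frS^[i] N := by
    intro i
    induction i with
    | zero => exact ⟨hN, hr, hv⟩
    | succ i ih =>
      simp only [iterate_succ_apply']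
      refine ⟨frS_inv θ ih.1, ?_, mem_frS.2 ⟨_, ih.2.2, rfl⟩⟩
      rw [RR_fr D θ ih.1, ih.2.1, Multiset.map_singleton]
  obtain ⟨k1, k2, k3⟩ := key j
  have hB : ∀ g u v, br (rh θ g u) (rh θ g v) = rh θ g (br u v) := fun g u v => (br_rho (θ g) u v).symm
  have hd : ∀ r ∈ [2, 6, 18, 54], ∀ j ∈ [1, 2, 3], tw^[j] r ∈ [2, 6, 18, 54] ∧ r ≠ tw^[j] r ∧
      r + tw^[j] r ∉ RL 0 ∧ r + tw^[j] r ∉ RL 3 ∧ r + tw^[j] r ∉ RL 4 := by decide +kernel
  obtain ⟨d1, d2, d3, d4, d5⟩ := hd r h j hj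
  have hI := map₂_inv (rh θ) br hB hN k1
  have h1 := ten3 D (rh θ) br hB hN k1 hr k2 h d1 d2
  rcases Multiset.le_singleton.1 h1 with h2 | h2
  · have h3 := Submodule.apply_mem_map₂ br hu k3
    rwa [(RR_zero D (rh θ) hI).1 h2, Submodule.mem_bot] at h3
  · have h3 := S.le hI
    rw [h2, Multiset.singleton_le, Multiset.mem_coe] at h3
    rcases ha with rfl | rfl | rfl
    · exact absurd h3 d3
    · exact absurd h3 d4
    · exact absurd h3 d5

/-- PROOF: `Su.kill` with P N = Sm N ∧ finrank N = 3, k = 4.  Such an N has RR N = {r}, r ∈ [2,6,18,54] (`Sm.simp`, `RR_dim`,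
`S.le`), its weights r, 0, 80 - r have multiplicity one (`wt_one`; half weights r/2, 40 - r/2 ∈ X8, `wt_es`), the others do not
occur (`wt_zero`).  e, f are eigenvectors of z (`pur1`, `pur45`, also with e and f exchanged), h is fixed (`fix0`);
`le_of_wt` with U = N.comap (rho z). -/
theorem Su.no3 (ha : a = 0 ∨ a = 3 ∨ a = 4) {N : Submodule K3 V3} (hN : Inv (rh θ) N) {r : ℕ}
    (hr : RR D (rh θ) N = {r}) (h : r ∈ [2, 6, 18, 54]) : False := by
  obtain ⟨z, y, m, t, t', Φ⟩ := S.fz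
  have ha5 : a ≠ 5 := by rcases ha with rfl | rfl | rfl <;> decide
  have hd1 : ∀ r ∈ [2, 6, 18, 54], #(JJ r) = 3 ∧ cw 80 r 4 = 0 ∧ cw 80 r (2 * 0) = 1 ∧
      ∀ k < 80, cw 80 r k = 0 ∨ k = 0 ∨ ∃ k' ∈ X8, k = 2 * k' ∧ cw 80 r (2 * (40 - k')) = 1 := by decide +kernel
  have hd2 : ∀ r < 81, #(JJ r) = 3 → r ∈ [2, 6, 18, 54] := by decide +kernel
  have ty : ∀ M : Submodule K3 V3, Sm (rh θ) M → finrank K3 M = 3 → ∃ r ∈ [2, 6, 18, 54], RR D (rh θ) M = {r} := by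
    intro M hM h3
    obtain ⟨r, φ, x, hs, hr⟩ := hM.simp D
    refine ⟨r, hd2 r hs.lt ?_, hr⟩
    rw [RR_dim D (rh θ) hM.1, hr, Multiset.map_singleton, Multiset.sum_singleton] at h3
    exact h3
  have hsm := sm_of_RR D (rh θ) hN hr
  refine S.kill ha5 Φ (fun M => Sm (rh θ) M ∧ finrank K3 M = 3) (N0 := N) (k := 4)
    (fun g hg M hM => ⟨(S.map_sm hg hM.1).1, (S.map_sm hg hM.1).2.trans hM.2⟩) ⟨hsm, ?_⟩ hsm.2.1 ?_ ?_ ?_
  · rw [RR_dim D (rh θ) hN, hr, Multiset.map_singleton, Multiset.sum_singleton]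
    exact (hd1 r h).1
  · rcases ha with rfl | rfl | rfl <;> decide +kernel
  · intro M hM
    obtain ⟨r, h, hr⟩ := ty M hM.1 hM.2
    refine ⟨hM.1.1, ?_⟩
    rw [hr, Multiset.map_singleton, Multiset.sum_singleton]
    exact (hd1 r h).2.1
  · intro M hM
    obtain ⟨r, h, hr⟩ := ty M hM.1 hM.2
    have hI := hM.1.1
    have hc : ∀ k, ((RR D (rh θ) M).map (cw 80 · k)).sum = cw 80 r k := fun k => by
      rw [hr, Multiset.map_singleton, Multiset.sum_singleton]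
    refine le_of_wt D (rh θ) (U := M.comap (rho z)) hI fun k hk v hv hw => ?_
    rw [Submodule.mem_comap]
    rcases (hd1 r h).2.2.2 k hk with h0 | rfl | ⟨k', hk', rfl, h1⟩
    · rw [wt_zero D (rh θ) hI ((hc k).trans h0) hv hw, map_zero]
      exact M.zero_mem
    · have hw' : v ∈ Wt D (rh θ) (2 * 0) := hw
      rw [wt_es] at hw'
      rw [Φ.fix0 hw']
      exact hv
    · obtain ⟨f, hf, hfw, f0, -⟩ := wt_one D (rh θ) hI ((hc _).trans h1)
      obtain ⟨e, he, hew, e0, -⟩ := wt_one D (rh θ) hI ((hc _).trans (hd1 r h).2.2.1)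
      rw [wt_es] at hw hfw hew
      have hcm := fun j hj u w hu hw => S.comm3 ha hI hr h (j := j) hj (u := u) (v := w) hu hw
      have hz : rho z v = v ∨ rho z v = -v := by
        by_cases ha0 : a = 0
        · exact Φ.pur1 ha0 hk' hw hfw f0 (hcm 1 (by simp) _ _ hv hf) (hcm 1 (by simp) _ _ hf hv)
        · exact Φ.pur45 (ha.resolve_left ha0) hk' hw hfw hew f0 e0 fun j hj =>
            ⟨hcm j hj _ _ hv hv, hcm j hj _ _ hv hf, hcm j hj _ _ hf hv, hcm j hj _ _ hf hf, hcm j hj _ _ he hv⟩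
      rcases hz with hz | hz <;> rw [hz]
      · exact hv
      · exact M.neg_mem hv

/-- PROOF: if map₂ br N N ≠ ⊥ it contains a simple submodule (`exists_sm`, `map₂_inv`) of a type in EV (`tenL`, `RR_mono`) and in
RL a, so 0 (`Sm.fix`, `noFix`) or 2, 6, 18, 54 (`no3`). -/
theorem Su.abel (ha : a = 0 ∨ a = 3) {N : Submodule K3 V3} (hN : Inv (rh θ) N) {r : ℕ}
    (hr : RR D (rh θ) N = {r}) (h : r ∈ [4, 12, 36, 28, 10, 30, 40]) {u v : V3} (hu : u ∈ N) (hv : v ∈ N) : br u v = 0 := by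
  by_contra h0
  have hB : ∀ g u v, br (rh θ g u) (rh θ g v) = rh θ g (br u v) := fun g u v => (br_rho (θ g) u v).symm
  have hI := map₂_inv (rh θ) br hB hN hN
  have h1 : Submodule.map₂ br N N ≠ ⊥ := fun h1 => h0 (by
    have h3 := Submodule.apply_mem_map₂ br hu hv
    rwa [h1, Submodule.mem_bot] at h3)
  obtain ⟨U, hU, hs⟩ := exists_sm (rh θ) hI h1
  obtain ⟨r', φ, x, -, hr'⟩ := hs.simp D
  have h2 := RR_mono D (rh θ) hs.1 hI hU
  have h3 := S.le hs.1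
  rw [hr', Multiset.singleton_le] at h2 h3
  have h4 := tenL D (rh θ) br hB hN hr h r' h2
  rw [Multiset.mem_coe] at h3
  have hd : ∀ r ∈ EV, r ∈ RL 0 ∨ r ∈ RL 3 → r = 0 ∨ r ∈ [2, 6, 18, 54] := by decide +kernel
  rcases hd r' h4 (by rcases ha with rfl | rfl; exacts [Or.inl h3, Or.inr h3]) with rfl | h5
  · obtain ⟨w, -, w0, hw⟩ := Sm.fix D (rh θ) hs hr'
    exact w0 (S.noFix (by rcases ha with rfl | rfl <;> decide) w hw)
  · exact S.no3 (ha.imp_right Or.inl) hs.1 hr' h5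

end CL.E81
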