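/-
`E₈(3)`, `L₂(81)`: the first case.
-/
import Cfsg.Agent.KSG.E81.M3

set_option autoImplicit false
set_option backward.isDefEq.respectTransparency false

namespace CL.E81
open Module Function Finset CL.SL2Wt CL.Chev CL.AltE Cfsg.Lie
open CL.E82 (R8 val ww)
open CL.E83 (K3 G3)
open Matrix hiding zpow_add zpow_mul zpow_sub one_zpow
open scoped MatrixGroups

variable {F : Type*} [Field F] [Fintype F] {D : Dt F} {H : Subgroup G3} {θ : SL(2, F) →* G3} {a : Fin 6}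
  (S : Su D H θ a) {z : G3} {y m : Γ3} {t t' : Fin 8 → K3ˣ}
include S

/-- PROOF: `Su.kill` with P = Sm, k = 0.  A simple N has type r ∈ RL 0, r ≠ 0 (`noFix`), r ∉ [2,6,18,54] (`no3`), so
r ∈ [4,12,36,28,10,30,40], no weight 0.  `le_of_wt`: v ∈ N of weight k; odd k: v = 0; k = 2 k', k' ∉ X8: `Fz.scal`; k' ∈ X8 and
v ≠ 0: then r ∈ [4,12,36,28] and the half weight -2k' occurs in N (`wt_one`), `abel`, `Fz.purL`. -/
theorem Su.not1 (ha : a = 0) : False := by
  obtain ⟨z, y, m, t, t', Φ⟩ := S.fz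
  have a5 : a ≠ 5 := by rw [ha]; decide
  have nf := S.noFix a5
  have f1 : ∀ r ∈ RL 0, r ≠ 0 → r ∉ [2, 6, 18, 54] → r ∈ [4, 12, 36, 28, 10, 30, 40] := by decide +kernel
  have f2 : ∀ r ∈ [4, 12, 36, 28, 10, 30, 40], cw 80 r 0 = 0 := by decide +kernel
  have f3 : ∀ r ∈ [4, 12, 36, 28, 10, 30, 40], ∀ k < 80, cw 80 r k ≠ 0 →
      k % 2 = 0 ∧ (k / 2 ∈ X8 → cw 80 r (2 * (38 * (k / 2) % 40)) = 1) := by decide +kernel
  have f4 : (((RL 0 : List ℕ) : Multiset ℕ).map (cw 80 · 0)).sum ≠ 0 := by decide +kernel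
  have key : ∀ N, Sm (rh θ) N → ∃ r ∈ [4, 12, 36, 28, 10, 30, 40], RR D (rh θ) N = {r} := by
    intro N hN
    obtain ⟨r, φ, w, -, hr⟩ := Sm.simp D (rh θ) hN
    have hle := S.le hN.1
    rw [hr, ha, Multiset.singleton_le, Multiset.mem_coe] at hle
    have r0 : r ≠ 0 := by
      rintro rfl
      obtain ⟨v, -, v0, hv⟩ := Sm.fix D (rh θ) hN hr
      exact v0 (nf v hv)
    exact ⟨r, f1 r hle r0 fun h => S.no3 (Or.inl ha) hN.1 hr h, hr⟩
  have htop : Inv (rh θ) (⊤ : Submodule K3 V3) := fun _ _ _ => Submodule.mem_top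
  have hne : (⊤ : Submodule K3 V3) ≠ ⊥ := by
    intro h
    have h0 := (RR_zero D (rh θ) htop).2 h
    rw [S.rr, ha] at h0
    rw [h0] at f4
    exact f4 (by simp)
  obtain ⟨N0, -, h0⟩ := exists_sm (rh θ) htop hne
  refine S.kill a5 Φ (Sm (rh θ)) (fun h hh N hN => (S.map_sm hh hN).1) h0 h0.2.1 (k := 0) (by rw [ha]; exact f4)
    (fun N hN => ?_) (fun N hN v hv => ?_)
  · obtain ⟨r, hr, e⟩ := key N hN
    refine ⟨hN.1, ?_⟩
    rw [e, Multiset.map_singleton, Multiset.sum_singleton]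
    exact f2 r hr
  · obtain ⟨r, hr, e⟩ := key N hN
    refine le_of_wt D (rh θ) (U := N.comap (rho z)) hN.1 (fun k hk v hv hw => ?_) hv
    rw [Submodule.mem_comap]
    by_cases c0 : cw 80 r k = 0
    · rw [wt_zero D (rh θ) hN.1 (k := k) (by rw [e, Multiset.map_singleton, Multiset.sum_singleton]; exact c0) hv hw,
        map_zero]
      exact N.zero_mem
    obtain ⟨k2, hX⟩ := f3 r hr k hk c0
    have ek : k = 2 * (k / 2) := by omega
    rw [ek, wt_es] at hw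
    by_cases hx : k / 2 ∈ X8
    · obtain ⟨u, hu, hu', u0, -⟩ := wt_one D (rh θ) hN.1 (k := 2 * (38 * (k / 2) % 40))
        (by rw [e, Multiset.map_singleton, Multiset.sum_singleton]; exact hX hx)
      rw [wt_es] at hu'
      rw [Φ.purL ha hx hw hu' u0 (S.abel (Or.inl ha) hN.1 e hr hv hu)]
      exact N.neg_mem hv
    · obtain ⟨ε, hε⟩ := Φ.scal ha (k := k / 2) (by omega) hx
      rw [hε v hw]
      exact N.smul_mem ε hv

end CL.E81
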