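/-
`E₈(3)`, `L₂(81)`: elements inverting a regular element.
-/
import Cfsg.Agent.KSG.E81.Frame
import Cfsg.Agent.KSG.E81.FrA

set_option autoImplicit false
set_option backward.isDefEq.respectTransparency false

namespace CL.E81
open Module Function Finset CL.SL2Wt CL.Chev CL.AltE Cfsg.Lie
open CL.E82 (R8 val ww)
open CL.E83 (K3 G3)
open Matrix hiding zpow_add zpow_mul zpow_sub one_zpow
open scoped MatrixGroups

namespace NegX

/-- a word for the longest element -/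
def l0 : List (Fin 8) := [7,6,5,4,3,2,1,3,4,5,6,0,2,3,4,5,1,3,4,2,3,0,2,1,3,4,5,6,7,6,5,4,3,2,1,3,4,5,6,0,2,3,
  4,5,1,3,4,2,3,0,2,1,3,4,5,6,7,6,5,4,3,2,1,3,4,5,6,0,2,3,4,5,1,3,4,2,3,0,2,1,3,4,5,6,0,2,3,4,5,1,3,4,2,3,0,2,1,3,4,5,
  1,3,4,2,3,0,2,1,3,4,2,3,0,2,1,3,0,2,1,0]

theorem l0_ng : ∀ r, piL (D := chevE8) l0 r = ng r := by decide +kernel

theorem reg : ∀ r, ¬ val (CT 3) r ≡ 0 [ZMOD (40 : ℕ)] := by decide +kernel

theorem w0 (r : R8) : (l0.map (rootSys chevE8).sp).prod r = ng r := (piL_eq _ _).trans (l0_ng r)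

theorem ch_ng (t : Fin 8 → K3ˣ) (r : R8) : ch t (ng r) = (ch t r)⁻¹ := by
  rw [ch, ← rootSys_neg, RootSys.wt_neg', ← neg_one_smul ℤ, uchr_smul, _root_.zpow_neg_one]

theorem ch_inv (t : Fin 8 → K3ˣ) (r : R8) : ch t⁻¹ r = (ch t r)⁻¹ := by
  rw [ch, ← _root_.zpow_neg_one, CL.E82.Frame.uchr_zp, _root_.zpow_neg_one]

theorem inv_tor (t : Fin 8 → K3ˣ) :
    (stS chevE8 K3).nw l0 * tor8 t * ((stS chevE8 K3).nw l0)⁻¹ = (tor8 t)⁻¹ := by
  have h1 := (stS chevE8 K3).acts_nw l0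
  have e : (l0.map (rootSys chevE8).sp).prod = (l0.map (rootSys chevE8).sp).prod⁻¹ :=
    eq_inv_of_mul_eq_one_left (Equiv.ext fun r => by
      rw [Equiv.Perm.mul_apply, w0, w0, Equiv.Perm.one_apply]; exact Fin.rev_rev r)
  refine (alg.r3.conj_torHom h1 t).trans ((congrArg tor8 (ch_inj fun r => ?_)).trans (map_inv tor8 t))
  rw [e, FrA.ch_act h1.1, w0, ch_ng, ch_inv]

theorem mono {ξ : K3ˣ} (ho : orderOf ξ = 40) {t : Fin 8 → K3ˣ} (ht : ∀ r, ch t r = ξ ^ val (CT 3) r) {γ : Γ3}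
    (h : γ * tor8 t * γ⁻¹ = (tor8 t)⁻¹) :
    ∃ c : R8 → K3, (∀ r, c r ≠ 0) ∧ ∀ r, rG γ (ee r) = c r • ee (ng r) := by
  have h0 : (rootSys chevE8).Phi t = ∅ := Set.eq_empty_of_forall_notMem fun r hr => reg r (by
    have : ξ ^ val (CT 3) r = ξ ^ (0 : ℤ) := by rw [← ht, zpow_zero]; exact hr
    rwa [zpow_eq_zpow_iff_modEq, ho] at this)
  have h3 := (alg.centralizer_torHom t).le (x := ((stS chevE8 K3).nw l0)⁻¹ * γ)
    (Subgroup.mem_centralizer_singleton_iff.2 (by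
      have h1 := inv_tor t
      rw [← h] at h1
      generalize (stS chevE8 K3).nw l0 = n at h1
      change n⁻¹ * γ * tor8 t = tor8 t * (n⁻¹ * γ)
      generalize tor8 t = T at h1
      calc n⁻¹ * γ * T = n⁻¹ * (γ * T * γ⁻¹) * γ := by group
        _ = _ := by rw [← h1]; group))
  rw [h0, StData.XS_empty, bot_sup_eq, ← alg.r3.range_torHom] at h3
  obtain ⟨τ, hτ⟩ := h3
  have e : γ = (stS chevE8 K3).nw l0 * tor8 τ := by
    rw [show tor8 τ = _ from hτ, mul_inv_cancel_left]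
  choose ε e1 e2 using (FrA.nw_spec l0).1
  refine ⟨fun r => (ch τ r : K3) * ε r, fun r => mul_ne_zero (Units.ne_zero _) ?_, fun r => ?_⟩
  · rcases e1 r with h | h <;> simp [h]
  · rw [e, rG_mul, tor_ee, map_smul, e2, w0, smul_smul]

theorem coord {x : End K3 V3} {c : R8 → K3} (h : ∀ r, x (ee r) = c r • ee (ng r)) {u : V3}
    (hu : ∀ i, u (Sum.inl i) = 0) :
    (∀ i, x u (Sum.inl i) = 0) ∧ ∀ r, x u (Sum.inr (ng r)) = c r * u (Sum.inr r) := by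
  have e : x u = ∑ r : R8, (u (Sum.inr r) * c r) • ee (ng r) := by
    conv_lhs => rw [eq_sum u]
    simp only [hu, zero_smul, sum_const_zero, add_zero, map_sum, map_smul, h, smul_smul]
  refine ⟨fun i => ?_, fun r => ?_⟩
  · rw [e, Finset.sum_apply]
    exact sum_eq_zero fun r _ => by rw [Pi.smul_apply, LA.ee_inl, smul_zero]
  · rw [e, Finset.sum_apply, sum_eq_single r]
    · rw [Pi.smul_apply, LA.ee_inr, if_pos rfl, smul_eq_mul, mul_one, mul_comm]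
    · intro b _ hb
      rw [Pi.smul_apply, LA.ee_inr, if_neg fun h : ng r = ng b => hb (Fin.rev_injective h).symm, smul_zero]
    · simp

/-- dual vectors modulo three, in base three -/
def cert : List ℕ := [1866, 0, 0, 0, 0, 0, 0, 0, 738, 5028, 0, 0, 4473, 0, 0, 0, 162, 0, 0, 0, 0, 0, 0, 0, 0, 0, 0, 0, 0, 0, 0, 0, 0, 0, 0, 0, 0, 0, 0, 0, 0, 0, 0, 0, 0, 0, 0, 0, 0, 0, 0, 0, 0, 0, 0, 0, 0, 0, 0, 0, 0, 0, 0, 0, 0, 0, 0, 0, 0, 0, 0, 0, 0, 0, 0, 0, 0, 0, 0, 0, 0, 0, 0, 0, 0, 0, 0, 0, 0, 0, 0, 0, 0, 0, 0, 0, 0, 0, 0, 0, 0, 0, 0, 0, 0, 0, 0, 0, 0, 0, 0, 0, 0, 0, 0, 0, 0, 0, 0, 0, 0, 0, 2187, 0, 5103, 0, 0, 3888, 0, 0, 0, 5670, 0, 0, 2187, 0, 9, 0, 0, 1359, 3951, 0, 4095, 0, 0, 4824, 1260, 0, 0, 1701, 5103, 3489, 567, 1701, 4782, 0, 1722, 0, 0, 0, 0, 0, 0, 0, 351, 567, 1872, 0, 0, 1404, 495, 0, 0, 0, 0, 0, 0, 0, 0, 0, 0, 0, 0, 810, 0, 0, 0, 0, 0, 0, 0, 0, 225, 2568, 0, 0, 2214, 351,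 5727, 0, 5622, 0, 0, 1755, 0, 5733, 1998, 2760, 0, 0, 0, 0, 621, 0, 0, 963, 0, 0, 0, 5967]

/-- their digits -/
def dd (r : R8) (i : Fin 8) : ℤ := (cert.getD r.1 0 / 3 ^ i.1 % 3 : ℕ)

theorem chk : ∀ k ∈ [2, 6, 18, 14, 5, 15, 7], ∀ r : R8, val (CT 3) r ≡ (k : ℕ) [ZMOD 40] →
    ∀ s : R8, val (CT 3) s ≡ (k : ℕ) [ZMOD 40] →
      (∑ i : Fin 8, dd r i * cor (D := chevE8) s i) ≡ (if s = r then 1 else 0) [ZMOD 3] := by
  decide +kernel

theorem val_add {r s u : R8} (h : co u = co r + co (ng s)) (c : Fin 8 → ℕ) : val c u = val c r - val c s := by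
  simp only [E82.val, h, co_ng, Pi.add_apply, Pi.neg_apply, add_mul, neg_mul, sum_add_distrib, sum_neg_distrib]
  ring

theorem br_off {k : ℕ} {r s : R8} (hr : val (CT 3) r ≡ k [ZMOD 40]) (hs : val (CT 3) s ≡ k [ZMOD 40]) (h : s ≠ r) :
    br (ee r) (ee (ng s)) = 0 := by
  rcases root_cases r (ng s) with e | ⟨u, e, -⟩ | e
  · exact absurd (Fin.rev_injective e) h
  · refine absurd ?_ (reg u)
    rw [val_add e]
    simpa using hr.sub hs
  · exact br_ee_zero e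

theorem br_ne {k : ℕ} (hk : k ∈ [2, 6, 18, 14, 5, 15, 7]) {u u2 : V3}
    (h1 : ∀ r, ¬ val (CT 3) r ≡ k [ZMOD 40] → u (.inr r) = 0) (h2 : ∀ i, u (.inl i) = 0) (h3 : ∀ i, u2 (.inl i) = 0)
    (c : R8 → K3) (hc : ∀ r, c r ≠ 0) (h4 : ∀ r, u2 (.inr (ng r)) = c r * u (.inr r)) (u0 : u ≠ 0) : br u u2 ≠ 0 := by
  intro h0
  have e1 : u = ∑ r : R8, u (.inr r) • ee r := by
    conv_lhs => rw [eq_sum u]
    simp only [h2, zero_smul, sum_const_zero, add_zero]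
  have e2 : u2 = ∑ s : R8, (c s * u (.inr s)) • ee (ng s) := by
    conv_lhs => rw [eq_sum u2]
    simp only [h3, zero_smul, sum_const_zero, add_zero]
    exact (Fintype.sum_equiv Fin.revPerm _ _ fun s => by rw [← h4]; rfl).symm
  have e3 : br u u2 = ∑ r : R8, (u (.inr r) * (c r * u (.inr r))) • hh r := by
    conv_lhs => rw [e1, map_sum, LinearMap.sum_apply]
    refine sum_congr rfl fun r _ => ?_
    rw [map_smul, LinearMap.smul_apply, e2, map_sum, smul_sum, sum_eq_single r]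
    · rw [map_smul, br_ee_ng, smul_smul]
    · intro s _ hs
      by_cases a : val (CT 3) r ≡ k [ZMOD 40]
      · by_cases b : val (CT 3) s ≡ k [ZMOD 40]
        · rw [map_smul, br_off a b hs, smul_zero, smul_zero]
        · rw [h1 s b, mul_zero, zero_smul, map_zero, smul_zero]
      · rw [h1 r a, zero_smul]
    · simp
  refine u0 (e1.trans (sum_eq_zero fun r _ => ?_))
  by_cases a : val (CT 3) r ≡ k [ZMOD 40]
  swap
  · rw [h1 r a, zero_smul]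
  let L : V3 →ₗ[K3] K3 := ∑ i : Fin 8, (dd r i : K3) • pr (Sum.inl i)
  have hL : ∀ s : R8, val (CT 3) s ≡ k [ZMOD 40] → L (hh s) = if s = r then 1 else 0 := fun s b => by
    obtain ⟨x, hx⟩ := (chk k hk r a s b).dvd
    have e : L (hh s) = ((∑ i : Fin 8, dd r i * cor (D := chevE8) s i : ℤ) : K3) := by
      simp only [L, LinearMap.sum_apply, LinearMap.smul_apply, pr_apply, smul_eq_mul, Int.cast_sum, Int.cast_mul]
      rfl
    have e' := congrArg (Int.cast : ℤ → K3) hx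
    rw [Int.cast_sub, Int.cast_mul, Int.cast_ofNat, three0, zero_mul, sub_eq_zero] at e'
    rw [e, ← e']
    split_ifs <;> simp
  have e4 := congrArg L (e3.symm.trans h0)
  rw [map_sum, map_zero, sum_eq_single r] at e4
  · rw [map_smul, hL r a, if_pos rfl, smul_eq_mul, mul_one, mul_left_comm, mul_eq_zero, mul_self_eq_zero] at e4
    rw [e4.resolve_left (hc r), zero_smul]
  · intro s _ hs
    by_cases b : val (CT 3) s ≡ k [ZMOD 40]
    · rw [map_smul, hL s b, if_neg hs, smul_zero]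
    · rw [h1 s b, zero_mul, zero_smul, map_zero]
  · simp

end NegX

variable {ξ : K3ˣ} {a : Fin 6} {s z : G3} {y m : Γ3} {t t' : Fin 8 → K3ˣ} (Φ : Fz ξ a s z y m t t')
include Φ

/-- PROOF: n0 = nw l0 with piL l0 = ng, l0 = [7,6,5,4,3,2,1,3,4,5,6,0,2,3,4,5,1,3,4,2,3,0,2,1,3,4,5,6,7,6,5,4,3,2,1,3,4,5,6,0,2,3,
4,5,1,3,4,2,3,0,2,1,3,4,5,6,7,6,5,4,3,2,1,3,4,5,6,0,2,3,4,5,1,3,4,2,3,0,2,1,3,4,5,6,0,2,3,4,5,1,3,4,2,3,0,2,1,3,4,5,1,3,4,2,3,
0,2,1,3,4,2,3,0,2,1,3,0,2,1,0] inverts the torus; n0⁻¹ (y ψ(n) y⁻¹) centralises the regular element tor8 t, so it lies in the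
torus (`alg.centralizer_torHom`, `XS_empty`, `range_torHom` as in `CL.E83.exists_syl`).  So y ψ(n) y⁻¹ maps e_r to c_r e_(-r),
c_r ≠ 0, and [v, n v] = Σ a_r² c_r h_r (the other brackets vanish: no root has weight 0); the 6 roots of weight k are linearly
independent modulo 3 (certificate: integral vectors dual to them modulo 3). -/
theorem Fz.neg (ha : a = 3) {n : G3} (hn : n * s * n⁻¹ = s⁻¹) {k : ℕ} (hk : k ∈ [2, 6, 18, 14, 5, 15, 7]) {v : V3}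
    (hv : v ∈ Es s ξ k) (v0 : v ≠ 0) : br v (rho n v) ≠ 0 := by
  subst ha
  have hc : y * psi n * y⁻¹ * tor8 t * (y * psi n * y⁻¹)⁻¹ = (tor8 t)⁻¹ := by
    have e := congrArg psi hn
    rw [map_mul, map_mul, map_inv, map_inv] at e
    rw [← Φ.frm.conj]
    calc _ = y * (psi n * psi s * (psi n)⁻¹) * y⁻¹ := by group
      _ = _ := by rw [e]; group
  obtain ⟨c, c0, h1⟩ := NegX.mono Φ.ord Φ.ht hc
  obtain ⟨a1, a2⟩ := (Φ.mem_es k v).1 hv
  have hk0 : ¬ k ≡ 0 [MOD 40] := by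
    simp only [List.mem_cons, List.not_mem_nil, or_false] at hk
    rcases hk with rfl | rfl | rfl | rfl | rfl | rfl | rfl <;> decide
  obtain ⟨b1, b2⟩ := NegX.coord h1 (a2 hk0)
  intro h0
  refine NegX.br_ne hk a1 (a2 hk0) b1 c c0 b2 (fun e => v0 (rG_inj y (by rw [e, map_zero]))) ?_
  rw [← conj_apply rfl, ← br_map, h0, map_zero]

end CL.E81
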