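/-
`E₈(3)`, `L₂(81)`: the regular cases.
-/
import Cfsg.Agent.KSG.E81.M3
import Cfsg.Agent.KSG.E81.Neg
import Cfsg.Agent.KSG.E81.Lat
import Cfsg.Agent.KSG.E81.Ext

set_option autoImplicit false
set_option backward.isDefEq.respectTransparency false

namespace CL.E81
open Module Function Finset CL.SL2Wt CL.Chev CL.AltE Cfsg.Lie
open CL.E82 (R8 val ww)
open CL.E83 (K3 G3)
open Matrix hiding zpow_add zpow_mul zpow_sub one_zpow
open scoped MatrixGroups

namespace M45
theorem cwL : ∀ r ∈ [14, 16, 22, 32, 34, 38, 42, 46, 48, 58, 64, 66], cw 80 r 0 = 0 := by decide +kernel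
theorem cntL : ∀ r ∈ [14, 16, 22, 32, 34, 38, 42, 46, 48, 58, 64, 66], (RL 3 : Multiset ℕ).count r ≤ 1 := by
  decide +kernel
theorem sum0 : ((RL 3 : Multiset ℕ).map (cw 80 · 0)).sum ≠ 0 := by decide +kernel
theorem typ : ∀ r ∈ RL 3, r ∈ [14, 16, 22, 32, 34, 38, 42, 46, 48, 58, 64, 66] ∨ r ∈ [2, 6, 18, 54] ∨
    r ∈ [4, 12, 36, 28, 10, 30, 40] := by decide +kernel
theorem half : ∀ r ∈ [4, 12, 36, 28, 10, 30, 40], ∃ k ∈ [2, 6, 18, 14, 5, 15, 7], cw 80 r (2 * k) = 1 := by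
  decide +kernel
theorem cnt2 : (RL 4 : Multiset ℕ).count 2 = 1 := by decide +kernel
theorem typ5 : ∀ b ∈ RL 4, 2 ≤ (RL 4 : Multiset ℕ).count b → b = 40 := by decide +kernel
theorem shape {R : Multiset ℕ} (h2 : R.count 2 = 1) (h : ∀ b ∈ R, b = 2 ∨ b = 40) :
    R = {2} + Multiset.replicate (R.count 40) 40 := by
  ext b
  rw [Multiset.count_add, Multiset.count_singleton, Multiset.count_replicate]
  by_cases hb : b = 2
  · subst hb; simp [h2]
  · by_cases hc : b = 40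
    · subst hc; simp
    · rw [if_neg hb, if_neg (Ne.symm hc)]
      exact Multiset.count_eq_zero.2 fun hm => (h b hm).elim hb hc
theorem wn {F : Type*} [Field F] [Fintype F] (D : Dt F) {G : Type*} [Group G] (θ : SL(2, F) →* G) :
    θ ww * θ D.t * (θ ww)⁻¹ = (θ D.t)⁻¹ := by
  rw [← map_inv, ← map_mul, ← map_mul, D.w_t, map_inv]
end M45

variable {F : Type*} [Field F] [Fintype F] {D : Dt F} {H : Subgroup G3} {θ : SL(2, F) →* G3} {a : Fin 6}
  (S : Su D H θ a) {z : G3} {y m : Γ3} {t t' : Fin 8 → K3ˣ}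
include S

/-- PROOF: `exists_other` with L = [14,16,22,32,34,38,42,46,48,58,64,66], k = 0 gives a simple N of type in [2,6,18,54] (`no3`)
or [4,12,36,28,10,30,40]; take v ≠ 0 in N of half weight 2, 6, 18, 14, 5, 15, 7 (`wt_one`), n = θ ww (`Dt.w_t`): `Fz.neg`
contradicts `abel`. -/
theorem Su.not4 (ha : a = 3) : False := by
  subst ha
  have h0 : Wt D (rh θ) 0 ≠ ⊥ := by
    intro h
    have e := (RR_top D (rh θ)).dim_t D (rh θ) 0
    rw [h, finrank_bot, S.rr] at e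
    exact M45.sum0 e.symm
  obtain ⟨N, r, hN, hr, hL⟩ := exists_other D θ _ (by rw [S.rr]; exact M45.cntL) M45.cwL h0
  have hm : r ∈ RL 3 := by
    have := S.le hN.1
    rw [hr, Multiset.singleton_le] at this
    exact Multiset.mem_coe.1 this
  rcases M45.typ r hm with h | h | h
  · exact hL h
  · exact S.no3 (Or.inr (Or.inl rfl)) hN.1 hr h
  · obtain ⟨k, hk, e⟩ := M45.half r h
    obtain ⟨v, hv, hw, v0, -⟩ := wt_one D (rh θ) hN.1 (k := 2 * k) (by rw [hr]; simpa using e)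
    rw [wt_es] at hw
    obtain ⟨z, y, m, t, t', Φ⟩ := S.fz
    exact Φ.neg rfl (M45.wn D θ) hk hw v0 (S.abel (Or.inr rfl) hN.1 hr h hv (hN.1 ww v hv))

/-- PROOF: `lat` for 2 gives N with RR N = {2} + replicate n 40 (40 is the only type of multiplicity ≥ 2), `ext5`, `no3`. -/
theorem Su.not5 (ha : a = 4) : False := by
  subst ha
  obtain ⟨N, hN, h2, h⟩ := lat D θ (a := 2) (by rw [S.rr]; exact M45.cnt2)
  have hle := S.le hN
  have c2 : (RR D (rh θ) N).count 2 = 1 := by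
    have a1 := Multiset.count_le_of_le 2 hle
    have a2 := Multiset.one_le_count_iff_mem.2 h2
    rw [M45.cnt2] at a1
    omega
  have e := M45.shape c2 fun b hb => (h b hb).imp_right fun hc =>
    M45.typ5 b (Multiset.mem_coe.1 (Multiset.mem_of_le hle hb)) (by rwa [S.rr] at hc)
  obtain ⟨P, -, hP, hr⟩ := ext5 D (rh θ) hN e
  exact S.no3 (Or.inr (Or.inr rfl)) hP hr (by simp)

end CL.E81
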