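/-
`E₈(3)`, `L₂(81)`: cocycles with values in a simple module.
-/
import Cfsg.Agent.KSG.E81.Bas

set_option autoImplicit false
set_option backward.isDefEq.respectTransparency false

namespace CL.E81
open Module Function Finset CL.SL2Wt CL.Chev CL.AltE Cfsg.Lie
open CL.E82 (R8 val ww)
open CL.E83 (K3 G3)
open Matrix hiding zpow_add zpow_mul zpow_sub one_zpow
open scoped MatrixGroups

variable {F : Type*} [Field F] [Fintype F] (D : Dt F) {W : Type} [AddCommGroup W] [Module K3 W]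
  [FiniteDimensional K3 W] (ρ : SL(2, F) →* End K3 W)

namespace Zb

/-- the coordinates that are not forced to vanish -/
def sel (r : ℕ) : Finset (Fin 4 × ℕ) := (univ ×ˢ JJ r).filter fun p =>
  (79 * r + 2 * p.2) % 80 = 2 * 3 ^ (p.1 : ℕ) % 80 ∧
  ¬ (p.2 + 3 ^ (p.1 : ℕ) + 3 ^ (p.1 : ℕ) ∈ JJ r ∧ (p.2 + 3 ^ (p.1 : ℕ) + 3 ^ (p.1 : ℕ)) / 3 ^ (p.1 : ℕ) % 3 ≠ 0 ∧
    p.2 + 3 ^ (p.1 : ℕ) ∈ JJ r ∧ (p.2 + 3 ^ (p.1 : ℕ)) / 3 ^ (p.1 : ℕ) % 3 ≠ 0) ∧
  ¬ ∃ j : Fin 4, p.2 + 3 ^ (j : ℕ) ∈ JJ r ∧ (p.2 + 3 ^ (j : ℕ)) / 3 ^ (j : ℕ) % 3 ≠ 0 ∧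
    ((p.2 + 3 ^ (j : ℕ)) / 3 ^ (p.1 : ℕ) % 3 = 0 ∨ j < p.1)

theorem card_sel : ∀ r < 80, #(sel r) + (if r = 0 then 1 else 0) ≤ cw 80 r 0 + cL {r} := by decide +kernel

theorem luc : ∀ n < 81, ∀ i : Fin 4, n.choose (3 ^ (i : ℕ)) % 3 = n / 3 ^ (i : ℕ) % 3 := by
  simp only [Nat.choose_eq_descFactorial_div_factorial]
  decide +kernel

theorem dig_ne {x : ℕ} (h : x % 3 ≠ 0) : ((x % 3 : ℕ) : K3) ≠ 0 := fun e =>
  h (Nat.eq_zero_of_dvd_of_lt ((CharP.cast_eq_zero_iff K3 3 _).1 e) (Nat.mod_lt _ (by norm_num)))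

theorem lt_of_mem {r m : ℕ} (h : m ∈ JJ r) : m < 81 := mem_range.1 (mem_filter.1 h).1

variable {r : ℕ} (b : Basis (JJ r) K3 W)

/-- coordinates -/
noncomputable def co (n : ℕ) : W →ₗ[K3] K3 := if h : n ∈ JJ r then b.coord ⟨n, h⟩ else 0

omit [FiniteDimensional K3 W] in
theorem co_b (n : ℕ) (m : JJ r) : co b n (b m) = if (m : ℕ) = n then 1 else 0 := by
  unfold co
  split_ifs with h1 h2 h2
  · simp [← h2]
  · rw [Basis.coord_apply, b.repr_self, Finsupp.single_eq_of_ne fun e => h2 (congrArg Subtype.val e).symm]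
  · exact absurd (h2 ▸ m.2) h1
  · rfl

omit [FiniteDimensional K3 W] in
theorem co_EE {w : W} (h1 : ∀ m : JJ r, b m = XX D ρ m w) (h2 : ∀ m < 81, m ∉ JJ r → XX D ρ m w = 0) (i : Fin 4)
    {n : ℕ} (hn : n ∈ JJ r) (v : W) :
    co b n (EE D ρ i v) = ((n / 3 ^ (i : ℕ) % 3 : ℕ) : K3) * co b (n - 3 ^ (i : ℕ)) v := by
  have cx : ∀ k < 81, co b n (XX D ρ k w) = if k = n then 1 else 0 := fun k hk => by
    by_cases h : k ∈ JJ r
    · rw [← h1 ⟨k, h⟩, co_b]
    · rw [h2 k hk h, map_zero, if_neg fun e : k = n => h (e ▸ hn)]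
  have : co b n ∘ₗ EE D ρ i = ((n / 3 ^ (i : ℕ) % 3 : ℕ) : K3) • co b (n - 3 ^ (i : ℕ)) := b.ext fun m => by
    have hi : 3 ^ (i : ℕ) < 81 := by revert i; decide
    have hn' := lt_of_mem hn
    rw [LinearMap.comp_apply, LinearMap.smul_apply, co_b, h1, ← End.mul_apply, XX_mul D ρ hi (lt_of_mem m.2)]
    by_cases e : 3 ^ (i : ℕ) + m = n
    · rw [e, if_pos hn', LinearMap.smul_apply, map_smul, cx n hn', if_pos rfl, if_pos (by omega), ← luc n hn' i,
        CharP.cast_eq_mod K3 3]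
    · have e2 : ((n / 3 ^ (i : ℕ) % 3 : ℕ) : K3) • (if (m : ℕ) = n - 3 ^ (i : ℕ) then (1 : K3) else 0) = 0 := by
        split_ifs with e3
        · rw [Nat.div_eq_of_lt (by omega)]; simp
        · exact smul_zero _
      rw [e2]
      split_ifs with e4
      · rw [LinearMap.smul_apply, map_smul, cx _ e4, if_neg e, smul_zero]
      · rw [LinearMap.zero_apply, map_zero]
  exact LinearMap.congr_fun this v

omit [FiniteDimensional K3 W] in
theorem co_wt (h3 : ∀ m : JJ r, b m ∈ Wt D ρ (79 * r + 2 * m)) {k n : ℕ} {v : W} (hv : v ∈ Wt D ρ k)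
    (h : (79 * r + 2 * n) % 80 ≠ k % 80) : co b n v = 0 := by
  have e : co b n ∘ₗ ρ D.t = (D.ζ : K3) ^ (79 * r + 2 * n) • co b n := b.ext fun m => by
    rw [LinearMap.comp_apply, End.mem_eigenspace_iff.1 (h3 m), map_smul, LinearMap.smul_apply, co_b]
    split_ifs with e
    · rw [e]
    · simp
  have e2 := LinearMap.congr_fun e v
  rw [LinearMap.comp_apply, End.mem_eigenspace_iff.1 hv, map_smul, LinearMap.smul_apply] at e2
  by_contra n0
  have e3 : D.ζ ^ k = D.ζ ^ (79 * r + 2 * n) := Units.ext (by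
    simpa using mul_right_cancel₀ n0 e2)
  rw [pow_eq_pow_iff_modEq, D.hζ] at e3
  exact h e3.symm

end Zb

/-- PROOF: basis b m (m ≤ r digitwise), EE i (b m) = (m_i + 1) b (m + 3^i) if m_i < r_i, else 0 (`XX_mul`).  y i is a
combination of the b m with 79 r + 2 m ≡ 2·3^i mod 80.  The coordinate y_i[m] vanishes if m_i + 2 ≤ r_i (EE i EE i), or if
m_i = 0 and m_j < r_j for some j ≠ i (coordinate m + 3^j of EE i (y j) = EE j (y i)); if m_i ≥ 1 put m° = m - 3^i (weight 0);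
for m°_i < r_i, m°_j < r_j the coordinates y_i[m° + 3^i], y_j[m° + 3^j] determine each other.  So y is determined by one
coordinate for each m° of weight 0, and by the coordinates with m_i = 0, m_j = r_j (j ≠ i), r_i ≤ 1, which have the right
weight only for r = 4, 12, 36, 28 (one each).  For r = 0 all Wt (2·3^i) vanish.  Finite facts by `decide +kernel`. -/
theorem Simp.zb {r : ℕ} {φ : Dual K3 W} {z : W} (h : Simp D ρ r φ z) (hr : r ≠ 80) :
    finrank K3 (ZZ D ρ) + (if r = 0 then 1 else 0) ≤ cw 80 r 0 + cL {r} := by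
  obtain ⟨b, h1, h2, h3⟩ := h.basis
  refine le_trans (Nat.add_le_add_right ?_ _) (Zb.card_sel r (by have := h.lt; omega))
  let Φ : ZZ D ρ →ₗ[K3] (Zb.sel r → K3) := LinearMap.pi fun p =>
    Zb.co b p.1.2 ∘ₗ LinearMap.proj p.1.1 ∘ₗ (ZZ D ρ).subtype
  have := LinearMap.finrank_le_finrank_of_injective (f := Φ) ((injective_iff_map_eq_zero _).2 fun y hy => by
    obtain ⟨y1, y2, y3⟩ := (mem_ZZ D ρ).1 y.2
    have key : ∀ i : Fin 4, ∀ m, Zb.co b m (y.1 i) = 0 := fun i => by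
      induction i using WellFoundedLT.induction with | _ i ih =>
      intro m
      by_cases hm : m ∈ JJ r
      swap
      · rw [Zb.co, dif_neg hm]; rfl
      by_cases hs : (i, m) ∈ Zb.sel r
      · exact congrFun hy ⟨_, hs⟩
      rw [Zb.sel, mem_filter, not_and, not_and_or, not_and_or, not_not, not_not] at hs
      rcases hs (mem_product.2 ⟨mem_univ _, hm⟩) with hs | ⟨a1, a2, a3, a4⟩ | ⟨j, a1, a2, a3⟩
      · exact Zb.co_wt D ρ b h3 (y1 i) hs
      · have e := congrArg (Zb.co b (m + 3 ^ (i : ℕ) + 3 ^ (i : ℕ))) (y3 i)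
        rw [Zb.co_EE D ρ b h1 h2 i a1, Nat.add_sub_cancel, Zb.co_EE D ρ b h1 h2 i a3, Nat.add_sub_cancel, map_zero] at e
        exact (mul_eq_zero.1 ((mul_eq_zero.1 e).resolve_left (Zb.dig_ne a2))).resolve_left (Zb.dig_ne a4)
      · have e := congrArg (Zb.co b (m + 3 ^ (j : ℕ))) (y2 j i)
        rw [Zb.co_EE D ρ b h1 h2 j a1, Nat.add_sub_cancel, Zb.co_EE D ρ b h1 h2 i a1] at e
        refine (mul_eq_zero.1 (e.trans ?_)).resolve_left (Zb.dig_ne a2)
        rcases a3 with a3 | a3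
        · rw [a3, Nat.cast_zero, zero_mul]
        · rw [ih j a3, mul_zero]
    refine Subtype.ext (funext fun i => b.ext_elem fun m => ?_)
    have := key i m
    rw [Zb.co, dif_pos m.2] at this
    simpa using this)
  simpa using this

end CL.E81
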