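/-
`E₈(3)`, `L₂(81)`: pressure.
-/
import Cfsg.Agent.KSG.E81.Zb
import Cfsg.Agent.KSG.E81.RR

set_option autoImplicit false
set_option backward.isDefEq.respectTransparency false

namespace CL.E81
open Module Function Finset CL.SL2Wt CL.Chev CL.AltE Cfsg.Lie
open CL.E82 (R8 val ww)
open CL.E83 (K3 G3)
open Matrix hiding zpow_add zpow_mul zpow_sub one_zpow
open scoped MatrixGroups

variable {F : Type*} [Field F] [Fintype F] (D : Dt F) {W : Type} [AddCommGroup W] [Module K3 W]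
  [FiniteDimensional K3 W] (ρ : SL(2, F) →* End K3 W)

/-- PROOF: left exactness: the kernel of ZZ ρ → ZZ (quoR) embeds into ZZ (subR) (`XX_sub`, `XX_quo`). -/
theorem ZZ_le {U : Submodule K3 W} (hU : Inv ρ U) :
    finrank K3 (ZZ D ρ) ≤ finrank K3 (ZZ D (subR ρ U hU)) + finrank K3 (ZZ D (quoR ρ U hU)) := by
  let q0 : ZZ D ρ →ₗ[K3] (Fin 4 → W ⧸ U) := U.mkQ.compLeft (Fin 4) ∘ₗ (ZZ D ρ).subtype
  have hq : ∀ y, q0 y ∈ ZZ D (quoR ρ U hU) := by
    intro y
    obtain ⟨h1, h2, h3⟩ := (mem_ZZ D ρ).1 y.2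
    have e : ∀ i, q0 y i = U.mkQ (y.1 i) := fun _ => rfl
    rw [mem_ZZ]
    refine ⟨fun i => ?_, fun i j => ?_, fun i => ?_⟩
    · rw [End.mem_eigenspace_iff, e, quoR_mk, End.mem_eigenspace_iff.1 (h1 i), map_smul]
    · rw [e, e, XX_quo, XX_quo, h2]
    · rw [e, XX_quo, XX_quo, h3, map_zero]
  let q := q0.codRestrict _ hq
  have hk : ∀ y : LinearMap.ker q, ∀ i, y.1.1 i ∈ U := fun y i =>
    (Submodule.Quotient.mk_eq_zero U).1 (congrFun (congrArg Subtype.val y.2) i)
  let j0 : LinearMap.ker q →ₗ[K3] (Fin 4 → U) := LinearMap.pi fun i =>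
    (LinearMap.proj i ∘ₗ (ZZ D ρ).subtype ∘ₗ (LinearMap.ker q).subtype).codRestrict U fun y => hk y i
  have e : ∀ y i, (j0 y i : W) = y.1.1 i := fun _ _ => rfl
  have hj : ∀ y, j0 y ∈ ZZ D (subR ρ U hU) := by
    intro y
    obtain ⟨h1, h2, h3⟩ := (mem_ZZ D ρ).1 y.1.2
    rw [mem_ZZ]
    refine ⟨fun i => ?_, fun i j => ?_, fun i => ?_⟩
    · rw [End.mem_eigenspace_iff]
      exact Subtype.ext (End.mem_eigenspace_iff.1 (h1 i))
    · apply Subtype.ext
      rw [XX_sub, XX_sub, e, e, h2]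
    · apply Subtype.ext
      rw [XX_sub, XX_sub, e, h3]; rfl
  have hi : Injective (j0.codRestrict _ hj) := fun x y h =>
    Subtype.ext (Subtype.ext (funext fun i => congrArg Subtype.val (congrFun (congrArg Subtype.val h) i)))
  have a1 := LinearMap.finrank_le_finrank_of_injective hi
  have a2 := LinearMap.finrank_range_add_finrank_ker q
  have a3 := Submodule.finrank_le (LinearMap.range q)
  omega

/-- PROOF: v0 = v + Σ_a ρ(up a) ρ(ww) v = v - XX 80 (ρ ww v) is fixed by the group (`Dt.bruhat`; it is the sum over the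
projective line), so v = XX 80 (ρ ww v); P(W) := ∀ v, v = XX 80 (ρ ww v) → v = 0 by `ind` and `Simp.top80`. -/
theorem fixB {R : Multiset ℕ} (h : Ty D ρ R) (h80 : 80 ∉ R) (nf : NoFix ρ) {v : W} (hv : v ∈ Wt D ρ 0)
    (hU : ∀ a : F, ρ (up a) v = v) : v = 0 := by
  classical
  have P : ∀ x : W, x = XX D ρ 80 (ρ ww x) → x = 0 := by
    refine ind D ρ (fun r => r ≠ 80) (fun W _ _ _ ρ => ∀ x : W, x = XX D ρ 80 (ρ ww x) → x = 0) ?_ ?_ ?_ h
      (fun r hr e => h80 (e ▸ hr))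
    · intro W _ _ _ ρ hW x _
      exact Subsingleton.elim _ _
    · intro W _ _ _ ρ r φ z hr hs x hx
      rw [hx, Simp.top80 D ρ hs hr]; rfl
    · intro W _ _ _ ρ U hU h1 h2 x hx
      have a : U.mkQ x = 0 := h2 _ (by rw [quoR_mk, XX_quo, ← hx])
      have hxU : x ∈ U := (Submodule.Quotient.mk_eq_zero U).1 a
      exact congrArg Subtype.val (h1 ⟨x, hxU⟩ (Subtype.ext (by rw [XX_sub]; exact hx)))
  have ht : ρ D.t v = v := by simpa using End.mem_eigenspace_iff.1 hv
  have mul : ∀ g g' (x : W), ρ (g * g') x = ρ g (ρ g' x) := fun g g' x => by rw [map_mul]; rfl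
  have pw : ∀ x : W, ρ D.t x = x → ∀ k : ℕ, ρ (D.t ^ k) x = x := fun x hx k => by
    induction k with
    | zero => simp
    | succ k ih => rw [pow_succ, mul, hx, ih]
  have hB : ∀ g : SL(2, F), g 1 0 = 0 → ρ g v = v := by
    intro g hg
    rcases D.bruhat g with ⟨a, k, rfl⟩ | ⟨a, b, k, rfl⟩
    · rw [mul, pw v ht, hU]
    · rw [Dt.t, dg_pow] at hg
      simp [mul_ap, up, ww, dg] at hg
  have hc : ∀ g g' b : SL(2, F), b 1 0 = 0 → g = g' * b → ρ g v = ρ g' v := fun g g' b hb e => by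
    rw [e, mul, hB b hb]
  have hfix : ∀ g, ρ g (v + ∑ a : F, ρ (up a * ww) v) = v + ∑ a : F, ρ (up a * ww) v := by
    have f1 : ∀ b : F, ρ (up b) (v + ∑ a : F, ρ (up a * ww) v) = v + ∑ a : F, ρ (up a * ww) v := fun b => by
      rw [map_add, map_sum, hU]
      congr 1
      refine Fintype.sum_equiv (Equiv.addLeft b) _ _ fun a => ?_
      rw [← mul, ← mul_assoc, ← up_add]; rfl
    have f2 : ρ D.t (v + ∑ a : F, ρ (up a * ww) v) = v + ∑ a : F, ρ (up a * ww) v := by
      rw [map_add, map_sum, ht]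
      congr 1
      refine Fintype.sum_equiv (Equiv.mulLeft₀ ((D.c : F) * D.c) (by simp)) _ _ fun a => ?_
      rw [← mul]
      refine hc _ _ (dg D.c) rfl (ext4 ?_)
      simp [mul_ap, up, ww, dg, Dt.t, mul_assoc, mul_comm]
    have f3 : ρ ww (v + ∑ a : F, ρ (up a * ww) v) = v + ∑ a : F, ρ (up a * ww) v := by
      rw [map_add, map_sum, ← Finset.add_sum_erase _ _ (Finset.mem_univ (0 : F)),
        ← Finset.add_sum_erase _ (fun a => ρ (up a * ww) v) (Finset.mem_univ (0 : F)), up_zero, one_mul, ← mul,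
        hB (ww * ww) (by simp [mul_ap, ww]), add_left_comm]
      congr 2
      refine Finset.sum_bij' (fun a _ => -a⁻¹) (fun a _ => -a⁻¹) (by simp) (by simp) (by simp) (by simp) fun a ha => ?_
      have ha0 : a ≠ 0 := by simpa using ha
      rw [← mul]
      refine hc _ _ (mk a (-1) 0 a⁻¹ (by simp [ha0])) rfl (ext4 ?_)
      simp [mul_ap, up, ww, ha0]
    intro g
    rcases D.bruhat g with ⟨a, k, rfl⟩ | ⟨a, b, k, rfl⟩
    · rw [mul, pw _ f2, f1]
    · rw [mul, mul (up b), pw _ f2, f1, mul, f3, f1]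
  refine P v ?_
  have := nf _ hfix
  rw [XX, if_neg (by norm_num), LinearMap.neg_apply, LinearMap.sum_apply, eq_neg_iff_add_eq_zero, ← this]
  congr 1
  refine Finset.sum_congr rfl fun a _ => ?_
  rw [mul]; simp

/-- PROOF: by `ind` (with `exists_ty`, `Ty.add`, `Ty.unique`): finrank ZZ + count 0 R ≤ finrank (Wt 0) + cL R.
v ↦ (EE i v) is an injective (`fix_of_EE`, `fixB`) linear map Wt 0 → ZZ (`XX_wt`, `XX_comm`, `EE_cube`). -/
theorem press {R : Multiset ℕ} (h : Ty D ρ R) (h80 : 80 ∉ R) (nf : NoFix ρ) : R.count 0 ≤ cL R := by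
  have key : ∀ R', Ty D ρ R' → finrank K3 (ZZ D ρ) + R'.count 0 ≤ (R'.map (cw 80 · 0)).sum + cL R' := by
    refine ind D ρ (fun r => r ≠ 80) (fun W _ _ _ ρ => ∀ R', Ty D ρ R' →
      finrank K3 (ZZ D ρ) + R'.count 0 ≤ (R'.map (cw 80 · 0)).sum + cL R') ?_ ?_ ?_ h
      (fun r hr e => h80 (e ▸ hr))
    · intro W _ _ _ ρ hW R' h'
      have e0 : finrank K3 (ZZ D ρ) = 0 := Module.finrank_zero_of_subsingleton
      have e1 : R' = 0 := by
        by_contra hne
        obtain ⟨r, hr⟩ := Multiset.exists_mem_of_ne_zero hne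
        have hd := Ty.dim D ρ h'
        rw [Module.finrank_zero_of_subsingleton] at hd
        have h1 : #(JJ r) ≤ (R'.map fun r => #(JJ r)).sum :=
          Multiset.single_le_sum (fun _ _ => Nat.zero_le _) _ (Multiset.mem_map_of_mem _ hr)
        have h2 : 0 ∈ JJ r := by simp [JJ]
        have := Finset.card_pos.2 ⟨0, h2⟩
        omega
      rw [e0, e1]; simp
    · intro W _ _ _ ρ r φ z hr hs R' h'
      obtain rfl : R' = {r} := Ty.unique D ρ h' hs.ty
      have := Simp.zb D ρ hs hr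
      rw [Multiset.map_singleton, Multiset.sum_singleton, Multiset.count_singleton]
      by_cases h0 : r = 0
      · rw [if_pos h0] at this; rw [if_pos h0.symm]; exact this
      · rw [if_neg h0] at this; rw [if_neg (Ne.symm h0)]; exact this
    · intro W _ _ _ ρ U hU h1 h2 R' h'
      obtain ⟨R1, t1⟩ := exists_ty D (subR ρ U hU)
      obtain ⟨R2, t2⟩ := exists_ty D (quoR ρ U hU)
      obtain rfl : R' = R1 + R2 := Ty.unique D ρ h' (Ty.add D ρ hU t1 t2)
      have a1 := h1 R1 t1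
      have a2 := h2 R2 t2
      have a3 := ZZ_le D ρ hU
      simp only [cL, Multiset.count_add, Multiset.map_add, Multiset.sum_add] at a1 a2 ⊢
      omega
  have hlt : ∀ i : Fin 4, 3 ^ (i : ℕ) < 81 := by decide
  let L : Wt D ρ 0 →ₗ[K3] (Fin 4 → W) := LinearMap.pi fun i => EE D ρ i ∘ₗ (Wt D ρ 0).subtype
  have hL : ∀ v, L v ∈ ZZ D ρ := by
    intro v
    rw [mem_ZZ]
    refine ⟨fun i => ?_, fun i j => ?_, fun i => ?_⟩
    · have := XX_wt D ρ (hlt i) v.2
      rw [zero_add] at this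
      exact this
    · exact LinearMap.congr_fun (XX_comm D ρ (3 ^ (i : ℕ)) (3 ^ (j : ℕ))).eq (v : W)
    · exact LinearMap.congr_fun (EE_cube D ρ i) (v : W)
  have hinj : Injective (L.codRestrict _ hL) := by
    rw [injective_iff_map_eq_zero]
    intro v hv
    have h0 : ∀ i, EE D ρ i v = 0 := fun i => congrFun (congrArg Subtype.val hv) i
    exact Subtype.ext (fixB D ρ h h80 nf v.2 (fix_of_EE D ρ h0))
  have h1 := LinearMap.finrank_le_finrank_of_injective hinj
  have h2 := key R h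
  rw [Ty.dim_t D ρ h] at h1
  omega

theorem pressN {N : Submodule K3 W} (hN : Inv ρ N) (h80 : 80 ∉ RR D ρ N) (nf : NoFix ρ) :
    (RR D ρ N).count 0 ≤ cL (RR D ρ N) :=
  press D (subR ρ N hN) (RR_ty D ρ hN) h80 fun v hv =>
    Subtype.ext (nf v fun g => congrArg Subtype.val (hv g))

end CL.E81
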