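/-
`E₈(3)`, `L₂(81)`: the cases with fixed vectors.
-/
import Cfsg.Agent.KSG.E81.M0
import Cfsg.Agent.KSG.E81.Prs
import Cfsg.Agent.KSG.E81.Lat
import Cfsg.Agent.KSG.E81.Fix6

set_option autoImplicit false
set_option maxHeartbeats 400000
set_option backward.isDefEq.respectTransparency false

namespace CL.E81
open Module Function Finset CL.SL2Wt CL.Chev CL.AltE Cfsg.Lie
open CL.E82 (R8 val ww)
open CL.E83 (K3 G3)
open Matrix hiding zpow_add zpow_mul zpow_sub one_zpow
open scoped MatrixGroups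

theorem M6.cj {G : Type*} [Group G] (ρ : G →* End K3 V3) {a h b : G} (e : h⁻¹ * a * h⁻¹⁻¹ = b) {v : V3}
    (hv : ρ b v = v) : ρ a (ρ h v) = ρ h v := by
  have e' : a * h = h * b := by rw [← e]; group
  rw [← End.mul_apply, ← map_mul, e', map_mul, End.mul_apply, hv]

theorem M6.zp {G : Type*} [Group G] [Finite G] (ρ : G →* End K3 V3) {a b : G} (h : b ∈ Subgroup.zpowers a) {v : V3}
    (hv : ρ a v = v) : ρ b v = v := by
  obtain ⟨k, rfl⟩ := mem_powers_iff_mem_zpowers.2 h
  induction k with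
  | zero => simp
  | succ k ih =>
    simp only at ih ⊢
    rw [pow_succ, map_mul, End.mul_apply, hv, ih (Subgroup.npow_mem_zpowers a k)]

variable {F : Type*} [Field F] [Fintype F] {D : Dt F} {H : Subgroup G3} {θ : SL(2, F) →* G3} {a : Fin 6}
  (S : Su D H θ a) {z : G3} {y m : Γ3} {t t' : Fin 8 → K3ˣ}
include S

/-- PROOF: `press` with `RR_top`, `S.rr`, `noFix`: count 0 = 6 resp. 2, cL = 0. -/
theorem Su.not23 (ha : a = 1 ∨ a = 2) : False := by
  have h := press D (rh θ) (RR_top D (rh θ)) (by rw [S.rr]; rcases ha with rfl | rfl <;> decide)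
    (S.noFix (by rcases ha with rfl | rfl <;> decide))
  rw [S.rr] at h
  revert h
  rcases ha with rfl | rfl <;> decide

/-- PROOF: `selfd` + `pressN` (count 0 = cL = 4) give a fixed vector.  K = the fixed space is H-stable, ≠ ⊥, ≠ ⊤, stable under Fr
(`Fr_rho`) and br (`br_rho`), K ≤ Es 0.  `stab` puts the elements of `Fz.ord80`, `Fz.fix6` into H; `cen_t`. -/
theorem Su.not6 (ha : a = 5) : False := by
  subst ha
  have nf : ¬ NoFix (rh θ) := fun nf => by
    have h := selfd D θ (fun N hN => pressN D (rh θ) hN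
      (fun e => absurd (Multiset.mem_of_le (S.le hN) e) (by decide)) nf) (by rw [S.rr]; decide)
    rw [S.rr] at h
    revert h
    decide
  let K : Submodule K3 V3 :=
    { carrier := {v | ∀ g, rho (θ g) v = v}
      add_mem' := fun {u v} hu hv g => by rw [map_add, hu g, hv g]
      zero_mem' := fun g => map_zero _
      smul_mem' := fun c v hv g => by rw [map_smul, hv g] }
  have h0 : K ≠ ⊥ := fun e => nf fun v hv => (Submodule.mem_bot K3).1 (e ▸ (hv : v ∈ K))
  have h1 : K ≠ ⊤ := fun e => by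
    have d := Ty.dim_t D (rh θ) (RR_top D (rh θ)) 2
    have b : Wt D (rh θ) 2 = ⊥ := (Submodule.eq_bot_iff _).2 fun v hv => by
      have e1 : rho (θ D.t) v = v := (e ▸ Submodule.mem_top : v ∈ K) D.t
      have e2 : rho (θ D.t) v = (D.ζ : K3) ^ 2 • v := End.mem_eigenspace_iff.1 hv
      by_contra hv0
      have e3 : (D.ζ : K3) ^ 2 = 1 := smul_left_injective K3 hv0 (by
        change (D.ζ : K3) ^ 2 • v = (1 : K3) • v
        rw [← e2, e1, one_smul])
      rw [← Units.val_pow_eq_pow_val, Units.val_eq_one] at e3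
      have := D.hξ
      rw [e3, orderOf_one] at this
      omega
    rw [b, finrank_bot, S.rr] at d
    revert d
    decide +kernel
  have hU : ∀ h ∈ H, ∀ v ∈ K, rho h v ∈ K := fun h hh v hv g => by
    obtain ⟨g', hg'⟩ := S.emb.norm h⁻¹ (inv_mem hh) g
    exact M6.cj rho hg' (hv g')
  have hE : K ≤ Es (θ D.t) (D.ζ ^ 2) 0 := fun v hv => by
    rw [End.mem_eigenspace_iff, pow_zero, one_smul]
    exact hv D.t
  obtain ⟨z, y, m, t, t', Φ⟩ := S.fz
  obtain ⟨g1, o1, c1, f1⟩ := Φ.ord80 rfl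
  obtain ⟨g2, c2, s2, v, hv, n2⟩ := Φ.fix6 rfl K hE (fun v hv g => by rw [← Fr_rho, hv g])
    fun u hu v hv g => by rw [br_rho, hu g, hv g]
  have m1 : g1 ∈ H := stab S.max h0 h1 hU fun v hv => by rw [f1 v (hE hv)]; exact hv
  have m2 : g2 ∈ H := stab S.max h0 h1 hU s2
  exact n2 (M6.zp rho ((cen_t D S.emb).2 g2 m2 g1 m1 c2 c1 o1) (f1 v hv))

end CL.E81
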