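/-
`E₈(3)`, `L₂(81)`: there is no subgroup `L₂(3^7)`.
-/
import Cfsg.Agent.KSG.E81.Defs

set_option autoImplicit false
set_option maxRecDepth 100000
set_option exponentiation.threshold 4096
set_option backward.isDefEq.respectTransparency false

namespace CL.E81
open Module Function Finset CL.SL2Wt CL.Chev CL.AltE Cfsg.Lie
open CL.E82 (R8 val ww)
open CL.E83 (K3 G3)
open Matrix hiding zpow_add zpow_mul zpow_sub one_zpow
open scoped MatrixGroups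

namespace N7
open CL.E83

/-- the word -/
def wl : List (Fin 8) := [3, 2, 0, 1, 6, 5, 3, 4, 2]
/-- its matrix -/
def wM : List (List ℤ) := [[0, 1, 0, 0, 0, 0, 0, 0], [0, 0, 1, 0, 0, 0, 0, 0], [-1, -1, -1, -1, 0, 0, 0, 0], [1, 1, 1, 2, 1, 1, 1, 0], [0, -1, -1, -2, -1, -1, -1, 0], [0, 1, 1, 2, 1, 0, 0, 0], [0, 0, 0, 0, 0, 1, 0, 0], [0, 0, 0, 0, 0, 0, 1, 1]]
/-- the eigenvector -/
def wU : List ℤ := [1, 386, 332, 335, 314, 374, 7, 0]
/-- the values of the weights -/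
def wC : ℕ := 0x7016f01e70015017f003701ed00a5020f003d00b5021d0001018101ef0136018701ff0144014b0211003f00b7021f000301a902210166016d004f01b701be000c0013017b0217006c01d401db00bd00020009007a008101e90004016c017301e401eb013000120019018101f900df0024002b009c00a3020b00ed00f4003900b10034003b01a3021b004900a200a90211006600b7022100d90006016e017501e601ed01320014001b018301fb017e018500ca014201930036003d01a5021d004b01b501ec01f3013801b00201014800a400ab0213006800b9020e0215015a01d2003c004301ab00b400bb021c00070168016f007801e001e7005100c9000e0015016a01bb00100178017f00db0022007300eb00300037006e01d80006007e01e601ed009000e10159009e00a5002800a00208020f00f10036003d00ae00b5021d014a0002016c01bd0012017a018101da0008008001e801ef017201ea012f013600180180018701f801ff0144002a00a2020a021100f30038003f00b000b7021f003a01a201a9021a022101660048004f01b7000c00a8021002170065006c01d400b600bd0002007a02200004016c01e4001200d800df0024009c00ed003400a202220006016e01e60014017e003601ec00a4020e003c00b4021c0000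
/-- complements of the supports and a missing weight -/
def LL : List (ℕ × ℕ) := [(0x435432fd74f7402ef2ebffff975ef5d3fff7ff5432d30abff9fff2ebfeba7fffffffffffffe5d7fd74fff9ffd50cb4c2affefffcbaf7ae9ffffd74f7402ef2ebf4c2ac20, 1), (0x55755f77755f5debb73b75ff3b71055dfdfe1dfddfbbbaafaed32f22ecef77f74fffffff2efeef73744f4cb75f55dddfbbfb87fbfbaa08edcffaedcedd7bafaaeeefaaeaa, 14), (0x77777f7267ef7f6f6f7372fb73a3addb8f2e5bdb3f73bbbf1f9f3f56547776f6abf7fefd56f6eee2a6afcf9f8fdddcefcdbda74f1dbb5c5cedf4ecef6f6fef7e64efeeeee, 4), (0x2a9cf3e4eb5bfbf6fdff278ad7beff39fefdfb7eff93e56bdf7f94ff7f3e4eb1b4e10872d8d727cfeff29fefbd6a7c9ff7edfbf7f9cff7deb51e4ffbf6fdfdad727cf3954, 1), (0x54f5d1d7f74cbd72cffd55bfded77f54b9d3a7ef5c3af2eafdbfa6feebdd7df1dfefff7fb8fbebbd77f65fdbf574f5c3af7e5cb9d2afeeb7bfdaabff34ebd32efeb8baf2a, 7), (0x7f6f7f3b3bef7b4d6d6fe8ee6bee6dff2dfe3f5e2f5dbf9f3f0fcd5f8db6f79ec1fb0df8379ef6db1fab3f0fcf9fdbaf47afc7fb4ffb677d67717f6b6b2def7dcdcfef6fe,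 8), (0xc89d2e5be0fb970e9df27dfefdffa6cbff7effe5d3bc4c9f72e9ffdfbff4f97fefdfbf7fe9f2ffdfbff974ef9323dcba7ff7effd365ffbf7fbe4fb970e9df07da74b9130, 1), (0x7fefacb79ff6cf9ddbcb736dadebb6f767fbdc1fefe87fd5f8ee3fd19ebf3b56773b0dcee6adcfd798bfc771fabfe17f7f83bdfe6ef6dd7b5b6ced3dbb9f36ff9ed35f7fe, 11), (0x27b3fecfe6aff67feb989deff7313acfbdff9b65737fd9fcd7be6fa4ee0becffd7fb0dfebff37d07725f67deb3f9bfecea6d9ffbdf35c8ceff7b919d7fe6ff567f37fcde4, 1), (0x7771ff76f607f67fee7e75b1dbf77b49b5ffbef77333dbaff3bda27e6ffb77619f86f61f986eedff67e45bdcff5dbccceef7dffad92deefdb8dae7e77fe6fe06f6eff8eee, 4), (0x2fbf7caa7bfe1fcf5bcfbcfa3fde64f27df22dffadd4bdfd3cdeedf929f6efff09f7fef90fff76f949fb77b3cbfbd2bb5ffb44fbe4f267bfc5f3df3daf3f87fde553efdf4, 1), (0x73f6aefed5f9abbfb1d7ef6bfcd7de9ada05e73afce77b75ef72dffc73bdbbbfb7730ceedfdddbdce3ffb4ef7aedee73f5ce7a05b597beb3fd6f7eb8dfdd59fab7f756fce, 4), (0x2f0fef6d9dfdbfbdb677bf87c8dfdffedb07e77bfcef6d9fefe1f27ff3bd87c9f6c80136f93e1bdcffe4f87f7f9b6f73fdee7e0db7ffbfb13e1fdee6dbdfdbfb9b6f7f0f4,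 1), (0x2fbfadefc9e4cf3f87ffbb7cb4aed7f7a3dbf09f7e4e7df7c8b3fddbdf7caa7e7d3fffcbe7e553efbdbbfcd13efbe727ef90fdbc5efeb752d3eddffe1fcf32793f7b5fdf4, 1), (0x7bdeeeb1cdf9ff9f328f76d7f43ddebf7addf3fdaee96f7d4ff0bbadbf651ee7fadcf3b5fe778a6fdb5dd0ff2bef69775bfcfbb5efd7bbc2feb6ef14cf9ff9fb38d777bde, 5), (0x7b7eed1fcff29b9fdc6dcff5b19ff7b676f1e8eeedec7f3ed87ddb7bbb5fb42f7f9ef79fef42dfadddedbbe1b7cfe37b777178f6e6deff98daff3b63bf9d94ff3f8b77ede, 5), (0xd3fdf4efffdf0fbfd3889fbfa693ffbe9df97c4d2f7fcbeff7f4f074ec9e5be9ff7feff97da79372e0f2feff7d3fef4b23e9fb97dffc965fdf911cbfdf0fbfff72fbfcb0, 1), (0x7b6a3f56beab6f6def3d557beb7d6babbcfd3fad7f739f16f78faf2f6fcf71d79f77feef9eb8ef3f6f4f5f1ef68f9cefeb5fcbf3dd5d6bed7deaabcf7b6f6d57d6afc56de, 5), (0x77e3bdbba6bccbdd5cefee77a6b7f3c77bdbf1beaefcdbd7546ddbfabf75fa8f7b5ef7adef15faefd5fdbb62aebdb3f757d8fdbdee3cfed65ee77f73abbd33d65ddbdc7ee, 4), (0x7fedbdbabb56efdd5fa3fe78ef78bf71572bdeb9af94ffc779ef7da736e6fb5fb937fec9dfadf676ce5bef79ee3ff29f59d7bd4ea8efd1ef71e7fc5fabbf76add5dbdb7fe,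 11), (0x5defdeba2ff5ddd97bcffeb906bff4fb73def0ff8ef5fedd1aeef6f93d75fe592ba7fe5d49a7faebc9f6f7758bb7faf71ff0f7bcedf2ffd609d7ff3de9bbbaff45d7bf7ba, 23), (0x7edba3fd4ebfabb6fdb7ef1f551df9eedf26ebb8fdef47f3977fd6aff16f9ab9ee6dfb6779d59f68ff56bfee9cfe2f7bf1dd764fb779fb8aaf8f7edbf6dd5fd72bfc5db7e, 7), (0x7bfcaefb5b59c6bf7adefe763cfef43dfadcf5b7b28f7f653efcf9f9fdf0bbef695ef7a96f7dd0fbf9f9f3f7ca6fef14dedaf3b5fbc2f7f3c6e7f7b5efd639adadf753fde, 5), (0x8ba51effcba7de296f7bfa7dfffcba7de297f7bdffe947be5d1f2fff7bfefe9f7ca053ef97f7fdefff4f8ba7de297ffbdefe947be5d3fffbe5fdef6947be5d3ff78a5d10, 1), (0x7fcf6ddc1fee762dcff8dddb6dfb2df3bdfa1fe773662fdebd8f6ff76cdb9ddf8ef5faf71fbb9db36eff6f1bd7bf466cee7f85fbdcfb4dfb6dbbb1ff3b46e77f83bb6f3fe, 10), (0x5dff8effc9f7e9bbb0d7ed74f5be5effd52fbabadfcf7ef5cb70c9fde77eba2fdd1ef78bbf45d7ee7bf930ed3af7ef3fb5d5df4abff7a7daf2eb7eb0ddd97ef93ff71ffba, 19), (0x7adef3bdfde9db56a4e3efd7befb97bf1a0dd5fa6e7de77bee315bf3b6fddfaf7edcf3b7ef5fbbf6dcfda8c77dee7be765fabb058fde9df7debf7c7256adb97bfbdcf7b5e,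 5), (0x2fb9ff87fc1fb6dfb7e413bfdfcfdb6c4f27efc3e1b9ddeee7f3b6df93db6df0ffefff7ff0fb6dbc9fb6dcfe777bb9d87c3f7e4f236dbf3fbfdc827edfb6df83fe1ff9df4, 1), (0x7bde3ffdedf302efb5feef1d979fc7bef6f568b6f1ffaf77ca53d6fbfb7bda397e2dfb47e9c5bdedfdf6bca53eef5ff8f6d16af6f7de3f9e9b8f77fadf740cfb7bffc7bde, 5), (0x55e75ffeb3ff34e9febafbf2ef40afdaeff74fd5d1d7badfffcd79865aeaffcebdd6f6bbd73ff575a619eb3fffb5deb8babf2eff75bf502f74fdf5d7f972cffcd7ffae7aa, 11), (0x7ef9e3dbdc1fbbb635f9ceafdddb9b6cfff7cf6ebdaf57ea677356f7fa97bdb9f3eb0d7cf9dbde95fef6acee657eaf5bd76f3efff36d9dbbbf5739fac6dddf83bdbc79f7e, 7), (0x7adcf3fdef5b9ff6fef7f9c7b78f773ccc25a95bfdbfe76bdefdebdbc33fdeee56d801b6a777bfcc3dbd7bf7bd6e7fdbfda95a4333ceef1ede39fef7f6ff9daf7bfcf3b5e, 5), (0x7366fc7f33fafffddb1bfbbe4b60bc97eef8dfddffdefb1dbdee7404dceef7d8edefff7b71bef773b202e77bdb8df7bffbbfb1f77e93d06d27ddfd8dbbfff5fccfe3f66ce, 4), (0x190dfcd7613fdfbfff59fcd7ff7f90dd62cfe6bdfbfc86eb3fffffef59fcd7fe6b909d67feb3f9af7fffffcd7613fdfbd67f346bb09feffeb3f9afffdfbfc86eb3fb0980,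 1), (0x7f5b7c79fab47fef5b5bfadcfaeaaae7e3db56dfbede8fbd71de7d55def4d77ef8bdfbd1f7eeb2f7baabe7b8ebdf17b7dfb6adbc7e755575f3b5fdadaf7fe2d5f9e3edafe, 13), (0x7eff329f7bf56fc6facddb747eeeecff63de768feeddb7f0bbdcf9dd9ddcf96eed1ef78b7769f3bb9bb9f3bdd0fedbb77f16e7bc6ff37777e2edbb35f63f6afdef94cff7e, 7), (0x7eeff1fa3df6f6f417bef8f96f6d5df3e5fabed5b3f6f7db29e3ef8f4de3ff5e8bb7fedd17affc7b2f1f7c794dbef6fcdab7d5fa7cfbab6f69f1f7de82f6f6fbc5f8ff77e, 7), (0x5dfbdfd7faafd47befb457ae9f7cf3ef9f2ffd61535bdefef6bfb4abf78a7df175eb0d7ae8fbe51efd52dfd6f7f7bdaca86bff4f9f7cf3ef975ea2df7de2bf55febfbdfba, 13), (0x4179341f7ffe4f27f7c164ffbf7ffdfffffff2793fbe0b27fffbf7eff9341f7f27909e4fef82c9ff7efdfffe4d07dfc9e4fffffffbffefdff2683efe4f27ffef82c9e820, 1)]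

theorem ok1 : corM (D := chevE8) (piL wl) = matL 8 8 wM := by decide +kernel
theorem ok2 : ∀ i, (vecL wU ᵥ* matL 8 8 wM) i ≡ vecL wU i * (3 : ℕ) [ZMOD (547 : ℕ)] := by decide +kernel
theorem ok3 : ∀ i : Fin 248, vecL wU ⬝ᵥ wtA chevE8 i ≡ lk wC 16 65535 i [ZMOD (547 : ℕ)] := by decide +kernel

/-- a union -/
noncomputable def orN (g : ℕ → ℕ) (n : ℕ) : ℕ := Nat.rec 0 (fun i s => Nat.lor (g i) s) n

theorem orN_bit (g : ℕ → ℕ) (n b : ℕ) : (orN g n).testBit b = true ↔ ∃ i < n, (g i).testBit b = true := by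
  induction n with
  | zero => simp [orN]
  | succ n ih =>
    change (g n ||| orN g n).testBit b = true ↔ _
    rw [Nat.testBit_or, Bool.or_eq_true, ih]
    constructor
    · rintro (h | ⟨i, hi, h⟩)
      exacts [⟨n, by omega, h⟩, ⟨i, by omega, h⟩]
    · rintro ⟨i, hi, h⟩
      rcases Nat.lt_succ_iff_lt_or_eq.1 hi with e | rfl
      exacts [Or.inr ⟨i, e, h⟩, Or.inl h]

/-- a union over the weights -/
noncomputable def orW (g : ℕ → ℕ) (n : ℕ) : ℕ → ℕ → ℕ → ℕ :=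
  Nat.rec (fun _ e _ => g e) (fun _ ih r e p =>
    orN (fun j => ih (Nat.div r 3) (Nat.add e (Nat.mul p j)) (Nat.mul p 3)) (Nat.succ (Nat.mod r 3))) n

theorem orW_bit (g : ℕ → ℕ) (b n r e p : ℕ) (hr : r < 3 ^ n) :
    (orW g n r e p).testBit b = true ↔ ∃ j ∈ J r, (g (e + p * j)).testBit b = true := by
  induction n generalizing r e p with
  | zero =>
    obtain rfl : r = 0 := by omega
    have : J 0 = {0} := by decide
    rw [this]
    simp [orW]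
  | succ n ih =>
    change (orN (fun j => orW g n (r / 3) (e + p * j) (p * 3)) (r % 3 + 1)).testBit b = true ↔ _
    rw [orN_bit]
    constructor
    · rintro ⟨i, hi, h⟩
      obtain ⟨j, hj, h⟩ := (ih _ _ _ (by omega)).1 h
      refine ⟨i + 3 * j, mem_J'.2 ⟨by omega, by rwa [show (i + 3 * j) / 3 = j by omega]⟩, ?_⟩
      rwa [show e + p * (i + 3 * j) = e + p * i + p * 3 * j by ring]
    · rintro ⟨j, hj, h⟩
      rw [mem_J'] at hj
      refine ⟨j % 3, by omega, (ih _ _ _ (by omega)).2 ⟨j / 3, hj.2, ?_⟩⟩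
      rwa [show e + p * (j % 3) + p * 3 * (j / 3) = e + p * (j % 3 + 3 * (j / 3)) by ring, Nat.mod_add_div]

/-- a single bit -/
def bit (k : ℕ) : ℕ := Nat.shiftLeft 1 k

theorem bit_iff (k b : ℕ) : (bit k).testBit b = true ↔ k = b := by
  change (1 <<< k).testBit b = true ↔ _
  rw [Nat.one_shiftLeft, Nat.testBit_two_pow, decide_eq_true_eq]

/-- the check of the torus -/
noncomputable def chkE : Bool := allLt 547 fun a => Nat.beq a 0 ||
  forceN (orN (fun i => bit (Nat.mod (Nat.mul a (lk wC 16 65535 i)) 547)) 248) fun S =>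
    LL.any fun c => Nat.beq (Nat.land S c.1) 0 && Nat.testBit S c.2

/-- the check of the modules -/
noncomputable def chkS (a l : ℕ) : Bool := allLt l fun i => forceN (Nat.mul 2 (Nat.add a i)) fun r =>
  forceN (orW (fun j => bit (Nat.mod (Nat.add r (Nat.mul 545 j)) 547)) 7 r 0 1) fun M =>
    LL.all fun c => !Nat.beq (Nat.land M c.1) 0 || !Nat.testBit M c.2

theorem cE : chkE = true := by decide +kernel
theorem cS0 : chkS 0 500 = true := by decide +kernel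
theorem cS1 : chkS 500 300 = true := by decide +kernel
theorem cS2 : chkS 800 200 = true := by decide +kernel
theorem cS3 : chkS 1000 94 = true := by decide +kernel

theorem spec {r : ℕ} (hr : r < 2187) (h2 : r % 2 = 0) {c : ℕ × ℕ} (hc : c ∈ LL)
    (h : ∀ j ∈ J r, c.1.testBit ((r + (547 - 2) * j) % 547) = false) (j : ℕ) (hj : j ∈ J r) :
    (r + (547 - 2) * j) % 547 ≠ c.2 := fun e => by
  have k : ∀ a l, chkS a l = true → a ≤ r / 2 → r / 2 < a + l → False := fun a l h1 h3 h4 => by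
    have h5 := (allLt_iff _ _).1 h1 (r / 2 - a) (by omega)
    rw [forceN_eq, show Nat.mul 2 (Nat.add a (r / 2 - a)) = r by change 2 * (a + (r / 2 - a)) = r; omega, forceN_eq,
      List.all_eq_true] at h5
    have h6 := h5 c hc
    have hb := fun b => orW_bit (fun j => bit (Nat.mod (Nat.add r (Nat.mul 545 j)) 547)) b 7 r 0 1 hr
    simp only [bit_iff, zero_add, one_mul] at hb
    rw [Bool.or_eq_true, Bool.not_eq_true', Bool.not_eq_true'] at h6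
    rcases h6 with h6 | h6
    · refine Nat.ne_of_beq_eq_false h6 (Nat.eq_of_testBit_eq fun b => ?_)
      rw [Nat.land_eq, Nat.testBit_and, Nat.zero_testBit, Bool.and_eq_false_imp]
      intro h7
      obtain ⟨j', hj', rfl⟩ := (hb b).1 h7
      exact h j' hj'
    · exact Bool.false_ne_true (h6.symm.trans ((hb _).2 ⟨j, hj, e⟩))
  by_cases a0 : r / 2 < 500
  · exact k _ _ cS0 (by omega) (by omega)
  by_cases a1 : r / 2 < 800
  · exact k _ _ cS1 (by omega) (by omega)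
  by_cases a2 : r / 2 < 1000
  · exact k _ _ cS2 (by omega) (by omega)
  exact k _ _ cS3 (by omega) (by omega)

theorem pt0 {ι κ : Type*} [Fintype κ] [DecidableEq κ] {R : RootSys ι κ} {K Γ : Type*} [Field K] [Group Γ]
    {S : StData R K Γ} [Finite ι] [IsAlgClosed K] {φ : K →+* K} {q : ℕ} {σ : Monoid.End Γ} (A : S.Alg φ q σ)
    {G : Type*} [Group G] [Finite G] {ψ : G →* Γ} (hψ : Injective ψ)
    (hfix : ∀ y, y ∈ ψ.range ↔ σ y = y) {w : Equiv.Perm ι} (hw : w ∈ R.W) {r : ℕ} [Fact r.Prime]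
    (hG : ¬ r ^ 2 ∣ Nat.card G) {U : κ → ℤ} {i0 : κ} (h0 : U i0 = 1)
    (hU : ∀ i, (U ᵥ* R.coM w) i ≡ U i * q [ZMOD r]) {z : Kˣ} (hz : orderOf z = r) {x : G}
    (hx : x ^ r = 1) : ∃ y, ∃ a < r, y * ψ x * y⁻¹ = A.r3.torHom (fun i => z ^ ((a : ℤ) • U) i) := by
  let f : Subgroup.zpowers z →* (κ → Kˣ) :=
    MonoidHom.mk' (fun c i => c.1 ^ U i) fun c d => by
      ext i; simp only [Subgroup.coe_mul, mul_zpow, Pi.mul_apply]
  have hr := (Fact.out : r.Prime).pos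
  have hf : ∀ c, ∃ a < r, f c = fun i => z ^ (((a : ℕ) : ℤ) • U) i := fun ⟨_, a, ha⟩ => by
    have h : 0 ≤ a % r ∧ a % r < r := ⟨Int.emod_nonneg _ (by omega), Int.emod_lt_of_pos _ (by omega)⟩
    refine ⟨(a % r).toNat, by omega, funext fun i => ?_⟩
    rw [Int.toNat_of_nonneg h.1, Pi.smul_apply, smul_eq_mul, zpow_mul, ← hz, zpow_mod_orderOf]
    subst ha
    rfl
  obtain ⟨y, c, h1, -⟩ := exists_syl A hψ hfix hw f
    (fun c d e => Subtype.ext (by simpa [f, h0] using congrFun e i0)) (fun c => by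
      obtain ⟨a, -, e⟩ := hf c
      rw [e, RootSys.act_zpow_const]
      funext i
      rw [Pi.pow_apply, ← zpow_natCast, ← zpow_mul, zpow_eq_zpow_iff_modEq, hz, smul_vecMul]
      simpa [mul_assoc] using (hU i).mul_left a) (a := 1)
    (by rw [Nat.card_zpowers, hz, pow_one]) hG hx
  obtain ⟨a, ha, e⟩ := hf c
  exact ⟨y, a, ha, e ▸ h1⟩

theorem pt {φ : K3 →+* K3} {σ : Monoid.End (chevE8.SteinbergGroup K3)} {ψ : G3 →* chevE8.SteinbergGroup K3}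
    (A : (stS chevE8 K3).Alg φ 3 σ) (h1 : Injective ψ) (h2 : ∀ y, y ∈ ψ.range ↔ σ y = y) {z : K3}
    (hz : IsPrimitiveRoot z 547) {x : G3} (hx : x ^ 547 = 1) : ∃ a < 547, (a = 0 → x = 1) ∧
      IsEig ((w248 K3).E (ψ x)) (univ.val.map fun i : Fin 248 => z ^ (a * lk wC 16 65535 i)) := by
  have := Fact.mk (by norm_num : Nat.Prime 547)
  obtain ⟨z, rfl⟩ := hz.isUnit (by norm_num)
  have ho := (IsPrimitiveRoot.coe_units_iff.1 hz).eq_orderOf.symm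
  have e := (coM_word (D := chevE8) wl).trans ok1
  obtain ⟨y, a, ha, h3⟩ := pt0 A h1 h2 (word_mem_W (D := chevE8) wl) (r := 547) (by rw [card_G3]; decide +kernel)
    (U := vecL wU) (i0 := (0 : Fin 8)) rfl (e ▸ ok2) ho hx
  have h5 : ∀ i : Fin 248, uchr (fun i => z ^ ((a : ℤ) • vecL wU) i) (wtA chevE8 i) =
      z ^ (a * lk wC 16 65535 i) := fun i => by
    rw [uchr_zpow_const, ← zpow_natCast, zpow_eq_zpow_iff_modEq, ho, smul_dotProduct]
    exact_mod_cast (ok3 i).mul_left a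
  refine ⟨a, ha, fun e => h1 ((MulAut.conj y).injective ?_), ?_⟩
  · rw [MulAut.conj_apply, h3, e, map_one, map_one, ← map_one A.r3.torHom]
    exact congrArg _ (funext fun i => by simp)
  · exact (congrArg (fun f => IsEig _ (univ.val.map f)) (funext fun i => congrArg Units.val (h5 i))).mp
      (isEig_tor (w248 K3) h3)

end N7

open CL.E83 N7 in
theorem no2187 {F : Type*} [Field F] [Fintype F] (h : Fintype.card F = 2187) (H : Subgroup G3) :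
    IsEmpty (H ≃* ProjectiveSpecialLinearGroup (Fin 2) F) := ⟨fun e => by
  obtain ⟨θ, hθ⟩ := exists_theta _ H e
  obtain ⟨φ, σ, ψ, A, h1, h2, -⟩ := exists_alg (F := ZMod 3) (D := chevE8) (by simp) card_ker_E8
  rw [ZMod.card] at A
  have : CharP F 3 := charP_of_card_eq_prime_pow (show Fintype.card F = 3 ^ 7 from h)
  let _ := ZMod.algebra F 3
  let f : F →+* K3 := (IsAlgClosed.lift (R := ZMod 3) (S := F) (M := K3)).toRingHom
  obtain ⟨R, r1, r2⟩ := exists_wts f ((w248 K3).E.comp (ψ.comp θ))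
  obtain ⟨-, ν, hν⟩ := exists_root 3 (n := 2187 + 1) (by norm_num)
  obtain ⟨c, hc⟩ := exists_ev (f := f) (h ▸ hν)
  have hz := hν.pow (by positivity) (show 2187 + 1 = 4 * 547 from rfl)
  have h4 : θ (c ^ 4) ^ 547 = 1 := by
    have := ev_pow (ev_pow hc 4) 547
    rw [hz.pow_eq_one] at this
    rw [← map_pow, ev_one this, map_one]
  obtain ⟨a, ha, a1, a2⟩ := pt A h1 h2 hz h4
  have hm1 : θ (-1) = 1 := (hθ _).2 (Subgroup.mem_center_iff.2 fun g => by simp)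
  have e1 := sum_eq hz (by norm_num) (e := fun i => a * lk wC 16 65535 i) a2 (r2 _ _ (ev_pow hc 4))
  have ev : ∀ r ∈ R, r % 2 = 0 := fun r hr => by
    have e := (r2 _ _ ev_neg).unique (isEig_of_basis (Pi.basisFun K3 (Fin 248)) (fun _ => 1) fun i => by simp [hm1])
    have : (-1 : K3) ^ r ∈ R.bind (wts · (-1 : K3)) := Multiset.mem_bind.2 ⟨r, hr, Multiset.mem_map.2 ⟨0, by simp, by simp⟩⟩
    rw [e, Multiset.mem_map] at this
    obtain ⟨_, -, e'⟩ := this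
    refine Nat.even_iff.1 ((neg_one_pow_eq_one_iff_even fun e2 => ?_).1 e'.symm)
    have e3 : ((2 : ℕ) : K3) = 0 := by push_cast; linear_combination -e2
    exact absurd ((CharP.cast_eq_zero_iff K3 3 2).1 e3) (by norm_num)
  have c1 := (allLt_iff _ _).1 cE a ha
  rw [Bool.or_eq_true, Nat.beq_eq, forceN_eq, List.any_eq_true] at c1
  rcases c1 with c1 | ⟨d, hd, c1⟩
  · exact hz.pow_ne_one_of_pos_of_lt two_ne_zero (by norm_num) (ev_center (ev_pow hc 4) ((hθ _).1 (a1 c1)))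
  rw [Bool.and_eq_true, Nat.beq_eq, orN_bit] at c1
  obtain ⟨c1, i, hi, c2⟩ := c1
  rw [bit_iff] at c2
  have e2 := e1 fun k => if d.1.testBit k then 1 else 0
  rw [sum_eq_zero fun i hi => if_neg fun k => by
    have := congrArg (Nat.testBit · (a * lk wC 16 65535 i % 547)) c1
    simp only [Nat.land_eq, Nat.testBit_and, Nat.zero_testBit, k, Bool.and_true] at this
    exact Bool.false_ne_true (this.symm.trans ((orN_bit _ _ _).2 ⟨i, mem_range.1 hi, (bit_iff _ _).2 rfl⟩))] at e2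
  have e3 := e1 fun k => if k = d.2 then 1 else 0
  rw [Multiset.sum_eq_zero fun x hx => by
    obtain ⟨r, hr, rfl⟩ := Multiset.mem_map.1 hx
    refine sum_eq_zero fun j hj => if_neg (spec (h ▸ r1 r hr) (ev r hr) hd (fun j' hj' => ?_) j hj)
    have e4 := sum_eq_zero_iff.1 (Multiset.sum_eq_zero_iff.1 e2.symm _ (Multiset.mem_map_of_mem _ hr)) j' hj'
    simpa using e4] at e3
  have e5 := sum_eq_zero_iff.1 e3 i (mem_range.2 hi)
  exact one_ne_zero ((if_pos c2).symm.trans e5)⟩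

end CL.E81
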